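import Mathlib
import Cfsg.Agent.H6.Lang

/-!
Field and graph-field automorphisms of `PSL_n(q)`.
-/

set_option autoImplicit false

namespace Cfsg.Agent.H6

open Matrix

variable {ι : Type*} [Fintype ι] [DecidableEq ι] {F : Type*} [Field F]

theorem slD_eq_one_iff (h2 : 2 ≤ Fintype.card ι) (g : GL ι F) :
    slD ι F g = 1 ↔ g ∈ Subgroup.center (GL ι F) := by
  rw [← slD_ker h2, MonoidHom.mem_ker]

theorem slD_scalar_mul (h2 : 2 ≤ Fintype.card ι) (u : Fˣ) (g : GL ι F) :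
    slD ι F (GeneralLinearGroup.scalar ι u * g) = slD ι F g := by
  rw [map_mul, (slD_eq_one_iff h2 _).2 (scalar_mem_center u), one_mul]

theorem slΦI_conj (σ : F ≃+* F) (g : GL ι F) :
    slΦ ι F σ * slI ι F * slD ι F g * (slΦ ι F σ * slI ι F)⁻¹ =
      slD ι F ((glField ι F σ * glIT ι F) g) := by
  rw [MulAut.mul_apply, ← slΦ_conj, ← slI_conj]; group

theorem sl_lang_field [Finite F] (h2 : 2 ≤ Fintype.card ι) {σ : F ≃+* F} {r : ℕ}
    (hr : orderOf σ = r) (g : GL ι F) (hg : slD ι F (tnrm (glField ι F σ) r g) = 1) :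
    ∃ h, slD ι F g = slD ι F (h * (glField ι F σ h)⁻¹) := by
  have : Nonempty ι := Fintype.card_pos_iff.1 (by omega)
  obtain ⟨u, h, e⟩ := lang_gl_field hr ((slD_eq_one_iff h2 _).1 hg)
  exact ⟨h, by rw [← e, slD_scalar_mul h2]⟩

theorem sl_lang_graphField [Finite F] (h2 : 2 ≤ Fintype.card ι) {σ : F ≃+* F}
    (hσ : orderOf σ = 2) (g : GL ι F) (hg : slD ι F (tnrm (glField ι F σ * glIT ι F) 2 g) = 1) :
    ∃ h, slD ι F g = slD ι F (h * ((glField ι F σ * glIT ι F) h)⁻¹) := by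
  have : Nonempty ι := Fintype.card_pos_iff.1 (by omega)
  obtain ⟨u, h, e⟩ := lang_gl_graphField hσ ((slD_eq_one_iff h2 _).1 hg)
  exact ⟨h, by rw [← e, slD_scalar_mul h2]⟩

theorem orderOf_slΦ (h2 : 2 ≤ Fintype.card ι) (σ : F ≃+* F) : orderOf (slΦ ι F σ) = orderOf σ :=
  orderOf_injective _ (slΦ_injective h2) σ

theorem orderOf_of_slΦI (h3 : 3 ≤ Fintype.card ι) {σ : F ≃+* F} (hσ : σ ≠ 1) {r : ℕ}
    (hr : r.Prime) (h : orderOf (slΦ ι F σ * slI ι F) = r) : r = 2 ∧ orderOf σ = 2 := by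
  have hc : Commute (slΦ ι F σ) (slI ι F) := slΦ_mul_slI σ
  have h1 := pow_orderOf_eq_one (slΦ ι F σ * slI ι F)
  rw [h, hc.mul_pow, ← map_pow] at h1
  have h2 : slI ι F ^ 2 = 1 := by rw [pow_two, slI_mul_self]
  rcases hr.eq_two_or_odd' with rfl | ⟨k, rfl⟩
  · rw [h2, mul_one, ← map_one (slΦ ι F)] at h1
    exact ⟨rfl, orderOf_eq_prime (slΦ_injective (by omega) h1) hσ⟩
  · rw [pow_succ (slI ι F), pow_mul (slI ι F), h2, one_pow, one_mul] at h1
    exact absurd (h1 ▸ one_mem _) (slΦI_notMem h3 _)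

theorem sl_surj_field (h2 : 2 ≤ Fintype.card ι) {F₀ : Type*} [Field F₀] {σ : F ≃+* F}
    {e : F₀ →+* F} (he : ∀ x, σ x = x ↔ ∃ y, e y = x) (h : GL ι F)
    (hh : slD ι F (h * (glField ι F σ h)⁻¹) = 1) :
    ∃ y : GL ι F₀, slD ι F h = slD ι F (GeneralLinearGroup.map e y) := by
  have : Nonempty ι := Fintype.card_pos_iff.1 (by omega)
  obtain ⟨u, hu⟩ := (mem_center_gl_iff' _).1 ((slD_eq_one_iff h2 _).1 hh)
  obtain ⟨v, hv⟩ := exists_fixed_smul (mul_inv_eq_iff_eq_mul.1 hu)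
  obtain ⟨y, hy⟩ := exists_map_of_fixed he hv
  exact ⟨y, by rw [hy, slD_scalar_mul h2]⟩

theorem det_map_range [Nonempty ι] [Finite F] {F₀ : Type*} [Field F₀] {σ : F ≃+* F}
    {e : F₀ →+* F} (he : ∀ x, σ x = x ↔ ∃ y, e y = x) (u : Fˣ) :
    u ∈ ((GeneralLinearGroup.det : GL ι F →* Fˣ).comp (GeneralLinearGroup.map e)).range ↔
      u ^ (Nat.card (fixF σ) - 1) = 1 := by
  rw [← units_fixed_iff, he]
  constructor
  · rintro ⟨y, rfl⟩
    exact ⟨_, (det_gl_map e y).symm⟩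
  · rintro ⟨y, hy⟩
    have y0 : y ≠ 0 := fun h => u.ne_zero (by rw [← hy, h, map_zero])
    obtain ⟨g, hg⟩ := GeneralLinearGroup.det_surjective (n := ι) (Units.mk0 y y0)
    exact ⟨g, Units.ext (by rw [MonoidHom.comp_apply, det_gl_map, hg, ← hy]; rfl)⟩

theorem card_units_eq_div_mul [Fintype F] {p f r : ℕ} (hp : p.Prime) (hF : Fintype.card F = p ^ f)
    (hr : r ∣ f) : Nat.card Fˣ = (p ^ f - 1) / (p ^ (f / r) - 1) * (p ^ (f / r) - 1) := by
  classical
  rw [Nat.card_eq_fintype_card, Fintype.card_units, hF, Nat.div_mul_cancel]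
  conv_rhs => rw [← Nat.div_mul_cancel hr, pow_mul]
  simpa using Nat.sub_dvd_pow_sub_pow (p ^ (f / r)) 1 r

section unitary
variable {n q : ℕ} {τ : F ≃+* F}

theorem exists_GU_of_simil [Finite F] (hσ : orderOf τ = 2) (hτ : ∀ x, τ x = x ^ q) [NeZero n]
    {h : GL (Fin n) F} {u : Fˣ} (hu : h * ((glField (Fin n) F τ * glIT (Fin n) F) h)⁻¹ =
      GeneralLinearGroup.scalar (Fin n) u) :
    ∃ v : Fˣ, GeneralLinearGroup.scalar (Fin n) v * h ∈ GU n F q := by
  rw [glFieldIT_apply] at hu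
  have e : (h : Matrix (Fin n) (Fin n) F) * ((h : Matrix (Fin n) (Fin n) F).map τ)ᵀ =
      (u : F) • (1 : Matrix (Fin n) (Fin n) F) := by
    rw [← coe_gl_scalar, ← hu]; rfl
  have h1 : τ u = u := by
    have := congrFun (congrFun e 0) 0
    simp only [Matrix.mul_apply, transpose_apply, map_apply, Matrix.smul_apply, one_apply_eq,
      smul_eq_mul, mul_one] at this
    rw [← this, map_sum]
    exact Finset.sum_congr rfl fun i _ => by rw [map_mul, sq_of_orderOf_two hσ, mul_comm]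
  obtain ⟨l, hl0, hl⟩ := exists_norm_eq hσ (inv_ne_zero u.ne_zero) (by rw [map_inv₀, h1])
  refine ⟨Units.mk0 l hl0, ?_⟩
  rw [mem_GU_iff hτ, mul_eq_one_comm, coe_scalar_mul]
  have e2 := congrArg transpose e
  rw [transpose_mul, transpose_transpose, transpose_smul, transpose_one] at e2
  have : ((l • (h : Matrix (Fin n) (Fin n) F)).map τ) = τ l • (h : Matrix (Fin n) (Fin n) F).map τ := by
    ext i j; simp
  rw [Units.val_mk0, this, transpose_smul, smul_mul_assoc, mul_smul_comm, e2, smul_smul, smul_smul,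
    mul_comm (τ l), hl, inv_mul_cancel₀ u.ne_zero, one_smul]

theorem det_mul_conj_of_mem_GU (hτ : ∀ x, τ x = x ^ q) {g : GL (Fin n) F} (hg : g ∈ GU n F q) :
    (g : Matrix (Fin n) (Fin n) F).det * τ (g : Matrix (Fin n) (Fin n) F).det = 1 := by
  have := congrArg Matrix.det ((mem_GU_iff hτ g).1 hg)
  rwa [det_mul, det_transpose, det_one, ← coe_glField, det_glField] at this

theorem det_pow_of_mem_GU (hτ : ∀ x, τ x = x ^ q) {g : GL (Fin n) F} (hg : g ∈ GU n F q) :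
    GeneralLinearGroup.det g ^ (q + 1) = 1 := by
  have := det_mul_conj_of_mem_GU hτ hg
  rw [hτ, ← pow_succ'] at this
  exact Units.ext (by simpa using this)

theorem exists_GU_det (hτ : ∀ x, τ x = x ^ q) [NeZero n] {u : Fˣ} (hu : u ^ (q + 1) = 1) :
    ∃ g ∈ GU n F q, GeneralLinearGroup.det g = u := by
  have hu' : (u : F) * τ u = 1 := by
    rw [hτ, ← pow_succ']; simpa using congrArg Units.val hu
  have hd : (diagonal (Function.update (1 : Fin n → F) 0 u)).det = u := by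
    rw [det_diagonal, Finset.prod_update_of_mem (Finset.mem_univ _)]; simp
  refine ⟨GeneralLinearGroup.mkOfDetNeZero _ (hd.trans_ne u.ne_zero), ?_, Units.ext hd⟩
  rw [mem_GU_iff hτ]
  change (diagonal _)ᵀ * (diagonal _).map τ = 1
  rw [diagonal_transpose, diagonal_map (map_zero τ), diagonal_mul_diagonal, ← diagonal_one]
  congr 1
  funext i
  by_cases hi : i = 0
  · subst hi; simpa using hu'
  · simp [Function.update_of_ne hi]

theorem det_GU_range (hτ : ∀ x, τ x = x ^ q) [NeZero n] (u : Fˣ) :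
    u ∈ ((GeneralLinearGroup.det : GL (Fin n) F →* Fˣ).comp (GU n F q).subtype).range ↔
      u ^ (q + 1) = 1 := by
  constructor
  · rintro ⟨g, rfl⟩; exact det_pow_of_mem_GU hτ g.2
  · intro hu
    obtain ⟨g, hg, e⟩ := exists_GU_det (n := n) hτ hu
    exact ⟨⟨g, hg⟩, e⟩

theorem mem_scalars_iff_center {κ : Type} [Fintype κ] [DecidableEq κ] [Nonempty κ] (g : GL κ F) :
    g ∈ Geo.scalars κ F ↔ g ∈ Subgroup.center (GL κ F) := by
  rw [mem_center_gl_iff', Geo.mem_scalars_iff]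
  exact exists_congr fun u => by rw [Units.ext_iff, coe_gl_scalar]

theorem sl_surj_graphField [Finite F] (h2 : 2 ≤ n) (hσ : orderOf τ = 2) (hτ : ∀ x, τ x = x ^ q)
    (h : GL (Fin n) F)
    (hh : slD (Fin n) F (h * ((glField (Fin n) F τ * glIT (Fin n) F) h)⁻¹) = 1) :
    ∃ y : GU n F q, slD (Fin n) F h = slD (Fin n) F ((GU n F q).subtype y) := by
  have : NeZero n := ⟨by omega⟩
  have h2' : 2 ≤ Fintype.card (Fin n) := by simpa using h2
  obtain ⟨u, hu⟩ := (mem_center_gl_iff' _).1 ((slD_eq_one_iff h2' _).1 hh)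
  obtain ⟨v, hv⟩ := exists_GU_of_simil hσ hτ hu
  exact ⟨⟨_, hv⟩, (slD_scalar_mul h2' v h).symm⟩

end unitary

theorem inn_normal {T : Type*} [Group T] : (Inn T).Normal := inferInstance

theorem isConjUnder_of_graphField [Finite F] {n : ℕ} (hn : 2 ≤ n) (σ : F ≃+* F)
    (α : MulAut (ProjectiveSpecialLinearGroup (Fin n) F)) :
    IsConjUnder (slD (Fin n) F).range (slΦ (Fin n) F σ * slI (Fin n) F)
      (α * (slΦ (Fin n) F σ * slI (Fin n) F) * α⁻¹) := by
  have c1 : ∀ τ, Commute (slΦ (Fin n) F τ) (slΦ (Fin n) F σ * slI (Fin n) F) := fun τ =>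
    Commute.mul_right (by rw [Commute, SemiconjBy, ← map_mul, ringAut_comm, map_mul])
      (slΦ_mul_slI τ)
  have c2 : Commute (slI (Fin n) F) (slΦ (Fin n) F σ * slI (Fin n) F) :=
    Commute.mul_right (slΦ_mul_slI σ).symm (Commute.refl _)
  have key : ∀ g β, Commute β (slΦ (Fin n) F σ * slI (Fin n) F) →
      IsConjUnder (slD (Fin n) F).range (slΦ (Fin n) F σ * slI (Fin n) F)
      (slD (Fin n) F g * β * (slΦ (Fin n) F σ * slI (Fin n) F) * (slD (Fin n) F g * β)⁻¹) :=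
    fun g β h => ⟨_, ⟨g, rfl⟩, by rw [mul_assoc _ β, h.eq]; group⟩
  obtain ⟨g, τ, rfl | rfl⟩ := psl_aut hn α
  · exact key g _ (c1 τ)
  · rw [mul_assoc (slD (Fin n) F g)]
    exact key g _ ((c1 τ).mul_left c2)

end Cfsg.Agent.H6
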