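import Mathlib
import Cfsg.Agent.H6.Lang

/-!
Groups of isometries of a reflexive sesquilinear form: transvections and induced automorphisms.
-/

set_option autoImplicit false

namespace Cfsg.Agent.H6

open Matrix FTPG

variable {ι : Type*} [Fintype ι] [DecidableEq ι] {F : Type*} [Field F]

omit [DecidableEq ι] in
theorem Par.dot_eq_zero' {f g v : ι → F} (h : Par f g) (hf : f ⬝ᵥ v = 0) : g ⬝ᵥ v = 0 := by
  obtain ⟨c, -, rfl⟩ := h
  rw [smul_dotProduct, hf, smul_zero]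

section pf
variable (τ : F ≃+* F) (A : Matrix ι ι F)

/-- the functional `v ↦ B(v, a)` -/
def pf (a : ι → F) : ι → F := A *ᵥ ((τ : F →+* F) ∘ a)

omit [DecidableEq ι] in
theorem pf_dot (a v : ι → F) : pf τ A a ⬝ᵥ v = sf (τ : F →+* F) A v a := dotProduct_comm _ _

omit [DecidableEq ι] in
theorem dot_pf (a v : ι → F) : v ⬝ᵥ pf τ A a = sf (τ : F →+* F) A v a := rfl

omit [DecidableEq ι] in
theorem pf_smul (c : F) (a : ι → F) : pf τ A (c • a) = τ c • pf τ A a := by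
  rw [pf, comp_smul', mulVec_smul]; rfl

variable {τ A}

theorem pf_surj (hA : A.det ≠ 0) (f : ι → F) : ∃ b, pf τ A b = f := by
  refine ⟨τ.symm ∘ (A⁻¹ *ᵥ f), ?_⟩
  have : (τ : F →+* F) ∘ (τ.symm ∘ (A⁻¹ *ᵥ f)) = A⁻¹ *ᵥ f := by funext i; simp
  rw [pf, this, mulVec_mulVec, mul_nonsing_inv _ hA.isUnit, one_mulVec]

theorem pf_inj (hA : A.det ≠ 0) {a b : ι → F} (h : pf τ A a = pf τ A b) : a = b := by
  rw [← sub_eq_zero]
  refine sf_nondeg_right (σ := (τ : F →+* F)) hA fun u => ?_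
  rw [sf_sub_right, ← pf_dot, ← pf_dot, h, sub_self]

theorem pf_ne_zero (hA : A.det ≠ 0) {a : ι → F} (ha : a ≠ 0) : pf τ A a ≠ 0 := fun h =>
  ha (sf_nondeg_right (σ := (τ : F →+* F)) hA fun u => by rw [← pf_dot, h, zero_dotProduct])

theorem Par.pf {a b : ι → F} (h : Par a b) : Par (pf τ A a) (pf τ A b) := by
  obtain ⟨c, hc, rfl⟩ := h
  exact ⟨τ c, (_root_.map_ne_zero τ).2 hc, pf_smul τ A c a⟩

theorem par_of_pf (hA : A.det ≠ 0) {a b : ι → F} (h : Par (pf τ A a) (pf τ A b)) : Par a b := by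
  obtain ⟨c, hc, e⟩ := h
  refine ⟨τ.symm c, (_root_.map_ne_zero τ.symm).2 hc, pf_inj (τ := τ) hA ?_⟩
  rw [pf_smul, e, RingEquiv.apply_symm_apply]

theorem exists_sf_one (hA : A.det ≠ 0) {a : ι → F} (ha : a ≠ 0) :
    ∃ v, sf (τ : F →+* F) A v a = 1 := by
  obtain ⟨v, hv⟩ := exists_dot_one (pf_ne_zero (τ := τ) hA ha)
  exact ⟨v, by rw [← pf_dot, hv]⟩

theorem smul_of_perp (hA : A.det ≠ 0) {x y : ι → F}
    (h : ∀ u, sf (τ : F →+* F) A u x = 0 → sf (τ : F →+* F) A u y = 0) : ∃ c : F, y = c • x := by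
  obtain ⟨c, hc⟩ := smul_of_dot (e := pf τ A y) (x := pf τ A x) fun v hv => by
    rw [pf_dot] at hv ⊢; exact h v hv
  exact ⟨τ.symm c, pf_inj (τ := τ) hA (by rw [pf_smul, hc, RingEquiv.apply_symm_apply])⟩

theorem inSp_of_perp (hA : A.det ≠ 0) {w u v : ι → F}
    (h : ∀ x, sf (τ : F →+* F) A u x = 0 → sf (τ : F →+* F) A v x = 0 →
      sf (τ : F →+* F) A w x = 0) : FTPG.InSp F w u v := by
  refine inSp_of_dot fun f h1 h2 => ?_
  obtain ⟨b, rfl⟩ := pf_surj (τ := τ) hA f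
  exact h b h1 h2

theorem exists_sf_of_ind2 (hA : A.det ≠ 0) {x y : ι → F} (h : Ind2 F x y) :
    ∃ v, sf (τ : F →+* F) A x v = 1 ∧ sf (τ : F →+* F) A y v = 0 := by
  obtain ⟨f, h1, h2⟩ := exists_dot_of_ind2 h
  obtain ⟨b, rfl⟩ := pf_surj (τ := τ) hA f
  exact ⟨b, h1, h2⟩

theorem simil_of_perp (hA : A.det ≠ 0) {A' : Matrix ι ι F}
    (h : ∀ u v, sf (τ : F →+* F) A u v = 0 → sf (τ : F →+* F) A' u v = 0) :
    ∃ c : F, A' = c • A := by
  obtain ⟨c, hc⟩ := scalar_of_fix_points (M := A⁻¹ * A') fun v => by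
    obtain ⟨c, hc⟩ := smul_of_dot (e := pf τ A' (τ.symm ∘ v)) (x := pf τ A (τ.symm ∘ v))
      fun u hu => by rw [pf_dot] at hu ⊢; exact h _ _ hu
    have e : (τ : F →+* F) ∘ (τ.symm ∘ v) = v := by funext i; simp
    rw [pf, pf, e] at hc
    exact ⟨c, by rw [← mulVec_mulVec, hc, mulVec_smul, mulVec_mulVec, nonsing_inv_mul _ hA.isUnit,
      one_mulVec]⟩
  refine ⟨c, ?_⟩
  have := congrArg (A * ·) hc
  simpa only [← Matrix.mul_assoc, mul_nonsing_inv _ hA.isUnit, Matrix.one_mul, mul_smul_comm,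
    mul_one] using this

omit [DecidableEq ι] in
theorem sf_comp {σ : F ≃+* F} (hA : A.map σ = A) (hc : ∀ x, σ (τ x) = τ (σ x)) (u v : ι → F) :
    sf (τ : F →+* F) A (σ ∘ u) (σ ∘ v) = σ (sf (τ : F →+* F) A u v) := by
  have e : ∀ i j, σ (A i j) = A i j := fun i j => congrFun (congrFun hA i) j
  simp [sf, dotProduct, mulVec, map_sum, e, hc]

end pf

variable {H : Type*} [Group H] {ρ : H →* Matrix ι ι F} {τ : F ≃+* F} {A : Matrix ι ι F}

variable (ρ τ A) in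
/-- `H` acts by isometries of a non-degenerate reflexive form. -/
structure Isom : Prop where
  det : A.det ≠ 0
  refl : ∀ u v, sf (τ : F →+* F) A u v = 0 → sf (τ : F →+* F) A v u = 0
  isom : ∀ g u v, sf (τ : F →+* F) A (ρ g *ᵥ u) (ρ g *ᵥ v) = sf (τ : F →+* F) A u v

theorem Isom.par_pf (I : Isom ρ τ A) {t : H} {a f : ι → F} (h : IsTv ρ t a f) :
    Par f (pf τ A a) := by
  obtain ⟨c, hc⟩ := smul_of_dot (e := pf τ A a) (x := f) fun w hw => by
    obtain ⟨v, hv⟩ := exists_dot_one h.2.1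
    have := I.isom t v w
    rw [h.2.2.2, tv_mulVec, tv_mulVec, hv, hw, one_smul, zero_smul, add_zero, sf_add_left,
      add_eq_left] at this
    rw [pf_dot]
    exact I.refl _ _ this
  exact par_of_smul (pf_ne_zero I.det h.1) hc

theorem Isom.iso_of_isTv (I : Isom ρ τ A) {t : H} {a f : ι → F} (h : IsTv ρ t a f) :
    sf (τ : F →+* F) A a a = 0 := by
  rw [← pf_dot]; exact (I.par_pf h).dot_eq_zero' h.2.2.1

theorem Isom.fix_pf (I : Isom ρ τ A) {g : H} {a : ι → F} (h : ρ g *ᵥ a = a) (v : ι → F) :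
    pf τ A a ⬝ᵥ (ρ g *ᵥ v) = pf τ A a ⬝ᵥ v := by
  rw [pf_dot, pf_dot]
  conv_lhs => rw [← h]
  exact I.isom g v a

theorem Isom.perp_iff (I : Isom ρ τ A) (g : H) (u x : ι → F) :
    sf (τ : F →+* F) A u (ρ g *ᵥ x) = sf (τ : F →+* F) A (ρ g⁻¹ *ᵥ u) x := by
  rw [← I.isom g (ρ g⁻¹ *ᵥ u), mulVec_inv_mulVec]

local notation "mk" => (QuotientGroup.mk : H → H ⧸ Subgroup.center H)
variable {α : MulAut (H ⧸ Subgroup.center H)}

theorem Isom.centerPres (I : Isom ρ τ A) (S : Setup ρ) (h3 : 3 ≤ Fintype.card ι)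
    (hα : TvPres ρ α) : CenterPres ρ α := by
  intro s t s' t' a f b g a' f' b' g' hs ht hs' ht' es et hab
  rcases S.par_or_par h3 hα hs ht hs' ht' es et (Or.inl hab) with h | h
  · exact h
  · exact par_of_pf I.det (((I.par_pf hs').symm.trans h).trans (I.par_pf ht'))

theorem Isom.cr_iso (I : Isom ρ τ A) {u u' : ι → F} (h : CR ρ α u u') :
    sf (τ : F →+* F) A u u = 0 := by
  obtain ⟨t, t', f, f', h1, -, -⟩ := h
  exact I.iso_of_isTv h1

theorem Isom.cr_perp (I : Isom ρ τ A) (hc : CenterPres ρ α) {u u' v v' : ι → F}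
    (hu : CR ρ α u u') (hv : CR ρ α v v') (h : sf (τ : F →+* F) A v u = 0) :
    sf (τ : F →+* F) A v' u' = 0 := by
  obtain ⟨t, t', f, f', h1, h2, e⟩ := hu
  rw [← pf_dot] at h ⊢
  exact (I.par_pf h2).dot_eq_zero' (hv.dot hc h1 h2 e ((I.par_pf h1).symm.dot_eq_zero' h))

/-- A total perpendicularity preserving correspondence comes from a semilinear similarity. -/
theorem exists_simil_of_total [Finite F] (hA : A.det ≠ 0) (h3 : 3 ≤ Fintype.card ι)
    (hAσ : ∀ σ : F ≃+* F, A.map σ = A)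
    (R : (ι → F) → (ι → F) → Prop) (tot : ∀ a, a ≠ 0 → ∃ b, R a b) (tot' : ∀ b, b ≠ 0 → ∃ a, R a b)
    (ne : ∀ a b, R a b → a ≠ 0 ∧ b ≠ 0)
    (perp : ∀ u v u' v', R u u' → R v v' →
      (sf (τ : F →+* F) A u v = 0 ↔ sf (τ : F →+* F) A u' v' = 0)) :
    ∃ (g : GL ι F) (σ : F ≃+* F) (c : F),
      (g : Matrix ι ι F)ᵀ * A * (g : Matrix ι ι F).map τ = c • A ∧
      ∀ a b, R a b → Par b ((g : Matrix ι ι F) *ᵥ (σ ∘ a)) := by
  obtain ⟨g, σ, h⟩ := exists_matrix_of_collin h3 R tot ne fun u v w u' v' w' hu hv hw => by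
    constructor
    · rintro ⟨s, t, e⟩
      refine inSp_of_perp (τ := τ) hA fun x' h1 h2 => ?_
      by_cases hx : x' = 0
      · rw [hx, sf_zero_right]
      obtain ⟨x, hx⟩ := tot' x' hx
      rw [← perp _ _ _ _ hw hx, e, sf_add_left, sf_smul_left, sf_smul_left,
        (perp _ _ _ _ hu hx).2 h1, (perp _ _ _ _ hv hx).2 h2]
      simp
    · rintro ⟨s, t, e⟩
      refine inSp_of_perp (τ := τ) hA fun x h1 h2 => ?_
      by_cases hx : x = 0
      · rw [hx, sf_zero_right]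
      obtain ⟨x', hx⟩ := tot x hx
      rw [perp _ _ _ _ hw hx, e, sf_add_left, sf_smul_left, sf_smul_left,
        (perp _ _ _ _ hu hx).1 h1, (perp _ _ _ _ hv hx).1 h2]
      simp
  obtain ⟨c, hc⟩ := simil_of_perp (τ := τ) hA
    (A' := (g : Matrix ι ι F)ᵀ * A * (g : Matrix ι ι F).map (τ : F →+* F)) fun u v huv => by
    rw [← sf_mulVec]
    by_cases hu : u = 0
    · rw [hu, mulVec_zero, sf_zero_left]
    by_cases hv : v = 0
    · rw [hv, mulVec_zero, sf_zero_right]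
    have e : ∀ u : ι → F, σ ∘ (σ.symm ∘ u) = u := fun u => by funext i; simp
    obtain ⟨u', hu'⟩ := tot _ (comp_ne_zero (σ.symm : F →+* F) hu)
    obtain ⟨v', hv'⟩ := tot _ (comp_ne_zero (σ.symm : F →+* F) hv)
    obtain ⟨s, -, es⟩ := h _ _ hu'
    obtain ⟨t, -, et⟩ := h _ _ hv'
    have h0 := (perp _ _ _ _ hu' hv').1 (by
      have := sf_comp (τ := τ) (hAσ σ.symm) (fun x => ringAut_comm_apply σ.symm τ x) u v
      rw [huv, map_zero] at this
      exact this)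
    erw [e] at es et
    rw [es, et, sf_smul_left, sf_smul_right, h0, mul_zero, mul_zero]
  exact ⟨g, σ, c, hc, h⟩

section gen
variable (j : H →* GL ι F) (inj : Function.Injective j)

/-- the representation attached to an embedding in `GL` -/
abbrev jRho : H →* Matrix ι ι F := (Units.coeHom _).comp j

variable (hΦ : ∀ σ : F ≃+* F, glField ι F σ ∈ stabAut j)

/-- field automorphisms of a central quotient -/
noncomputable def gΦ : (F ≃+* F) →* MulAut (H ⧸ Subgroup.center H) :=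
  (indAut j inj).comp ((glField ι F).codRestrict _ hΦ)

variable {N : Subgroup (GL ι F)} (hN : ∀ g ∈ N, ∀ s, g * j s * g⁻¹ ∈ j.range)

variable (N) in
/-- field automorphisms of an invariant subgroup of `GL` -/
def nField (hNσ : ∀ (σ : F ≃+* F) g, g ∈ N ↔ glField ι F σ g ∈ N) : (F ≃+* F) →* MulAut N where
  toFun σ := resSub N (glField ι F σ) (hNσ σ)
  map_one' := by ext; simp
  map_mul' σ τ := by ext; simp

omit [Group H] in
@[simp] theorem coe_nField (hNσ : ∀ (σ : F ≃+* F) g, g ∈ N ↔ glField ι F σ g ∈ N) (σ : F ≃+* F)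
    (g : N) : ((nField N hNσ σ g : N) : GL ι F) = glField ι F σ g := rfl

theorem gΦ_conj (hNσ : ∀ (σ : F ≃+* F) g, g ∈ N ↔ glField ι F σ g ∈ N) (σ : F ≃+* F) (g : N) :
    gΦ j inj hΦ σ * diagAut j inj N hN g * (gΦ j inj hΦ σ)⁻¹ =
      diagAut j inj N hN (nField N hNσ σ g) :=
  indAut_conj_diagAut inj hN _ rfl

theorem eq_gDΦ_iff (g : N) (σ : F ≃+* F) (β : MulAut (H ⧸ Subgroup.center H)) :
    β = diagAut j inj N hN g * gΦ j inj hΦ σ ↔ ∀ s s' : H, (j s' : Matrix ι ι F) =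
      ((g : GL ι F) : Matrix ι ι F) * (j s : Matrix ι ι F).map σ *
        (((g : GL ι F)⁻¹ : GL ι F) : Matrix ι ι F) → β (mk s) = mk s' := by
  simp only [diagAut, gΦ, MonoidHom.comp_apply]
  rw [← map_mul, eq_indAut_iff]
  exact forall₂_congr fun s s' => imp_congr_left Units.ext_iff

theorem eq_gD_iff (g : N) (β : MulAut (H ⧸ Subgroup.center H)) :
    β = diagAut j inj N hN g ↔ ∀ s s' : H, (j s' : Matrix ι ι F) =
      ((g : GL ι F) : Matrix ι ι F) * (j s : Matrix ι ι F) *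
        (((g : GL ι F)⁻¹ : GL ι F) : Matrix ι ι F) → β (mk s) = mk s' := by
  simp only [diagAut, MonoidHom.comp_apply]
  rw [eq_indAut_iff]
  exact forall₂_congr fun s s' => imp_congr_left Units.ext_iff

theorem eq_gΦ_iff (σ : F ≃+* F) (β : MulAut (H ⧸ Subgroup.center H)) :
    β = gΦ j inj hΦ σ ↔ ∀ s s' : H, (j s' : Matrix ι ι F) = (j s : Matrix ι ι F).map σ →
      β (mk s) = mk s' := by
  simp only [gΦ, MonoidHom.comp_apply]
  rw [eq_indAut_iff]
  exact forall₂_congr fun s s' => imp_congr_left Units.ext_iff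

theorem exists_gDΦ_image (g : N) (σ : F ≃+* F) (s : H) : ∃ s' : H, (j s' : Matrix ι ι F) =
      ((g : GL ι F) : Matrix ι ι F) * (j s : Matrix ι ι F).map σ *
        (((g : GL ι F)⁻¹ : GL ι F) : Matrix ι ι F) ∧
      (diagAut j inj N hN g * gΦ j inj hΦ σ) (mk s) = mk s' := by
  obtain ⟨s₁, h₁⟩ := (hΦ σ _).1 ⟨s, rfl⟩
  obtain ⟨s₂, h₂⟩ := hN g g.2 s₁
  have e : (j s₂ : Matrix ι ι F) = ((g : GL ι F) : Matrix ι ι F) * (j s : Matrix ι ι F).map σ *
      (((g : GL ι F)⁻¹ : GL ι F) : Matrix ι ι F) := by rw [h₂, h₁]; rfl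
  exact ⟨s₂, e, (eq_gDΦ_iff j inj hΦ hN g σ _).1 rfl _ _ e⟩

theorem gDΦ_tv (g : N) (σ : F ≃+* F) {t : H} {a f : ι → F} (ht : IsTv (jRho j) t a f) :
    ∃ t' f', IsTv (jRho j) t' (((g : GL ι F) : Matrix ι ι F) *ᵥ (σ ∘ a)) f' ∧
      (diagAut j inj N hN g * gΦ j inj hΦ σ) (mk t) = mk t' := by
  obtain ⟨t', h1, h2⟩ := exists_gDΦ_image j inj hΦ hN g σ t
  refine ⟨t', _, ⟨gl_mulVec_ne_zero _ (comp_ne_zero (σ : F →+* F) ht.1),
    gl_vecMul_ne_zero (g : GL ι F)⁻¹ (comp_ne_zero (σ : F →+* F) ht.2.1), ?_, ?_⟩, h2⟩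
  · rw [gl_conj_dot]
    exact (comp_dot (σ : F →+* F) a f).trans (by rw [ht.2.2.1, map_zero])
  · have e : (j t : Matrix ι ι F) = tv a f := ht.2.2.2
    change (j t' : Matrix ι ι F) = _
    rw [h1, e, ← RingHom.coe_coe, map_tv, conj_tv (g : GL ι F).mul_inv]

theorem par_of_gDΦ_eq_one (S : Setup (jRho j)) {g : N} {σ : F ≃+* F}
    (h : diagAut j inj N hN g * gΦ j inj hΦ σ = 1) {t : H} {a f : ι → F}
    (ht : IsTv (jRho j) t a f) : Par a (((g : GL ι F) : Matrix ι ι F) *ᵥ (σ ∘ a)) := by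
  obtain ⟨t', f', ht', e⟩ := gDΦ_tv j inj hΦ hN g σ ht
  rw [h, MulAut.one_apply] at e
  have := S.tv_unique ht ht'.tvOr1 e
  exact (ht.par (this ▸ ht')).1

theorem gD_eq_one_of_scalar {g : N} (h : (g : GL ι F) ∈ Subgroup.center (GL ι F)) :
    diagAut j inj N hN g = 1 := by
  symm
  refine (eq_gD_iff j inj hN g 1).2 fun s s' e => ?_
  have : ((g : GL ι F) : Matrix ι ι F) * j s = j s * (g : GL ι F) :=
    (congrArg Units.val (Subgroup.mem_center_iff.1 h (j s))).symm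
  rw [this, mul_assoc, Units.mul_inv, mul_one] at e
  rw [inj (Units.ext e)]; rfl

theorem eq_gDΦ_of_total (S : Setup (jRho j)) (R : (ι → F) → (ι → F) → Prop)
    (equiv : ∀ a b x x', R a b → α (mk x) = mk x' → R (jRho j x *ᵥ a) (jRho j x' *ᵥ b))
    (tot : ∀ b, b ≠ 0 → ∃ a, R a b) {g : N} {σ : F ≃+* F}
    (h : ∀ a b, R a b → Par b (((g : GL ι F) : Matrix ι ι F) *ᵥ (σ ∘ a))) :
    α = diagAut j inj N hN g * gΦ j inj hΦ σ := by
  refine (eq_gDΦ_iff j inj hΦ hN g σ α).2 fun s s' e => ?_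
  obtain ⟨x', hx⟩ := exists_corr α s
  obtain ⟨c, hc⟩ := S.corr_of_semilinear R equiv tot _ _ (g : GL ι F).inv_mul (σ : F →+* F) h hx
  rw [hx]
  exact S.mk_eq_of_smul (c := c) (by rw [hc]; exact congrArg _ e.symm)

end gen

end Cfsg.Agent.H6
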