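import Mathlib
import Cfsg.Agent.H6.Polar

/-!
Unitary geometry over a finite field.
-/

set_option autoImplicit false

namespace Cfsg.Agent.H6

open Matrix FTPG

variable {ι : Type*} [Fintype ι] [DecidableEq ι] {F : Type*} [Field F] {τ : F ≃+* F}

/-- the standard Hermitian form -/
def hf (τ : F ≃+* F) (u v : ι → F) : F := sf (τ : F →+* F) 1 u v

section basic
theorem hf_def (u v : ι → F) : hf τ u v = sf (τ : F →+* F) 1 u v := rfl
theorem hf_add_left (u u' v : ι → F) : hf τ (u + u') v = hf τ u v + hf τ u' v := sf_add_left ..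
theorem hf_sub_left (u u' v : ι → F) : hf τ (u - u') v = hf τ u v - hf τ u' v := sf_sub_left ..
theorem hf_neg_left (u v : ι → F) : hf τ (-u) v = - hf τ u v := sf_neg_left ..
theorem hf_smul_left (c : F) (u v : ι → F) : hf τ (c • u) v = c * hf τ u v := sf_smul_left ..
theorem hf_zero_left (v : ι → F) : hf τ 0 v = 0 := sf_zero_left ..
theorem hf_add_right (u v v' : ι → F) : hf τ u (v + v') = hf τ u v + hf τ u v' := sf_add_right ..
theorem hf_sub_right (u v v' : ι → F) : hf τ u (v - v') = hf τ u v - hf τ u v' := sf_sub_right ..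
theorem hf_neg_right (u v : ι → F) : hf τ u (-v) = - hf τ u v := sf_neg_right ..
theorem hf_smul_right (c : F) (u v : ι → F) : hf τ u (c • v) = τ c * hf τ u v := sf_smul_right ..
theorem hf_zero_right (u : ι → F) : hf τ u 0 = 0 := sf_zero_right ..
theorem hf_sum_left {κ : Type*} (s : Finset κ) (u : κ → ι → F) (v : ι → F) :
    hf τ (∑ k ∈ s, u k) v = ∑ k ∈ s, hf τ (u k) v := sf_sum_left ..
theorem hf_sum_right {κ : Type*} (s : Finset κ) (u : ι → F) (v : κ → ι → F) :
    hf τ u (∑ k ∈ s, v k) = ∑ k ∈ s, hf τ u (v k) := sf_sum_right ..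
theorem pf_dot_hf (a v : ι → F) : pf τ 1 a ⬝ᵥ v = hf τ v a := pf_dot ..

theorem herm_one : ((1 : Matrix ι ι F).map (τ : F →+* F))ᵀ = 1 := by
  rw [Matrix.map_one _ (map_zero _) (map_one _), transpose_one]

theorem hf_conj (hσ : orderOf τ = 2) (u v : ι → F) : τ (hf τ u v) = hf τ v u :=
  sf_herm (σ := (τ : F →+* F)) (sq_of_orderOf_two hσ) herm_one u v

theorem hf_comm (hσ : orderOf τ = 2) {u v : ι → F} (h : hf τ u v = 0) : hf τ v u = 0 := by
  rw [← hf_conj hσ, h, map_zero]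

theorem hf_ne_comm (hσ : orderOf τ = 2) {u v : ι → F} (h : hf τ u v ≠ 0) : hf τ v u ≠ 0 :=
  fun h' => h (hf_comm hσ h')

theorem ne_zero_of_hf_left {u v : ι → F} (h : hf τ u v ≠ 0) : u ≠ 0 := fun h' =>
  h (by rw [h', hf_zero_left])

theorem ne_zero_of_hf_right {u v : ι → F} (h : hf τ u v ≠ 0) : v ≠ 0 := fun h' =>
  h (by rw [h', hf_zero_right])

theorem Par.hf_left {u u' v : ι → F} (h : Par u u') (h0 : hf τ u v = 0) : hf τ u' v = 0 := by
  obtain ⟨c, -, rfl⟩ := h
  rw [hf_smul_left, h0, mul_zero]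

theorem Par.hf_right {u v v' : ι → F} (h : Par v v') (h0 : hf τ u v = 0) : hf τ u v' = 0 := by
  obtain ⟨c, -, rfl⟩ := h
  rw [hf_smul_right, h0, mul_zero]

theorem Par.hf_self {u u' : ι → F} (h : Par u u') (h0 : hf τ u u = 0) : hf τ u' u' = 0 :=
  h.hf_left (h.hf_right h0)

theorem exists_trace_eq (hσ : orderOf τ = 2) {c : F} (hc : τ c = c) : ∃ l, l + τ l = c := by
  obtain ⟨x, hx⟩ := exists_trace_ne_zero hσ
  refine ⟨c * x / (x + τ x), ?_⟩
  rw [map_div₀, map_mul, map_add, sq_of_orderOf_two hσ, hc, add_comm (τ x)]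
  field_simp

theorem exists_trace_zero (hσ : orderOf τ = 2) : ∃ k, k ≠ 0 ∧ k + τ k = 0 := by
  obtain ⟨x, hx⟩ := exists_ne_of_orderOf_two hσ
  exact ⟨τ x - x, sub_ne_zero.2 hx, by rw [map_sub, sq_of_orderOf_two hσ]; ring⟩

theorem exists_norm_one_sq_ne (hσ : orderOf τ = 2) : ∃ e : F, e * τ e = 1 ∧ e ≠ τ e := by
  have key : ∀ x : F, τ x ≠ x → τ x ≠ -x → ∃ e : F, e * τ e = 1 ∧ e ≠ τ e := fun x h1 h2 => by
    have x0 : x ≠ 0 := by rintro rfl; simp at h1
    have x1 : τ x ≠ 0 := (_root_.map_ne_zero τ).2 x0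
    refine ⟨x / τ x, by rw [map_div₀, sq_of_orderOf_two hσ]; field_simp, fun h => ?_⟩
    rw [map_div₀, sq_of_orderOf_two hσ, div_eq_div_iff x1 x0] at h
    have : (τ x - x) * (τ x - -x) = 0 := by linear_combination -h
    rcases mul_eq_zero.1 this with h | h
    exacts [h1 (sub_eq_zero.1 h), h2 (sub_eq_zero.1 h)]
  obtain ⟨x, hx⟩ := exists_ne_of_orderOf_two hσ
  by_cases h : τ x = -x
  · refine key (x + 1) (fun h' => hx ?_) (fun h' => hx ?_)
    · rw [map_add, map_one] at h'; linear_combination h'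
    · rw [map_add, map_one] at h'; linear_combination (1 + x) * h - x * h'
  · exact key x hx h

theorem exists_iso_add (hσ : orderOf τ = 2) {a v : ι → F} (ha : hf τ a a = 0) (h : hf τ v a ≠ 0) :
    ∃ l : F, hf τ (v + l • a) (v + l • a) = 0 := by
  obtain ⟨m, hm⟩ := exists_trace_eq hσ (c := - hf τ v v) (by rw [map_neg, hf_conj hσ])
  have h' := hf_ne_comm hσ h
  refine ⟨m / hf τ a v, ?_⟩
  simp only [hf_add_left, hf_add_right, hf_smul_left, hf_smul_right, ha, map_div₀, hf_conj hσ]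
  field_simp
  linear_combination hf τ a v * hf τ v a * hm

theorem exists_hf_one {a : ι → F} (ha : a ≠ 0) : ∃ v, hf τ v a = 1 :=
  exists_sf_one (by simp) ha

theorem smul_of_hf {x y : ι → F} (h : ∀ u, hf τ u x = 0 → hf τ u y = 0) : ∃ c : F, y = c • x :=
  smul_of_perp (by simp) h

/-- orthonormal frames -/
def ONB (τ : F ≃+* F) (e : ι → ι → F) : Prop := ∀ i j, hf τ (e i) (e j) = (1 : Matrix ι ι F) i j

/-- the matrix with the given columns -/
def fm (e : ι → ι → F) : Matrix ι ι F := Matrix.of fun i j => e j i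

theorem fm_single (e : ι → ι → F) (i : ι) : fm e *ᵥ Pi.single i 1 = e i := by
  funext k; simp [fm]

omit [Fintype ι] in
theorem ONB.self [Fintype ι] {e : ι → ι → F} (he : ONB τ e) (i : ι) : hf τ (e i) (e i) = 1 := by
  rw [he, one_apply_eq]

omit [Fintype ι] in
theorem ONB.ne [Fintype ι] {e : ι → ι → F} (he : ONB τ e) {i j : ι} (h : i ≠ j) :
    hf τ (e i) (e j) = 0 := by
  rw [he, one_apply_ne h]

theorem ONB.gram {e : ι → ι → F} (he : ONB τ e) : (fm e)ᵀ * (fm e).map τ = 1 := by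
  ext i j
  have := gram_apply (τ : F →+* F) 1 (fm e) (fm e) i j
  rw [Matrix.mul_one] at this
  exact this.trans (he i j)

theorem ONB.det_mul {e : ι → ι → F} (he : ONB τ e) : (fm e).det * τ (fm e).det = 1 := by
  have := congrArg det he.gram
  rwa [Matrix.det_mul, det_transpose, det_one, ← RingHom.coe_coe, ← RingHom.mapMatrix_apply,
    ← RingHom.map_det] at this

theorem ONB.det_ne_zero {e : ι → ι → F} (he : ONB τ e) : (fm e).det ≠ 0 :=
  left_ne_zero_of_mul_eq_one he.det_mul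

theorem ONB.hf_fm {e : ι → ι → F} (he : ONB τ e) (u v : ι → F) :
    hf τ (fm e *ᵥ u) (fm e *ᵥ v) = hf τ u v := by
  rw [hf, sf_mulVec, Matrix.mul_one]
  exact congrArg (fun M => sf (τ : F →+* F) M u v) he.gram

theorem ONB.expand {e : ι → ι → F} (he : ONB τ e) (v : ι → F) : v = ∑ i, hf τ v (e i) • e i := by
  have h1 : v = fm e *ᵥ ((fm e)⁻¹ *ᵥ v) := by
    rw [mulVec_mulVec, mul_nonsing_inv _ he.det_ne_zero.isUnit, one_mulVec]
  set z := (fm e)⁻¹ *ᵥ v
  clear_value z
  have h2 : ∀ i, hf τ v (e i) = z i := fun i => by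
    rw [h1, ← fm_single e i, he.hf_fm]
    simp [hf, sf, dotProduct, Pi.single_apply, apply_ite τ]
  simp only [h2]
  rw [h1]
  funext k
  simp [fm, mulVec, dotProduct, Finset.sum_apply, mul_comm]

theorem ONB.eq_zero {e : ι → ι → F} (he : ONB τ e) {v : ι → F} (h : ∀ i, hf τ v (e i) = 0) :
    v = 0 := by
  rw [he.expand v]; simp [h]

theorem ONB.smul {e : ι → ι → F} (he : ONB τ e) {d : ι → F} (hd : ∀ i, d i * τ (d i) = 1) :
    ONB τ fun i => d i • e i := fun i j => by
  rw [hf_smul_left, hf_smul_right, he]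
  by_cases h : i = j
  · subst h; rw [one_apply_eq, mul_one, hd]
  · rw [one_apply_ne h, mul_zero, mul_zero]

theorem det_fm_smul (e : ι → ι → F) (d : ι → F) :
    (fm fun i => d i • e i).det = (fm e).det * ∏ i, d i := by
  rw [← det_diagonal, ← det_mul]
  congr 1
  ext i j
  simp [fm, mul_comm]

theorem ONB.exists_two_ne {e : ι → ι → F} (he : ONB τ e) {a : ι → F} (ha : a ≠ 0)
    (h0 : hf τ a a = 0) : ∃ i j, i ≠ j ∧ hf τ a (e i) ≠ 0 ∧ hf τ a (e j) ≠ 0 := by
  by_contra hcon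
  push Not at hcon
  obtain ⟨i, hi⟩ : ∃ i, hf τ a (e i) ≠ 0 := by
    by_contra h
    push Not at h
    exact ha (he.eq_zero h)
  have : a = hf τ a (e i) • e i := by
    conv_lhs => rw [he.expand a]
    exact Finset.sum_eq_single i (fun j _ hj => by rw [hcon i j hj.symm hi, zero_smul]) (by simp)
  rw [this, hf_smul_left, hf_smul_right, he.self, mul_one] at h0
  exact mul_ne_zero hi ((_root_.map_ne_zero τ).2 hi) h0

variable [Finite F]

theorem exists_unit_smul (hσ : orderOf τ = 2) {x : ι → F} (hx : hf τ x x ≠ 0) {c : F} (hc0 : c ≠ 0)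
    (hc : τ c = c) : ∃ l : F, l ≠ 0 ∧ hf τ (l • x) (l • x) = c := by
  obtain ⟨l, h0, hl⟩ := exists_norm_eq hσ (div_ne_zero hc0 hx) (by rw [map_div₀, hf_conj hσ, hc])
  exact ⟨l, h0, by rw [hf_smul_left, hf_smul_right, ← mul_assoc, hl, div_mul_cancel₀ _ hx]⟩

theorem exists_onb_one (hσ : orderOf τ = 2) {x : ι → F} (hx : hf τ x x = 1) (i : ι) :
    ∃ e, ONB τ e ∧ e i = x := by
  obtain ⟨e, h1, h2⟩ := exists_orthonormal_ext hσ herm_one (by simp) {i} (fun _ => x)
    (fun a ha b hb => by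
      rw [Finset.mem_singleton] at ha hb
      rw [ha, hb, one_apply_eq]; exact hx)
  exact ⟨e, h2, h1 i (by simp)⟩

theorem exists_onb_two (hσ : orderOf τ = 2) {x y : ι → F} (hx : hf τ x x = 1) (hy : hf τ y y = 1)
    (hxy : hf τ x y = 0) {i j : ι} (hij : i ≠ j) : ∃ e, ONB τ e ∧ e i = x ∧ e j = y := by
  obtain ⟨e, h1, h2⟩ := exists_orthonormal_ext hσ herm_one (by simp) {i, j}
    (fun k => if k = i then x else y)
    (fun a ha b hb => by
      simp only [Finset.mem_insert, Finset.mem_singleton] at ha hb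
      rcases ha with rfl | rfl <;> rcases hb with rfl | rfl <;>
      simp [hij, hij.symm, ← hf_def, hx, hy, hxy, hf_comm hσ hxy])
  exact ⟨e, h2, by simpa using h1 i (by simp), by simpa [hij.symm] using h1 j (by simp)⟩

theorem exists_onb_three (hσ : orderOf τ = 2) {x y z : ι → F} (hx : hf τ x x = 1)
    (hy : hf τ y y = 1) (hz : hf τ z z = 1) (hxy : hf τ x y = 0) (hxz : hf τ x z = 0)
    (hyz : hf τ y z = 0) {i j k : ι} (hij : i ≠ j) (hik : i ≠ k) (hjk : j ≠ k) :
    ∃ e, ONB τ e ∧ e i = x ∧ e j = y ∧ e k = z := by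
  obtain ⟨e, h1, h2⟩ := exists_orthonormal_ext hσ herm_one (by simp) {i, j, k}
    (fun l => if l = i then x else if l = j then y else z)
    (fun a ha b hb => by
      simp only [Finset.mem_insert, Finset.mem_singleton] at ha hb
      rcases ha with rfl | rfl | rfl <;> rcases hb with rfl | rfl | rfl <;>
      simp [hij, hij.symm, hik, hik.symm, hjk, hjk.symm, ← hf_def, hx, hy, hz, hxy, hxz, hyz,
        hf_comm hσ hxy, hf_comm hσ hxz, hf_comm hσ hyz])
  exact ⟨e, h2, by simpa using h1 i (by simp), by simpa [hij.symm] using h1 j (by simp),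
    by simpa [hik.symm, hjk.symm] using h1 k (by simp)⟩

theorem exists_norm_neg_one (hσ : orderOf τ = 2) : ∃ l : F, l ≠ 0 ∧ l * τ l = -1 :=
  exists_norm_eq hσ (by simp) (by simp)

omit [Finite F] in
theorem iso_of_orth {x y : ι → F} (hσ : orderOf τ = 2) (hx : hf τ x x = 1) (hy : hf τ y y = 1)
    (hxy : hf τ x y = 0) {l : F} (hl : l * τ l = -1) : hf τ (x + l • y) (x + l • y) = 0 := by
  simp only [hf_add_left, hf_add_right, hf_smul_left, hf_smul_right, hx, hy, hxy, hf_comm hσ hxy]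
  linear_combination hl

theorem onb_std : ONB τ fun i : ι => Pi.single i (1 : F) := fun i j => sf_single _ _ i j

theorem exists_iso (hσ : orderOf τ = 2) (h2 : 2 ≤ Fintype.card ι) :
    ∃ a : ι → F, a ≠ 0 ∧ hf τ a a = 0 := by
  obtain ⟨i, j, hij⟩ := Fintype.exists_pair_of_one_lt_card (α := ι) (by omega)
  obtain ⟨l, -, hl⟩ := exists_norm_neg_one hσ
  have he := onb_std (ι := ι) (τ := τ)
  refine ⟨_, fun h => ?_, iso_of_orth hσ (he.self i) (he.self j) (he.ne hij) hl⟩
  simpa [hij] using congrFun h i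

/-- every plane contains an isotropic point -/
theorem exists_iso_inSp (hσ : orderOf τ = 2) {x y : ι → F} (hx : hf τ x x ≠ 0) (h : Ind2 F x y) :
    ∃ s t : F, s • x + t • y ≠ 0 ∧ hf τ (s • x + t • y) (s • x + t • y) = 0 := by
  set z := y - (hf τ y x / hf τ x x) • x with hz
  have hzx : hf τ z x = 0 := by rw [hz, hf_sub_left, hf_smul_left]; field_simp; ring
  by_cases h0 : hf τ z z = 0
  · refine ⟨-(hf τ y x / hf τ x x), 1, fun e => one_ne_zero (h _ _ e).2, ?_⟩
    convert h0 using 2 <;> rw [hz] <;> module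
  · obtain ⟨l, -, hl⟩ := exists_unit_smul hσ hx (neg_ne_zero.2 h0) (by rw [map_neg, hf_conj hσ])
    refine ⟨l - (hf τ y x / hf τ x x), 1, fun e => one_ne_zero (h _ _ e).2, ?_⟩
    have : (l - (hf τ y x / hf τ x x)) • x + (1 : F) • y = l • x + z := by rw [hz]; module
    rw [this, hf_add_left, hf_add_right, hf_add_right, hl, hf_smul_left, hf_smul_right, hzx,
      hf_comm hσ hzx]
    ring

omit [Finite F] in
theorem hf_perp_of_iso_aux (hσ : orderOf τ = 2) {x y a b : ι → F} (ha : hf τ a a = 0)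
    (hax : hf τ a x = 0) (hbx : hf τ b x = 0) (hab : hf τ b a ≠ 0)
    (h : ∀ u, hf τ u u = 0 → hf τ u x = 0 → hf τ u y = 0) (u : ι → F) (hu : hf τ u x = 0) :
    hf τ u y = 0 := by
  have key : ∀ u, hf τ u x = 0 → hf τ u a ≠ 0 → hf τ u y = 0 := fun u h1 h2 => by
    obtain ⟨l, hl⟩ := exists_iso_add hσ ha h2
    have := h _ hl (by rw [hf_add_left, hf_smul_left, h1, hax]; ring)
    rwa [hf_add_left, hf_smul_left, h a ha hax, mul_zero, add_zero] at this
  by_cases h0 : hf τ u a = 0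
  · have := key (u + b) (by rw [hf_add_left, hu, hbx, add_zero])
      (by rwa [hf_add_left, h0, zero_add])
    rwa [hf_add_left, key b hbx hab, add_zero] at this
  · exact key u hu h0

theorem exists_three (h3 : 3 ≤ Fintype.card ι) : ∃ i j k : ι, i ≠ j ∧ i ≠ k ∧ j ≠ k :=
  Fintype.two_lt_card_iff.1 (by omega)

theorem exists_hyp_perp (hσ : orderOf τ = 2) (h3 : 3 ≤ Fintype.card ι) {x : ι → F}
    (hx : hf τ x x ≠ 0) : ∃ a b, hf τ a a = 0 ∧ hf τ b b = 0 ∧ hf τ a x = 0 ∧ hf τ b x = 0 ∧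
      hf τ b a ≠ 0 := by
  obtain ⟨i, j, k, hij, hik, hjk⟩ := exists_three h3
  obtain ⟨l, hl0, hl⟩ := exists_unit_smul hσ hx one_ne_zero (map_one τ)
  obtain ⟨e, he, ei⟩ := exists_onb_one hσ hl i
  obtain ⟨m, -, hm⟩ := exists_norm_neg_one hσ
  have p : ∀ j, i ≠ j → hf τ (e j) x = 0 := fun j h => by
    have := he.ne h.symm
    rw [ei, hf_smul_right] at this
    exact (mul_eq_zero.1 this).resolve_left ((_root_.map_ne_zero τ).2 hl0)
  have ha := iso_of_orth hσ (he.self j) (he.self k) (he.ne hjk) hm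
  have hax : hf τ (e j + m • e k) x = 0 := by rw [hf_add_left, hf_smul_left, p j hij, p k hik]; ring
  have hja : hf τ (e j) (e j + m • e k) ≠ 0 := by
    rw [hf_add_right, hf_smul_right, he.self, he.ne hjk]; simp
  obtain ⟨r, hr⟩ := exists_iso_add hσ ha hja
  refine ⟨_, _, ha, hr, hax, by rw [hf_add_left, hf_smul_left, hax, p j hij]; ring, ?_⟩
  rwa [hf_add_left, hf_smul_left, ha, mul_zero, add_zero]

/-- the hyperplane orthogonal to a non-isotropic vector is spanned by isotropic vectors -/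
theorem smul_of_iso_perp (hσ : orderOf τ = 2) (h3 : 3 ≤ Fintype.card ι) {x y : ι → F}
    (hx : hf τ x x ≠ 0) (h : ∀ u, hf τ u u = 0 → hf τ u x = 0 → hf τ u y = 0) :
    ∃ c : F, y = c • x := by
  obtain ⟨a, b, ha, -, hax, hbx, hab⟩ := exists_hyp_perp hσ h3 hx
  exact smul_of_hf (hf_perp_of_iso_aux hσ ha hax hbx hab h)

theorem scalar_of_fix_iso (hσ : orderOf τ = 2) (h2 : 2 ≤ Fintype.card ι) {M : Matrix ι ι F}
    (h : ∀ v, hf τ v v = 0 → ∃ c : F, M *ᵥ v = c • v) : ∃ c : F, M = c • 1 := by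
  obtain ⟨a, ha0, ha⟩ := exists_iso hσ h2
  obtain ⟨c, hc⟩ := h a ha
  obtain ⟨k, hk0, hk⟩ := exists_trace_zero hσ
  have k1 : ∀ b, hf τ b b = 0 → hf τ b a ≠ 0 → M *ᵥ b = c • b := fun b hb hba => by
    obtain ⟨d, hd⟩ := h b hb
    have hab := hf_ne_comm hσ hba
    obtain ⟨e, he⟩ := h (b + (k / hf τ a b) • a) (by
      simp only [hf_add_left, hf_add_right, hf_smul_left, hf_smul_right, ha, hb, map_div₀,
        hf_conj hσ]
      field_simp
      linear_combination hf τ a b * hf τ b a * hk)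
    rw [mulVec_add, mulVec_smul, hc, hd] at he
    have i2 : Ind2 F a b := ind2_of_not_par ha0 (ne_zero_of_hf_left hba)
      fun hp => hba (hp.hf_left ha)
    have := i2 (k / hf τ a b * (c - e)) (d - e) (by linear_combination (norm := module) he)
    have h1 := (mul_eq_zero.1 this.1).resolve_left (div_ne_zero hk0 hab)
    rw [hd, show d = c by linear_combination this.2 - h1]
  have k2 : ∀ v, hf τ v a ≠ 0 → M *ᵥ v = c • v := fun v hv => by
    obtain ⟨l, hl⟩ := exists_iso_add hσ ha hv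
    have := k1 _ hl (by rwa [hf_add_left, hf_smul_left, ha, mul_zero, add_zero])
    rw [mulVec_add, mulVec_smul, hc] at this
    linear_combination (norm := module) this
  refine ⟨c, ext_mulVec fun v => ?_⟩
  rw [smul_mulVec, one_mulVec]
  by_cases hv : hf τ v a = 0
  · obtain ⟨b, hb⟩ := exists_hf_one (τ := τ) ha0
    have h1 := k2 (v + b) (by rw [hf_add_left, hv, hb]; simp)
    rw [mulVec_add, k2 b (by rw [hb]; simp)] at h1
    linear_combination (norm := module) h1
  · exact k2 v hv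

end basic

omit [DecidableEq ι] in
theorem inSp_three (h3 : Fintype.card ι = 3) {f a b u : ι → F} (hf0 : f ≠ 0) (i2 : Ind2 F a b)
    (ha : f ⬝ᵥ a = 0) (hb : f ⬝ᵥ b = 0) (hu : f ⬝ᵥ u = 0) : FTPG.InSp F u a b := by
  classical
  by_contra hn
  have i3 := ind3_iff.2 ⟨i2, hn⟩
  have li : LinearIndependent F ![a, b, u] := by
    rw [Fintype.linearIndependent_iff]
    intro g hg
    rw [Fin.sum_univ_three] at hg
    obtain ⟨h0, h1, h2⟩ := i3 _ _ _ hg
    intro i; fin_cases i
    exacts [h0, h1, h2]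
  have htop := li.span_eq_top_of_card_eq_finrank' (by simp [h3])
  obtain ⟨v, hv⟩ := exists_dot_one hf0
  have hm : v ∈ Submodule.span F (Set.range ![a, b, u]) := htop ▸ trivial
  obtain ⟨c, rfl⟩ := (Submodule.mem_span_range_iff_exists_fun F).1 hm
  simp [Fin.sum_univ_three, ha, hb, hu] at hv

end Cfsg.Agent.H6
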