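import Mathlib
import Cfsg.Agent.H6.Unitary

/-!
Automorphisms of the projective special unitary groups: the geometric part.
-/

set_option autoImplicit false

namespace Cfsg.Agent.H6

open Matrix FTPG

variable {ι : Type*} [Fintype ι] [DecidableEq ι] {F : Type*} [Field F] {τ : F ≃+* F}
  {H : Type*} [Group H] {ρ : H →* Matrix ι ι F}

variable (ρ τ) in
/-- `H` is a group of unitary matrices containing the special unitary group. -/
structure SUlike : Prop where
  ord : orderOf τ = 2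
  inj : Function.Injective ρ
  isom : ∀ g u v, hf τ (ρ g *ᵥ u) (ρ g *ᵥ v) = hf τ u v
  surj : ∀ M : Matrix ι ι F, M.det = 1 → (∀ u v, hf τ (M *ᵥ u) (M *ᵥ v) = hf τ u v) → ∃ g, ρ g = M

namespace SUlike
variable (U : SUlike τ ρ)
include U

theorem toIsom : Isom ρ τ 1 := ⟨by simp, fun _ _ => hf_comm U.ord, U.isom⟩

theorem exists_tv {a : ι → F} (ha : hf τ a a = 0) {k : F} (hk : k + τ k = 0) :
    ∃ t, ρ t = tv a (k • pf τ 1 a) := by
  refine U.surj _ (det_tv (by rw [smul_dotProduct, pf_dot_hf, ha, smul_zero])) fun u v => ?_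
  simp only [tv_mulVec, smul_dotProduct, pf_dot_hf, smul_eq_mul, hf_add_left, hf_add_right,
    hf_smul_left, hf_smul_right, ha, map_mul, hf_conj U.ord]
  linear_combination hf τ u a * hf τ a v * hk

theorem exists_isTv {a : ι → F} (ha0 : a ≠ 0) (ha : hf τ a a = 0) {k : F} (hk0 : k ≠ 0)
    (hk : k + τ k = 0) : ∃ t, IsTv ρ t a (k • pf τ 1 a) := by
  obtain ⟨t, ht⟩ := U.exists_tv ha hk
  exact ⟨t, ha0, smul_ne_zero hk0 (pf_ne_zero (by simp) ha0),
    by rw [smul_dotProduct, pf_dot_hf, ha, smul_zero], ht⟩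

theorem exists_isTv' {a : ι → F} (ha0 : a ≠ 0) (ha : hf τ a a = 0) : ∃ t f, IsTv ρ t a f := by
  obtain ⟨k, hk0, hk⟩ := exists_trace_zero U.ord
  exact (U.exists_isTv ha0 ha hk0 hk).imp fun t ht => ⟨_, ht⟩

theorem exists_rho {a u : ι → F} (ha : hf τ a a = 0) (hu : hf τ u a = 0) :
    ∃ g ∈ flagQ ρ a (pf τ 1 a), ∃ l : F, ∀ v,
      ρ g *ᵥ v = v + hf τ v a • u + (l * hf τ v a - hf τ v u) • a := by
  obtain ⟨l, hl⟩ := exists_trace_eq U.ord (c := - hf τ u u) (by rw [map_neg, hf_conj U.ord])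
  have hu' := hf_comm U.ord hu
  have e : ∀ v, (tv u (pf τ 1 a) * tv a (l • pf τ 1 a - pf τ 1 u)) *ᵥ v =
      v + hf τ v a • u + (l * hf τ v a - hf τ v u) • a := fun v => by
    simp only [← mulVec_mulVec, tv_mulVec, sub_dotProduct, smul_dotProduct, pf_dot_hf, smul_eq_mul,
      hf_add_left, hf_smul_left, ha, mul_zero, add_zero]
    abel
  obtain ⟨g, hg⟩ := U.surj (tv u (pf τ 1 a) * tv a (l • pf τ 1 a - pf τ 1 u))
    (by rw [det_mul, det_tv (by rw [pf_dot_hf, hu]), det_tv (by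
      rw [sub_dotProduct, smul_dotProduct, pf_dot_hf, pf_dot_hf, ha, hu']; simp), mul_one])
    fun v w => by
      simp only [e, hf_add_left, hf_add_right, hf_smul_left, hf_smul_right, ha, hu, hu', map_mul,
        map_sub, hf_conj U.ord]
      linear_combination hf τ v a * hf τ a w * hl
  refine ⟨g, ⟨?_, fun v => ?_, fun v hv => ⟨- hf τ v u, ?_⟩⟩, l, fun v => by rw [hg, e]⟩
  · rw [hg, e, ha, hu']; simp
  · rw [hg, e]; simp [pf_dot_hf, hf_add_left, hf_smul_left, ha, hu]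
  · rw [pf_dot_hf] at hv
    rw [hg, e, hv]; simp

theorem exists_of_frames {e e' : ι → ι → F} (he : ONB τ e) (he' : ONB τ e')
    (h : (fm e').det = (fm e).det) : ∃ g, ∀ i, ρ g *ᵥ e i = e' i := by
  have hu := he.det_ne_zero.isUnit
  obtain ⟨g, hg⟩ := U.surj (fm e' * (fm e)⁻¹)
    (by rw [det_mul, h, ← det_mul, mul_nonsing_inv _ hu, det_one]) fun u v => by
      rw [← mulVec_mulVec, ← mulVec_mulVec, he'.hf_fm, ← he.hf_fm, mulVec_mulVec, mulVec_mulVec,
        mul_nonsing_inv _ hu, one_mulVec, one_mulVec]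
  refine ⟨g, fun i => ?_⟩
  rw [hg, ← fm_single e i, mulVec_mulVec, Matrix.mul_assoc, nonsing_inv_mul _ hu, Matrix.mul_one,
    fm_single]

theorem exists_map {e e' : ι → ι → F} (he : ONB τ e) (he' : ONB τ e') (i₀ : ι) :
    ∃ g, ∀ i, i ≠ i₀ → ρ g *ᵥ e i = e' i := by
  have h1 := he.det_mul
  have h2 := he'.det_mul
  have h3 := he'.det_ne_zero
  obtain ⟨g, hg⟩ := U.exists_of_frames he
    (he'.smul (d := Function.update 1 i₀ ((fm e).det / (fm e').det)) fun i => by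
      by_cases hi : i = i₀
      · subst hi
        rw [Function.update_self, map_div₀, div_mul_div_comm, h1, h2, div_one]
      · simp [Function.update_of_ne hi])
    (by rw [det_fm_smul, Finset.prod_update_of_mem (Finset.mem_univ _)]; simp; field_simp)
  exact ⟨g, fun i hi => by rw [hg, Function.update_of_ne hi, Pi.one_apply, one_smul]⟩

theorem exists_diag {e : ι → ι → F} (he : ONB τ e) {i j : ι} (hij : i ≠ j) {c : F}
    (hc : c * τ c = 1) : ∃ g, ρ g *ᵥ e i = c • e i ∧ ρ g *ᵥ e j = τ c • e j ∧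
      ∀ k, ∃ d : F, ρ g *ᵥ e k = d • e k := by
  obtain ⟨g, hg⟩ := U.exists_of_frames he
    (he.smul (d := Function.update (Function.update 1 i c) j (τ c)) fun k => by
      by_cases hk : k = j
      · subst hk
        rw [Function.update_self, sq_of_orderOf_two U.ord, mul_comm, hc]
      · by_cases hk' : k = i
        · subst hk'; simp [Function.update_of_ne hk, hc]
        · simp [Function.update_of_ne hk, Function.update_of_ne hk'])
    (by
      rw [det_fm_smul, Finset.prod_update_of_mem (Finset.mem_univ _),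
        Finset.prod_update_of_mem (by simp [hij])]
      simp [mul_comm (τ c), hc])
  exact ⟨g, by rw [hg, Function.update_of_ne hij, Function.update_self],
    by rw [hg, Function.update_self], fun k => ⟨_, hg k⟩⟩

variable [Finite F]

theorem setup (h2 : 2 ≤ Fintype.card ι) : Setup ρ := by
  refine ⟨U.inj, fun z hz => scalar_of_fix_iso U.ord h2 fun a ha => ?_⟩
  by_cases ha0 : a = 0
  · exact ⟨1, by simp [ha0]⟩
  obtain ⟨t, f, ht⟩ := U.exists_isTv' ha0 ha
  have := ht.conj z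
  rw [← Subgroup.mem_center_iff.1 hz t, mul_inv_cancel_right] at this
  obtain ⟨c, -, hc⟩ := (ht.par this).1
  exact ⟨c, hc⟩

section pc
variable {p : ℕ} [Fact p.Prime] [CharP F p]

theorem exists_iso_fixed (P : Subgroup H) (hP : IsPGroup p P) {t : H} (ht : t ∈ P) (ht1 : t ≠ 1) :
    ∃ a, a ≠ 0 ∧ hf τ a a = 0 ∧ ∀ g ∈ P, ρ g *ᵥ a = a := by
  let W : Submodule F (ι → F) :=
    { carrier := {w | ∀ c, (∀ g ∈ P, ρ g *ᵥ c = c) → hf τ w c = 0}
      add_mem' := fun ha hb c hc => by rw [hf_add_left, ha c hc, hb c hc, add_zero]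
      zero_mem' := fun c _ => hf_zero_left c
      smul_mem' := fun r w hw c hc => by rw [hf_smul_left, hw c hc, mul_zero] }
  obtain ⟨a, haW, ha0, ha⟩ := exists_fixed_vec hP (ρ.comp P.subtype) W (fun g w hw c hc => by
      have := U.isom g w c
      rw [hc g g.2] at this
      exact this.trans (hw c hc)) (fun h => ht1 (U.inj (by
      rw [map_one]
      refine ext_mulVec fun v => ?_
      have : ρ t *ᵥ v - v ∈ W := fun c hc => by
        have := U.isom t v c
        rw [hc t ht] at this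
        rw [hf_sub_left, this, sub_self]
      rw [h, Submodule.mem_bot, sub_eq_zero] at this
      rw [this, one_mulVec])))
  exact ⟨a, ha0, haW a fun g hg => ha ⟨g, hg⟩, fun g hg => ha ⟨g, hg⟩⟩

theorem pCentral_iff (h3 : 3 ≤ Fintype.card ι) (t : H) : PCentral p t ↔ TvOr1 ρ t := by
  have I := U.toIsom
  constructor
  · rintro ⟨P, htP, hc⟩
    by_cases ht1 : t = 1
    · exact ⟨0, 0, by simp, by simp [ht1]⟩
    obtain ⟨a, ha0, ha, hfix⟩ := U.exists_iso_fixed P P.isPGroup' htP ht1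
    have hQ := flagQ_le_sylow U.inj P hfix fun g hg => I.fix_pf (hfix g hg)
    have hta : ∀ v, hf τ (ρ t *ᵥ v) a = hf τ v a := fun v => by
      have := U.isom t v a
      rwa [hfix t htP] at this
    obtain ⟨v₀, hv₀⟩ := exists_hf_one (τ := τ) ha0
    have k1 : ∀ u, hf τ u a = 0 → ρ t *ᵥ u = u - hf τ (ρ t *ᵥ v₀ - v₀) u • a := fun u hu => by
      obtain ⟨g, hg, l, e⟩ := U.exists_rho ha hu
      have := congrArg (fun x => ρ x *ᵥ v₀) (hc g (hQ hg))
      simp only [map_mul, ← mulVec_mulVec, e, mulVec_add, mulVec_smul, hta, hv₀, hfix t htP,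
        one_smul] at this
      rw [hf_sub_left]
      linear_combination (norm := module) this
    have k2 : ∀ u, hf τ u a = 0 → hf τ (ρ t *ᵥ v₀ - v₀) u = 0 := fun u hu => by
      obtain ⟨c, hc'⟩ := exists_ne_of_orderOf_two U.ord
      have h1 := k1 (c • u) (by rw [hf_smul_left, hu, mul_zero])
      rw [mulVec_smul, k1 u hu, hf_smul_right] at h1
      set x := hf τ (ρ t *ᵥ v₀ - v₀) u
      have : ((τ c - c) * x) • a = 0 := by linear_combination (norm := module) h1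
      exact (mul_eq_zero.1 ((smul_eq_zero.1 this).resolve_right ha0)).resolve_left
        (sub_ne_zero.2 hc')
    have k3 : ∀ u, hf τ u a = 0 → ρ t *ᵥ u = u := fun u hu => by
      rw [k1 u hu, k2 u hu, zero_smul, sub_zero]
    obtain ⟨c, hc'⟩ := eq_tv_of_fix (M := ρ t) (a := a) (pf_ne_zero (τ := τ) (A := 1) (by simp) ha0)
      (fun v hv => k3 v (by rwa [pf_dot_hf] at hv)) fun v => by
        obtain ⟨c, hc⟩ := smul_of_hf (τ := τ) (x := a) (y := ρ t *ᵥ v - v) fun u hu => by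
          have := U.isom t u v
          rw [k3 u hu] at this
          rw [hf_sub_right, this, sub_self]
        exact ⟨c, by rw [← hc]; abel⟩
    exact ⟨a, _, by rw [smul_dotProduct, pf_dot_hf, ha, smul_zero], hc'⟩
  · intro ht
    rcases ht.cases with h | ⟨a, f, ht⟩
    · rw [show t = 1 from U.inj (by rw [h, map_one])]
      exact pCentral_one
    have ha : hf τ a a = 0 := I.iso_of_isTv ht
    obtain ⟨P, hP⟩ := (flagQ_isPGroup (p := p) U.inj (a := a) (f := pf τ 1 a)).exists_le_sylow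
    obtain ⟨a', -, ha', -, -, h1, -⟩ := exists_fixed_pair ρ (by omega) P P.isPGroup'
    have k : ∀ u, hf τ u a = 0 → ∃ l : F,
        hf τ a' a • u + (l * hf τ a' a - hf τ a' u) • a = 0 := fun u hu => by
      obtain ⟨g, hg, l, e⟩ := U.exists_rho ha hu
      have := h1 g (hP hg)
      rw [e] at this
      exact ⟨l, by linear_combination (norm := module) this⟩
    obtain ⟨v₀, hv₀⟩ := exists_hf_one (τ := τ) ht.1
    obtain ⟨u₀, hu₀, h2, h4⟩ := exists_perp2 h3 (pf τ 1 a) (pf τ 1 v₀)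
    rw [pf_dot_hf] at h2 h4
    have k1 : hf τ a' a = 0 := by
      obtain ⟨l, hl⟩ := k u₀ h2
      have h5 := congrArg (fun x => hf τ x v₀) hl
      have h6 : hf τ a v₀ = 1 := by rw [← hf_conj U.ord, hv₀, map_one]
      simp only [hf_add_left, hf_smul_left, h4, h6, hf_zero_left, mul_zero, zero_add,
        mul_one] at h5
      rw [h5, zero_smul, add_zero] at hl
      exact (smul_eq_zero.1 hl).resolve_right hu₀
    obtain ⟨c, hc⟩ := smul_of_hf (τ := τ) (x := a) (y := a') fun u hu => by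
      obtain ⟨l, hl⟩ := k u hu
      rw [k1, zero_smul, zero_add, mul_zero, zero_sub, neg_smul, neg_eq_zero] at hl
      exact hf_comm U.ord ((smul_eq_zero.1 hl).resolve_right ht.1)
    have hc0 : c ≠ 0 := by rintro rfl; exact ha' (by simpa using hc)
    have hfix : ∀ g ∈ (P : Subgroup H), ρ g *ᵥ a = a := fun g hg => by
      have := h1 g hg
      rw [hc, mulVec_smul] at this
      exact smul_right_injective _ hc0 this
    obtain ⟨d, -, hd⟩ := (I.par_pf ht).symm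
    refine pCentral_of_fix U.inj P ht.2.2.1 ht.2.2.2 hfix fun g hg v => ?_
    rw [hd, smul_dotProduct, smul_dotProduct, I.fix_pf (hfix g hg)]

end pc

local notation "mk" => (QuotientGroup.mk : H → H ⧸ Subgroup.center H)

theorem tvPres (h3 : 3 ≤ Fintype.card ι) (α : MulAut (H ⧸ Subgroup.center H)) : TvPres ρ α := by
  obtain ⟨p, hp⟩ := CharP.exists F
  have : Fact p.Prime := ⟨CharP.char_is_prime F p⟩
  have : Nonempty ι := Fintype.card_pos_iff.1 (by omega)
  exact (U.setup (by omega)).tvPres_of_pCentral (p := p) (U.pCentral_iff h3) α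

theorem centerPres (h3 : 3 ≤ Fintype.card ι) (α : MulAut (H ⧸ Subgroup.center H)) :
    CenterPres ρ α := U.toIsom.centerPres (U.setup (by omega)) h3 (U.tvPres h3 α)

theorem exists_cr (h3 : 3 ≤ Fintype.card ι) (α : MulAut (H ⧸ Subgroup.center H)) {a : ι → F}
    (ha0 : a ≠ 0) (ha : hf τ a a = 0) : ∃ b, CR ρ α a b := by
  obtain ⟨t, f, ht⟩ := U.exists_isTv' ha0 ha
  exact (U.setup (by omega)).exists_cr (U.tvPres h3 α) ht

variable {α : MulAut (H ⧸ Subgroup.center H)}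

theorem exists_cr' (h3 : 3 ≤ Fintype.card ι) (α : MulAut (H ⧸ Subgroup.center H)) {b : ι → F}
    (ha0 : b ≠ 0) (ha : hf τ b b = 0) : ∃ a, CR ρ α a b :=
  (U.exists_cr h3 α⁻¹ ha0 ha).imp fun _ h => h.symm

theorem cr_perp_iff (h3 : 3 ≤ Fintype.card ι) {u u' v v' : ι → F} (hu : CR ρ α u u')
    (hv : CR ρ α v v') : hf τ u v = 0 ↔ hf τ u' v' = 0 :=
  ⟨U.toIsom.cr_perp (U.centerPres h3 α) hv hu,
    U.toIsom.cr_perp (U.centerPres h3 α⁻¹) hv.symm hu.symm⟩

omit [Finite F] in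
theorem cr_iso {u u' : ι → F} (hu : CR ρ α u u') : hf τ u u = 0 := U.toIsom.cr_iso hu

/-- hyperbolic lines are preserved -/
theorem cr_hyp (h3 : 3 ≤ Fintype.card ι) {a a' b b' : ι → F} (ha : CR ρ α a a')
    (hb : CR ρ α b b') (hab : hf τ b a ≠ 0) {k : F} (hk0 : k ≠ 0)
    (hk : hf τ (b + k • a) (b + k • a) = 0) :
    ∃ k' : F, k' ≠ 0 ∧ CR ρ α (b + k • a) (b' + k' • a') := by
  have hba := hf_ne_comm U.ord hab
  obtain ⟨t, ht⟩ := U.exists_isTv ha.ne_left (U.cr_iso ha) (div_ne_zero hk0 hab) (by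
    simp only [hf_add_left, hf_add_right, hf_smul_left, hf_smul_right, U.cr_iso ha,
      U.cr_iso hb] at hk
    rw [map_div₀, hf_conj U.ord]
    field_simp
    linear_combination hk)
  obtain ⟨t', a'', f', ht', e⟩ := (U.setup (by omega)).exists_isTv (U.tvPres h3 α) ht
  obtain ⟨f'', ht'', -⟩ := ht'.of_par
    (ha.par (U.centerPres h3 α) ⟨_, _, _, _, ht, ht', e⟩ (Par.refl a)).symm
  have := hb.equiv e
  rw [ht.2.2.2, ht''.2.2.2, tv_mulVec, tv_mulVec, smul_dotProduct, pf_dot_hf, smul_eq_mul,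
    div_mul_cancel₀ _ hab] at this
  refine ⟨_, fun h0 => hab ?_, this⟩
  rw [U.cr_perp_iff h3 hb ha, ← pf_dot_hf]
  exact (U.toIsom.par_pf ht'').dot_eq_zero' h0

theorem exists_half_three (h3 : Fintype.card ι = 3) (α : MulAut (H ⧸ Subgroup.center H))
    {x : ι → F} (hx : hf τ x x ≠ 0) :
    ∃ x', x' ≠ 0 ∧ ∀ u u', CR ρ α u u' → hf τ u x = 0 → hf τ u' x' = 0 := by
  obtain ⟨a, b, ha, hb, hax, hbx, hab⟩ := exists_hyp_perp U.ord h3.ge hx
  obtain ⟨a', ha'⟩ := U.exists_cr h3.ge α (ne_zero_of_hf_right hab) ha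
  obtain ⟨b', hb'⟩ := U.exists_cr h3.ge α (ne_zero_of_hf_left hab) hb
  obtain ⟨x', h0, h1, h2⟩ := exists_perp2 h3.ge (pf τ 1 a') (pf τ 1 b')
  rw [pf_dot_hf] at h1 h2
  have h1' := hf_comm U.ord h1
  have h2' := hf_comm U.ord h2
  refine ⟨x', h0, fun u u' hu hux => ?_⟩
  have i2 : Ind2 F a b := ind2_of_not_par ha'.ne_left hb'.ne_left fun hp => hab (hp.hf_left ha)
  obtain ⟨s, t, e⟩ := inSp_three h3 (pf_ne_zero (τ := τ) (A := 1) (by simp) (ne_zero_of_hf_left hx))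
    i2 (u := u) (by rwa [pf_dot_hf]) (by rwa [pf_dot_hf]) (by rwa [pf_dot_hf])
  have hc := U.centerPres h3.ge α
  by_cases ht : t = 0
  · exact (ha'.par hc hu (par_of_smul (c := s) hu.ne_left (by simpa [ht] using e))).hf_left h1'
  by_cases hs : s = 0
  · exact (hb'.par hc hu (par_of_smul (c := t) hu.ne_left (by simpa [hs] using e))).hf_left h2'
  have hp : Par u (b + (t⁻¹ * s) • a) := ⟨t⁻¹, inv_ne_zero ht, by
    rw [e, smul_add, smul_smul, smul_smul, inv_mul_cancel₀ ht, one_smul, add_comm]⟩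
  obtain ⟨k', -, hk'⟩ := U.cr_hyp h3.ge ha' hb' hab (mul_ne_zero (inv_ne_zero ht) hs)
    (hp.hf_self (U.cr_iso hu))
  refine (hk'.par hc hu hp.symm).hf_left ?_
  rw [hf_add_left, hf_smul_left, h1', h2']; ring

theorem exists_half_four (h4 : 4 ≤ Fintype.card ι) (α : MulAut (H ⧸ Subgroup.center H))
    {x : ι → F} (hx : hf τ x x = 1) :
    ∃ x', x' ≠ 0 ∧ ∀ u u', CR ρ α u u' → hf τ u x = 0 → hf τ u' x' = 0 := by
  have h3 : 3 ≤ Fintype.card ι := by omega
  have hσ := U.ord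
  have hc := U.centerPres h3 α
  obtain ⟨i, j, k, hij, hik, hjk⟩ := exists_three h3
  obtain ⟨i₀, hi₀⟩ : ∃ i₀, i₀ ∉ ({i, j, k} : Finset ι) := by
    by_contra h
    push Not at h
    have h1 := Finset.card_le_card (show Finset.univ ⊆ {i, j, k} from fun x _ => h x)
    have h2 : ({i, j, k} : Finset ι).card ≤ 3 := Finset.card_le_three
    rw [Finset.card_univ] at h1
    omega
  simp only [Finset.mem_insert, Finset.mem_singleton, not_or] at hi₀
  obtain ⟨e, he, ei⟩ := exists_onb_one hσ hx i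
  obtain ⟨m, hm0, hm⟩ := exists_norm_neg_one hσ
  set y := e j with hy
  set w := e k with hw
  have hyy : hf τ y y = 1 := he.self j
  have hxy : hf τ x y = 0 := ei ▸ he.ne hij
  have hyx := hf_comm hσ hxy
  have hxw : hf τ x w = 0 := ei ▸ he.ne hik
  have hyw : hf τ y w = 0 := he.ne hjk
  have hwx := hf_comm hσ hxw
  have hwy := hf_comm hσ hyw
  have ha := iso_of_orth hσ hx hyy hxy hm
  set a := x + m • y with hadef
  have hxa : hf τ x a = 1 := by rw [hadef, hf_add_right, hf_smul_right, hx, hxy]; ring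
  obtain ⟨l, hb⟩ := exists_iso_add hσ ha (v := x) (by rw [hxa]; simp)
  set b := x + l • a with hbdef
  have hba : hf τ b a ≠ 0 := by rw [hbdef, hf_add_left, hf_smul_left, ha, hxa]; simp
  have hcc := iso_of_orth hσ hyy (he.self k) hyw hm
  set c := y + m • w with hcdef
  have hca : hf τ c a ≠ 0 := by
    simp only [hcdef, hadef, hf_add_left, hf_add_right, hf_smul_left, hf_smul_right, hyx, hyy, hwx,
      hwy]
    simpa using hm0
  obtain ⟨a', ha'⟩ := U.exists_cr h3 α (ne_zero_of_hf_right hba) ha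
  obtain ⟨b', hb'⟩ := U.exists_cr h3 α (ne_zero_of_hf_left hba) hb
  obtain ⟨c', hc'⟩ := U.exists_cr h3 α (ne_zero_of_hf_left hca) hcc
  have hba' : hf τ b' a' ≠ 0 := fun h => hba ((U.cr_perp_iff h3 hb' ha').2 h)
  have hca' : hf τ c' a' ≠ 0 := fun h => hca ((U.cr_perp_iff h3 hc' ha').2 h)
  have i2 : Ind2 F a' b' := ind2_of_not_par ha'.ne_right hb'.ne_right
    fun hp => hba' (hp.hf_left (U.cr_iso ha'.symm))
  obtain ⟨k₀, hk₀, hk₁⟩ := exists_trace_zero hσ
  obtain ⟨k', hk'0, hk'⟩ := U.cr_hyp h3 ha' hb' hba (div_ne_zero hk₀ (hf_ne_comm hσ hba)) (by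
    have := hf_ne_comm hσ hba
    simp only [hf_add_left, hf_add_right, hf_smul_left, hf_smul_right, ha, hb, map_div₀,
      hf_conj hσ]
    field_simp
    linear_combination hf τ a b * hf τ b a * hk₁)
  refine ⟨hf τ b' c' • a' - hf τ a' c' • b', fun h0 => hf_ne_comm hσ hca' ?_, fun u u' hu hux => ?_⟩
  · have := (i2 (hf τ b' c') (- hf τ a' c') (by rw [← h0]; module)).2
    exact neg_eq_zero.1 this
  by_cases hs : hf τ u y = 0
  · have h1 : hf τ u a = 0 := by rw [hadef, hf_add_right, hf_smul_right, hux, hs]; ring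
    have h2 : hf τ u b = 0 := by rw [hbdef, hf_add_right, hf_smul_right, hux, h1]; ring
    rw [hf_sub_right, hf_smul_right, hf_smul_right, (U.cr_perp_iff h3 hu ha').1 h1,
      (U.cr_perp_iff h3 hu hb').1 h2]
    ring
  set s := hf τ u y with hsdef
  set w₁ := m⁻¹ • (s⁻¹ • u - y) with hw₁
  have hw₁x : hf τ w₁ x = 0 := by
    rw [hw₁, hf_smul_left, hf_sub_left, hf_smul_left, hux, hyx]; ring
  have hw₁y : hf τ w₁ y = 0 := by
    rw [hw₁, hf_smul_left, hf_sub_left, hf_smul_left, hyy, ← hsdef, inv_mul_cancel₀ hs]; ring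
  have eu : y + m • w₁ = s⁻¹ • u := by
    rw [hw₁, smul_smul, mul_inv_cancel₀ hm0, one_smul]; abel
  have hw₁w : hf τ w₁ w₁ = 1 := by
    have : hf τ (y + m • w₁) (y + m • w₁) = 0 := by
      rw [eu, hf_smul_left, hf_smul_right, U.cr_iso hu]; ring
    simp only [hf_add_left, hf_add_right, hf_smul_left, hf_smul_right, hyy, hw₁y,
      hf_comm hσ hw₁y] at this
    linear_combination -this + hf τ w₁ w₁ * hm
  obtain ⟨e', he', e1, e2, e3⟩ := exists_onb_three hσ hx hyy hw₁w hxy (hf_comm hσ hw₁x)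
    (hf_comm hσ hw₁y) hij hik hjk
  obtain ⟨g, hg⟩ := U.exists_map he he' i₀
  have gx : ρ g *ᵥ x = x := by rw [← ei, hg i (Ne.symm hi₀.1), e1, ei]
  have gy : ρ g *ᵥ y = y := by rw [hg j (Ne.symm hi₀.2.1), e2]
  have gw : ρ g *ᵥ w = w₁ := by rw [hg k (Ne.symm hi₀.2.2), e3]
  have ga : ρ g *ᵥ a = a := by rw [hadef, mulVec_add, mulVec_smul, gx, gy]
  have gb : ρ g *ᵥ b = b := by rw [hbdef, mulVec_add, mulVec_smul, gx, ga]
  have gc : ρ g *ᵥ c = s⁻¹ • u := by rw [hcdef, mulVec_add, mulVec_smul, gy, gw, eu]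
  obtain ⟨g', eg⟩ := exists_corr α g
  obtain ⟨μ, -, hμ⟩ := ha'.par hc (ha'.equiv eg) (by rw [ga]; exact Par.refl _)
  obtain ⟨ν, -, hν⟩ := hb'.par hc (hb'.equiv eg) (by rw [gb]; exact Par.refl _)
  obtain ⟨ξ, -, hξ⟩ := hk'.par hc (hk'.equiv eg) (by
    rw [mulVec_add, mulVec_smul, ga, gb]; exact Par.refl _)
  rw [mulVec_add, mulVec_smul, hμ, hν] at hξ
  have h5 := i2 (k' * (μ - ξ)) (ν - ξ) (by linear_combination (norm := module) hξ)
  have h6 : ν = μ := by
    have := (mul_eq_zero.1 h5.1).resolve_left hk'0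
    linear_combination h5.2 - this
  have h7 : Par (ρ g' *ᵥ c') u' := (hc'.equiv eg).par hc hu (by
    rw [gc]; exact Par.symm ⟨s⁻¹, inv_ne_zero hs, rfl⟩)
  refine h7.hf_left ?_
  have h8 := U.isom g' c' (hf τ b' c' • a' - hf τ a' c' • b')
  have h9 : hf τ c' (hf τ b' c' • a' - hf τ a' c' • b') = 0 := by
    rw [hf_sub_right, hf_smul_right, hf_smul_right, hf_conj hσ, hf_conj hσ]; ring
  have hμ0 : μ ≠ 0 := by
    rintro rfl
    exact rho_mulVec_ne_zero g' ha'.ne_right (by rw [hμ, zero_smul])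
  rw [h9, mulVec_sub, mulVec_smul, mulVec_smul, hμ, hν, h6, smul_comm _ μ, smul_comm _ μ,
    ← smul_sub, hf_smul_right] at h8
  exact (mul_eq_zero.1 h8).resolve_left ((_root_.map_ne_zero τ).2 hμ0)

theorem exists_half (h3 : 3 ≤ Fintype.card ι) (α : MulAut (H ⧸ Subgroup.center H))
    {x : ι → F} (hx : hf τ x x ≠ 0) :
    ∃ x', hf τ x' x' ≠ 0 ∧ ∀ u u', CR ρ α u u' → hf τ u x = 0 → hf τ u' x' = 0 := by
  have : ∃ x', x' ≠ 0 ∧ ∀ u u', CR ρ α u u' → hf τ u x = 0 → hf τ u' x' = 0 := by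
    rcases h3.eq_or_lt with h | h
    · exact U.exists_half_three h.symm α hx
    · obtain ⟨l, hl0, hl⟩ := exists_unit_smul U.ord hx one_ne_zero (map_one τ)
      obtain ⟨x', h0, h1⟩ := U.exists_half_four h α hl
      exact ⟨x', h0, fun u u' hu hux => h1 u u' hu (by rw [hf_smul_right, hux, mul_zero])⟩
  obtain ⟨x', h0, h1⟩ := this
  refine ⟨x', fun hiso => ?_, h1⟩
  obtain ⟨d, hd⟩ := U.exists_cr' h3 α h0 hiso
  obtain ⟨c, hc⟩ := smul_of_iso_perp U.ord h3 hx (y := d) fun u hu hux => by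
    by_cases hu0 : u = 0
    · rw [hu0, hf_zero_left]
    obtain ⟨u', hu'⟩ := U.exists_cr h3 α hu0 hu
    exact (U.cr_perp_iff h3 hu' hd).2 (h1 u u' hu' hux)
  exact hx ((par_of_smul hd.ne_left hc).symm.hf_self (U.cr_iso hd))

end SUlike

variable (ρ τ) in
/-- the correspondence of non-isotropic points -/
def NR (α : MulAut (H ⧸ Subgroup.center H)) (x x' : ι → F) : Prop :=
  hf τ x x ≠ 0 ∧ hf τ x' x' ≠ 0 ∧ ∀ u u', CR ρ α u u' → (hf τ u x = 0 ↔ hf τ u' x' = 0)

variable {α : MulAut (H ⧸ Subgroup.center H)}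

theorem NR.symm {x x' : ι → F} (h : NR τ ρ α x x') : NR τ ρ α⁻¹ x' x :=
  ⟨h.2.1, h.1, fun u u' hu => (h.2.2 u' u hu.symm).symm⟩

namespace SUlike
variable (U : SUlike τ ρ) [Finite F]
include U

local notation "mk" => (QuotientGroup.mk : H → H ⧸ Subgroup.center H)

omit [Finite F] in
theorem nr_equiv {x x' : ι → F} (h : NR τ ρ α x x') {g g' : H} (e : α (mk g) = mk g') :
    NR τ ρ α (ρ g *ᵥ x) (ρ g' *ᵥ x') := by
  refine ⟨by rw [U.isom]; exact h.1, by rw [U.isom]; exact h.2.1, fun u u' hu => ?_⟩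
  have e' : α (mk g⁻¹) = mk g'⁻¹ := by rw [QuotientGroup.mk_inv, map_inv, e]; rfl
  have := h.2.2 _ _ (hu.equiv e')
  rwa [← U.isom g, mulVec_inv_mulVec, ← U.isom g' _ x', mulVec_inv_mulVec] at this

theorem nr_par (h3 : 3 ≤ Fintype.card ι) {x x' y y' : ι → F} (h : NR τ ρ α x x')
    (h' : NR τ ρ α y y') (hp : Par x y) : Par x' y' := by
  obtain ⟨c, hc⟩ := smul_of_iso_perp U.ord h3 h.2.1 (y := y') fun u' hu hux => by
    by_cases hu0 : u' = 0
    · rw [hu0, hf_zero_left]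
    obtain ⟨u, hu'⟩ := U.exists_cr' h3 α hu0 hu
    exact (h'.2.2 u u' hu').1 (hp.hf_right ((h.2.2 u u' hu').2 hux))
  exact par_of_smul (ne_zero_of_hf_left h'.2.1) hc

theorem exists_nr (h3 : 3 ≤ Fintype.card ι) (α : MulAut (H ⧸ Subgroup.center H)) {x : ι → F}
    (hx : hf τ x x ≠ 0) : ∃ x', NR τ ρ α x x' := by
  obtain ⟨x', h1, h2⟩ := U.exists_half h3 α hx
  obtain ⟨x'', h4, h5⟩ := U.exists_half h3 α⁻¹ h1
  obtain ⟨c, hc⟩ := smul_of_iso_perp U.ord h3 hx (y := x'') fun u hu hux => by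
    by_cases hu0 : u = 0
    · rw [hu0, hf_zero_left]
    obtain ⟨u', hu'⟩ := U.exists_cr h3 α hu0 hu
    exact h5 u' u hu'.symm (h2 u u' hu' hux)
  exact ⟨x', hx, h1, fun u u' hu => ⟨h2 u u' hu, fun h =>
    (par_of_smul (ne_zero_of_hf_left h4) hc).symm.hf_right (h5 u' u hu.symm h)⟩⟩

theorem nr_perp (h3 : 3 ≤ Fintype.card ι) {x x' y y' : ι → F} (hx : NR τ ρ α x x')
    (hy : NR τ ρ α y y') (hxy : hf τ x y = 0) : hf τ x' y' = 0 := by
  have hσ := U.ord
  by_contra hne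
  have i2 : Ind2 F x' y' := ind2_of_not_par (ne_zero_of_hf_left hne) (ne_zero_of_hf_right hne)
    fun hp => hx.1 ((U.nr_par h3 hx.symm hy.symm hp).symm.hf_right hxy)
  obtain ⟨s, t, h0, hiso⟩ := exists_iso_inSp hσ hx.2.1 i2
  obtain ⟨a, ha⟩ := U.exists_cr' h3 α h0 hiso
  obtain ⟨i, j, k, hij, -, -⟩ := exists_three h3
  obtain ⟨l, hl0, hl⟩ := exists_unit_smul hσ hx.1 one_ne_zero (map_one τ)
  obtain ⟨m, hm0, hm⟩ := exists_unit_smul hσ hy.1 one_ne_zero (map_one τ)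
  obtain ⟨e, he, ei, ej⟩ := exists_onb_two hσ hl hm
    (by rw [hf_smul_left, hf_smul_right, hxy]; ring) hij
  obtain ⟨i', j', hij', hi', hj'⟩ := he.exists_two_ne ha.ne_left (U.cr_iso ha)
  obtain ⟨c, hc1, hc2⟩ := exists_norm_one_sq_ne hσ
  obtain ⟨g, g1, g2, g3⟩ := U.exists_diag he hij' hc1
  obtain ⟨g', eg⟩ := exists_corr α g
  have fix : ∀ {z : ι → F} {r : F} {n : ι}, r ≠ 0 → e n = r • z → z ≠ 0 → Par z (ρ g *ᵥ z) :=
    fun {z r n} hr hn hz => by
      obtain ⟨d, hd⟩ := g3 n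
      rw [hn, mulVec_smul, smul_comm] at hd
      exact par_of_smul (rho_mulVec_ne_zero g hz) (smul_right_injective _ hr hd)
  obtain ⟨μ, -, hμ⟩ := U.nr_par h3 hx (U.nr_equiv hx eg) (fix hl0 ei (ne_zero_of_hf_left hx.1))
  obtain ⟨ν, -, hν⟩ := U.nr_par h3 hy (U.nr_equiv hy eg) (fix hm0 ej (ne_zero_of_hf_left hy.1))
  have h1 := U.isom g' x' y'
  have h2 := U.isom g' y' y'
  rw [hν, hf_smul_right] at h1 h2
  rw [hμ, hf_smul_left, ← mul_assoc, mul_eq_right₀ hne] at h1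
  rw [hf_smul_left, ← mul_assoc, mul_eq_right₀ hy.2.1] at h2
  have h4 : μ = ν := mul_left_cancel₀ (left_ne_zero_of_mul_eq_one h1) (h1.trans h2.symm)
  obtain ⟨r, -, hr⟩ := ha.symm.par (U.centerPres h3 α⁻¹) (ha.equiv eg).symm
    ⟨μ, right_ne_zero_of_mul_eq_one h1, by
      rw [mulVec_add, mulVec_smul, mulVec_smul, hμ, hν, h4]; module⟩
  have h5 := U.isom g a (e i')
  have h6 := U.isom g a (e j')
  rw [hr, g1, hf_smul_left, hf_smul_right, ← mul_assoc, mul_eq_right₀ hi'] at h5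
  rw [hr, g2, hf_smul_left, hf_smul_right, ← mul_assoc, mul_eq_right₀ hj',
    sq_of_orderOf_two hσ] at h6
  exact hc2 (mul_left_cancel₀ (left_ne_zero_of_mul_eq_one h5) (h6.trans h5.symm))

theorem exists_total (h3 : 3 ≤ Fintype.card ι) (α : MulAut (H ⧸ Subgroup.center H)) {x : ι → F}
    (hx : x ≠ 0) : ∃ x', CR ρ α x x' ∨ NR τ ρ α x x' := by
  by_cases h : hf τ x x = 0
  · exact (U.exists_cr h3 α hx h).imp fun _ => Or.inl
  · exact (U.exists_nr h3 α h).imp fun _ => Or.inr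

theorem exists_total' (h3 : 3 ≤ Fintype.card ι) (α : MulAut (H ⧸ Subgroup.center H)) {x' : ι → F}
    (hx : x' ≠ 0) : ∃ x, CR ρ α x x' ∨ NR τ ρ α x x' :=
  (U.exists_total h3 α⁻¹ hx).imp fun _ h => h.imp CR.symm NR.symm

theorem exists_simil (h3 : 3 ≤ Fintype.card ι) (α : MulAut (H ⧸ Subgroup.center H)) :
    ∃ (g : GL ι F) (σ : F ≃+* F) (c : F),
      (g : Matrix ι ι F)ᵀ * 1 * (g : Matrix ι ι F).map τ = c • 1 ∧
      ∀ a b, CR ρ α a b ∨ NR τ ρ α a b → Par b ((g : Matrix ι ι F) *ᵥ (σ ∘ a)) := by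
  refine exists_simil_of_total (by simp) h3 (fun σ => Matrix.map_one _ (map_zero _) (map_one _)) _
    (fun _ => U.exists_total h3 α) (fun _ => U.exists_total' h3 α) ?_ ?_
  · rintro a b (h | h)
    exacts [⟨h.ne_left, h.ne_right⟩, ⟨ne_zero_of_hf_left h.1, ne_zero_of_hf_left h.2.1⟩]
  · rintro u v u' v' (hu | hu) (hv | hv)
    · exact U.cr_perp_iff h3 hu hv
    · exact hv.2.2 u u' hu
    · have := hu.2.2 v v' hv
      exact ⟨fun h => hf_comm U.ord (this.1 (hf_comm U.ord h)),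
        fun h => hf_comm U.ord (this.2 (hf_comm U.ord h))⟩
    · exact ⟨U.nr_perp h3 hu hv, U.nr_perp h3 hu.symm hv.symm⟩

end SUlike

end Cfsg.Agent.H6
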