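import Mathlib
import Cfsg.Agent.H6.Polar

/-!
Automorphisms of the projective symplectic groups: the geometric part.
-/

set_option autoImplicit false

namespace Cfsg.Agent.H6

open Matrix FTPG

variable {ι : Type*} [Fintype ι] [DecidableEq ι] {F : Type*} [Field F]
  {H : Type*} [Group H] {ρ : H →* Matrix ι ι F} {A : Matrix ι ι F}

omit [DecidableEq ι] in
theorem exists_perp_family {κ : Type*} [Fintype κ] (h : Fintype.card κ < Fintype.card ι)
    (f : κ → ι → F) : ∃ v : ι → F, v ≠ 0 ∧ ∀ k, f k ⬝ᵥ v = 0 := by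
  have := LinearMap.ker_ne_bot_of_finrank_lt (f := (Matrix.of f).mulVecLin) (by simpa using h)
  obtain ⟨v, hv, h0⟩ := Submodule.exists_mem_ne_zero_of_ne_bot this
  exact ⟨v, h0, fun k => congrFun hv k⟩

omit [DecidableEq ι] in
theorem bf_refl (u v : ι → F) : sf ((RingEquiv.refl F : F ≃+* F) : F →+* F) A u v = bf A u v := rfl

/-- the functional `v ↦ B(v, a)` -/
abbrev pb (A : Matrix ι ι F) (a : ι → F) : ι → F := pf (RingEquiv.refl F) A a

omit [DecidableEq ι] in
theorem pb_dot (a v : ι → F) : pb A a ⬝ᵥ v = bf A v a := pf_dot ..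

theorem exists_bf_one (hA : A.det ≠ 0) {a : ι → F} (ha : a ≠ 0) : ∃ v, bf A v a = 1 :=
  exists_sf_one (τ := RingEquiv.refl F) hA ha

theorem smul_of_bf (hA : A.det ≠ 0) {x y : ι → F} (h : ∀ u, bf A u x = 0 → bf A u y = 0) :
    ∃ c : F, y = c • x := smul_of_perp (τ := RingEquiv.refl F) hA h

theorem exists_bf_of_ind2 (hA : A.det ≠ 0) {x y : ι → F} (h : Ind2 F x y) :
    ∃ v, bf A x v = 1 ∧ bf A y v = 0 := exists_sf_of_ind2 (τ := RingEquiv.refl F) hA h

theorem exists_bf_of_not_inSp (hA : A.det ≠ 0) {e x y : ι → F} (h : ¬ FTPG.InSp F e x y) :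
    ∃ v, bf A e v = 1 ∧ bf A x v = 0 ∧ bf A y v = 0 := by
  obtain ⟨f, h1⟩ := exists_dot_of_not_inSp h
  obtain ⟨b, rfl⟩ := pf_surj (τ := RingEquiv.refl F) hA f
  exact ⟨b, h1⟩

variable (ρ A) in
/-- `H` is the full symplectic group of `A`. -/
structure Splike : Prop where
  alt : IsAlt A
  det : A.det ≠ 0
  inj : Function.Injective ρ
  isom : ∀ g u v, bf A (ρ g *ᵥ u) (ρ g *ᵥ v) = bf A u v
  surj : ∀ M : Matrix ι ι F, (∀ u v, bf A (M *ᵥ u) (M *ᵥ v) = bf A u v) → ∃ g, ρ g = M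

/-- no product with a conjugate has order four -/
def P4 {G : Type*} [Group G] (t : G) : Prop :=
  ∀ g : G, (t * (g * t * g⁻¹)) ^ 4 = 1 → (t * (g * t * g⁻¹)) ^ 2 = 1

theorem P4.map {G G' : Type*} [Group G] [Group G'] (e : G ≃* G') {t : G} (h : P4 t) : P4 (e t) := by
  intro g hg
  obtain ⟨g, rfl⟩ := e.surjective g
  rw [← map_inv, ← map_mul, ← map_mul, ← map_mul, ← map_pow, EmbeddingLike.map_eq_one_iff] at hg ⊢
  exact h g hg

variable (ρ A) in
/-- the general shape of a central element of a Sylow subgroup -/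
def Shape (t : H) (a w : ι → F) (c : F) : Prop :=
  ∀ v, ρ t *ᵥ v = v + bf A v a • w + bf A v w • a + (c * bf A v a) • a

namespace Splike
variable (U : Splike ρ A)
include U

theorem comm {u v : ι → F} (h : bf A u v = 0) : bf A v u = 0 := by rw [U.alt.swap, h, neg_zero]

theorem toIsom : Isom ρ (RingEquiv.refl F) A := ⟨U.det, fun _ _ => U.comm, U.isom⟩

theorem exists_tv (a : ι → F) (k : F) : ∃ t, ρ t = tv a (k • pb A a) := by
  refine U.surj _ fun u v => ?_
  simp only [tv_mulVec, smul_dotProduct, pb_dot, smul_eq_mul, sf_add_left, sf_add_right,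
    sf_smul_left, bf_smul_right, U.alt a, U.alt.swap a v]
  ring

theorem exists_tv' (a : ι → F) : ∃ t, ∀ v, ρ t *ᵥ v = v + bf A v a • a := by
  obtain ⟨t, ht⟩ := U.exists_tv a 1
  exact ⟨t, fun v => by rw [ht, tv_mulVec, one_smul, pb_dot]⟩

theorem exists_isTv {a : ι → F} (ha : a ≠ 0) : ∃ t f, IsTv ρ t a f := by
  obtain ⟨t, ht⟩ := U.exists_tv a 1
  rw [one_smul] at ht
  exact ⟨t, _, ha, pf_ne_zero U.det ha, by rw [pb_dot, U.alt], ht⟩

theorem exists_rho {a u : ι → F} (hu : bf A u a = 0) :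
    ∃ g ∈ flagQ ρ a (pb A a), ∀ v, ρ g *ᵥ v = v + bf A v a • u + bf A v u • a := by
  have hu' := U.comm hu
  have e : ∀ v, (tv u (pb A a) * tv a (pb A u)) *ᵥ v = v + bf A v a • u + bf A v u • a :=
    fun v => by
      simp only [← mulVec_mulVec, tv_mulVec, pb_dot, sf_add_left, sf_smul_left, U.alt a, mul_zero,
        add_zero]
      abel
  obtain ⟨g, hg⟩ := U.surj (tv u (pb A a) * tv a (pb A u)) fun v w => by
    simp only [e, sf_add_left, sf_add_right, sf_smul_left, bf_smul_right, U.alt a, U.alt u, hu, hu',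
      U.alt.swap a w, U.alt.swap u w]
    ring
  refine ⟨g, ⟨?_, fun v => ?_, fun v hv => ⟨bf A v u, ?_⟩⟩, fun v => by rw [hg, e]⟩
  · rw [hg, e, U.alt a, hu']; simp
  · rw [hg, e]; simp [pb_dot, sf_add_left, sf_smul_left, U.alt a, hu]
  · rw [pb_dot] at hv
    rw [hg, e, hv]; simp

theorem setup : Setup ρ := by
  refine ⟨U.inj, fun z hz => scalar_of_fix_points fun a => ?_⟩
  by_cases ha0 : a = 0
  · exact ⟨1, by simp [ha0]⟩
  obtain ⟨t, f, ht⟩ := U.exists_isTv ha0
  have := ht.conj z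
  rw [← Subgroup.mem_center_iff.1 hz t, mul_inv_cancel_right] at this
  obtain ⟨c, -, hc⟩ := (ht.par this).1
  exact ⟨c, hc⟩

theorem shape_conj {t : H} {a w : ι → F} {c : F} (h : Shape ρ A t a w c) (g : H) :
    Shape ρ A (g * t * g⁻¹) (ρ g *ᵥ a) (ρ g *ᵥ w) c := fun v => by
  have e : ∀ x, bf A (ρ g⁻¹ *ᵥ v) x = bf A v (ρ g *ᵥ x) := fun x => by
    rw [← U.isom g, mulVec_inv_mulVec]
  rw [map_mul, map_mul, ← mulVec_mulVec, ← mulVec_mulVec, h]
  simp only [mulVec_add, mulVec_smul, mulVec_inv_mulVec, e]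

section pc
variable [Finite F] {p : ℕ} [Fact p.Prime] [CharP F p]

theorem pCentral_of_tvOr1 (h3 : 3 ≤ Fintype.card ι) {t : H} (ht : TvOr1 ρ t) : PCentral p t := by
  have I := U.toIsom
  rcases ht.cases with h | ⟨a, f, ht⟩
  · rw [show t = 1 from U.inj (by rw [h, map_one])]
    exact pCentral_one
  obtain ⟨P, hP⟩ := (flagQ_isPGroup (p := p) U.inj (a := a) (f := pb A a)).exists_le_sylow
  obtain ⟨a', -, ha', -, -, h1, -⟩ := exists_fixed_pair ρ (by omega) P P.isPGroup'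
  have k : ∀ u, bf A u a = 0 → bf A a' a • u + bf A a' u • a = 0 := fun u hu => by
    obtain ⟨g, hg, e⟩ := U.exists_rho hu
    have := h1 g (hP hg)
    rw [e] at this
    linear_combination (norm := module) this
  obtain ⟨v₀, hv₀⟩ := exists_bf_one U.det ht.1
  obtain ⟨u₀, hu₀, h2, h4⟩ := exists_perp2 h3 (pb A a) (pb A v₀)
  rw [pb_dot] at h2 h4
  have k1 : bf A a' a = 0 := by
    have hl := k u₀ h2
    have h5 := congrArg (fun x => bf A x v₀) hl
    simp only [sf_add_left, sf_smul_left, h4, U.alt.swap a v₀, hv₀, sf_zero_left, mul_zero,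
      zero_add, mul_neg, mul_one, neg_eq_zero] at h5
    rw [h5, zero_smul, add_zero] at hl
    exact (smul_eq_zero.1 hl).resolve_right hu₀
  obtain ⟨c, hc⟩ := smul_of_bf U.det (x := a) (y := a') fun u hu => by
    have hl := k u hu
    rw [k1, zero_smul, zero_add] at hl
    exact U.comm ((smul_eq_zero.1 hl).resolve_right ht.1)
  have hc0 : c ≠ 0 := by rintro rfl; exact ha' (by simpa using hc)
  have hfix : ∀ g ∈ (P : Subgroup H), ρ g *ᵥ a = a := fun g hg => by
    have := h1 g hg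
    rw [hc, mulVec_smul] at this
    exact smul_right_injective _ hc0 this
  obtain ⟨d, -, hd⟩ := (I.par_pf ht).symm
  refine pCentral_of_fix U.inj P ht.2.2.1 ht.2.2.2 hfix fun g hg v => ?_
  rw [hd, smul_dotProduct, smul_dotProduct, I.fix_pf (hfix g hg)]

theorem shape_of_pCentral (h2 : 2 ≤ Fintype.card ι) {t : H} (ht : PCentral p t) :
    ∃ a w c, a ≠ 0 ∧ bf A w a = 0 ∧ (∀ u, bf A u a = 0 → 2 * bf A u w = 0) ∧
      ∀ v, ρ t *ᵥ v = v + bf A v a • w - bf A v w • a + (c * bf A v a) • a := by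
  have I := U.toIsom
  obtain ⟨P, htP, hc⟩ := ht
  obtain ⟨a, -, ha0, -, -, hfix, -⟩ := exists_fixed_pair ρ h2 P P.isPGroup'
  have hQ := flagQ_le_sylow U.inj P hfix fun g hg => I.fix_pf (hfix g hg)
  have hta : ∀ v, bf A (ρ t *ᵥ v) a = bf A v a := fun v => by
    have := U.isom t v a
    rwa [hfix t htP] at this
  obtain ⟨v₀, hv₀⟩ := exists_bf_one U.det ha0
  obtain ⟨w, hw⟩ : ∃ w, ρ t *ᵥ v₀ = v₀ + w := ⟨ρ t *ᵥ v₀ - v₀, by abel⟩
  have hwa : bf A w a = 0 := by
    have := hta v₀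
    rwa [hw, sf_add_left, add_eq_left] at this
  have k1 : ∀ u, bf A u a = 0 → ρ t *ᵥ u = u - bf A u w • a := fun u hu => by
    obtain ⟨g, hg, e⟩ := U.exists_rho hu
    have := congrArg (fun x => ρ x *ᵥ v₀) (hc g (hQ hg))
    simp only [map_mul, ← mulVec_mulVec, e, mulVec_add, mulVec_smul, hta, hv₀, hfix t htP,
      one_smul] at this
    rw [hw, sf_add_left, U.alt.swap w u] at this
    linear_combination (norm := module) this
  refine ⟨a, w, bf A v₀ w, ha0, hwa, fun u hu => ?_, fun v => ?_⟩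
  · have := U.isom t v₀ u
    rw [hw, k1 u hu] at this
    simp only [sf_add_left, sf_sub_right, bf_smul_right, hv₀, hwa, U.alt.swap w u] at this
    linear_combination -this
  · have := k1 (v - bf A v a • v₀) (by rw [sf_sub_left, sf_smul_left, hv₀]; ring)
    rw [mulVec_sub, mulVec_smul, hw, sf_sub_left, sf_smul_left] at this
    linear_combination (norm := module) this

omit [Finite F] in
theorem tvOr1_of_shape {t : H} {a : ι → F} {k : F}
    (h : ∀ v, ρ t *ᵥ v = v + (k * bf A v a) • a) : TvOr1 ρ t :=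
  ⟨a, k • pb A a, by rw [smul_dotProduct, pb_dot, U.alt, smul_zero], ext_mulVec fun v => by
    rw [h, tv_mulVec, smul_dotProduct, pb_dot, smul_eq_mul]⟩

theorem pCentral_iff (h3 : 3 ≤ Fintype.card ι) (hp : (2 : F) ≠ 0) (t : H) :
    PCentral p t ↔ TvOr1 ρ t := by
  refine ⟨fun ht => ?_, U.pCentral_of_tvOr1 h3⟩
  obtain ⟨a, w, c, ha, -, h1, h2⟩ := U.shape_of_pCentral (by omega) ht
  obtain ⟨d, rfl⟩ := smul_of_bf U.det (x := a) (y := w) fun u hu =>
    (mul_eq_zero.1 (h1 u hu)).resolve_left hp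
  refine U.tvOr1_of_shape (a := a) (k := c) fun v => ?_
  rw [h2, bf_smul_right]; module

end pc

section two
variable [CharP F 2]

omit U in
theorem two_eq : (2 : F) = 0 := CharTwo.two_eq_zero

theorem symm2 (u v : ι → F) : bf A u v = bf A v u := by rw [U.alt.swap, CharTwo.neg_eq]

theorem center_eq_one {z : H} (hz : z ∈ Subgroup.center H) : z = 1 := by
  obtain ⟨c, hc⟩ := U.setup.center z hz
  apply U.inj
  rw [map_one]
  refine ext_mulVec fun v => ?_
  by_cases hv : v = 0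
  · simp [hv]
  obtain ⟨u, hu⟩ := exists_bf_one U.det hv
  have := U.isom z u v
  rw [hc, smul_mulVec, smul_mulVec, one_mulVec, one_mulVec, sf_smul_left, bf_smul_right, hu] at this
  have h1 : (c - 1) ^ 2 = 0 := by linear_combination this + (1 - c) * two_eq (F := F)
  rw [hc, sub_eq_zero.1 (pow_eq_zero_iff two_ne_zero |>.1 h1), one_smul]

theorem mk_bijective : Function.Bijective (QuotientGroup.mk' (Subgroup.center H)) :=
  ⟨(injective_iff_map_eq_one _).2 fun _ h => U.center_eq_one ((QuotientGroup.eq_one_iff _).1 h),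
    QuotientGroup.mk'_surjective _⟩

theorem p4_of_tvOr1 {t : H} (ht : TvOr1 ρ t) : P4 t := by
  intro g hg
  rcases ht.cases with h | ⟨a, f, ht⟩
  · rw [show t = 1 from U.inj (by rw [h, map_one])]; simp
  have ht' := ht.conj g
  set b := ρ g *ᵥ a
  set f' := f ᵥ* ρ g⁻¹
  set t' := g * t * g⁻¹
  clear_value b f' t'
  have : Nonempty ι := by
    by_contra h
    rw [not_nonempty_iff] at h
    exact ht.1 (Subsingleton.elim _ _)
  have h1 := sub_pow_char_pow_of_commute (R := Matrix ι ι F) 2 2 (Commute.one_right (ρ (t * t')))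
  rw [← map_pow, show 2 ^ 2 = 4 from rfl, hg, map_one, one_pow, sub_self] at h1
  have h2 := (Matrix.isNilpotent_trace_of_isNilpotent ⟨4, h1⟩).eq_zero
  rw [map_mul, ht.2.2.2, ht'.2.2.2, tv, tv, add_mul, mul_add, mul_add, vecMulVec_mul_vecMulVec,
    trace_sub, trace_add, trace_add, trace_add] at h2
  simp only [one_mul, mul_one, trace_vecMulVec, dotProduct_smul, smul_dotProduct, dotProduct_comm b,
    dotProduct_comm a, ht.2.2.1, ht'.2.2.1, smul_eq_mul, add_zero, zero_add,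
    add_sub_cancel_left] at h2
  have I := U.toIsom
  have h3 : f ⬝ᵥ b = 0 ↔ f' ⬝ᵥ a = 0 :=
    ⟨fun h => (I.par_pf ht').symm.dot_eq_zero' (by
      rw [pb_dot, U.symm2, ← pb_dot]; exact (I.par_pf ht).dot_eq_zero' h),
    fun h => (I.par_pf ht).symm.dot_eq_zero' (by
      rw [pb_dot, U.symm2, ← pb_dot]; exact (I.par_pf ht').dot_eq_zero' h)⟩
  have h4 : f ⬝ᵥ b = 0 := by
    rcases mul_eq_zero.1 h2 with h | h
    exacts [h, h3.2 h]
  have h5 := h3.1 h4
  apply U.inj
  rw [map_one]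
  refine ext_mulVec fun v => ?_
  simp only [pow_two, map_mul, ← mulVec_mulVec, ht.2.2.2, ht'.2.2.2, tv_mulVec, dotProduct_add,
    dotProduct_smul, ht.2.2.1, ht'.2.2.1, h4, h5, smul_zero, add_zero, one_mulVec]
  funext i
  simp only [Pi.add_apply, Pi.smul_apply, smul_eq_mul]
  linear_combination (f' ⬝ᵥ v * b i + f ⬝ᵥ v * a i) * two_eq (F := F)

theorem not_p4_aux {t g : H} {p a : ι → F} {c : F} (hp : bf A p a = 0) (i2 : Ind2 F a p)
    (h : Shape ρ A ((t * (g * t * g⁻¹)) ^ 2) a p c) : ¬ P4 t := by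
  intro h4
  have h1 : (t * (g * t * g⁻¹)) ^ 4 = 1 := by
    apply U.inj
    rw [show 4 = 2 + 2 from rfl, pow_add, map_mul, map_one]
    refine ext_mulVec fun v => ?_
    rw [← mulVec_mulVec, h, h, one_mulVec]
    simp only [sf_add_left, sf_smul_left, hp, U.symm2 a p, U.alt a, U.alt p]
    funext i
    simp only [Pi.add_apply, Pi.smul_apply, smul_eq_mul]
    linear_combination (bf A v a * p i + bf A v p * a i + c * bf A v a * a i) * two_eq (F := F)
  obtain ⟨v₀, hv₀⟩ := exists_bf_one U.det i2.ne_left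
  have := h v₀
  rw [h4 g h1, map_one, one_mulVec, hv₀] at this
  exact one_ne_zero (i2 (bf A v₀ p + c) 1 (by linear_combination (norm := module) -this)).2

omit U in
theorem ind2_of_bf {a z w : ι → F} (ha : a ≠ 0) (h1 : bf A w a = 0) (h2 : bf A w z = 1) :
    Ind2 F a z := fun s t e => by
  have := congrArg (bf A w) e
  rw [sf_add_right, bf_smul_right, bf_smul_right, h1, h2, sf_zero_right] at this
  have ht : t = 0 := by simpa using this
  rw [ht, zero_smul, add_zero] at e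
  exact ⟨(smul_eq_zero.1 e).resolve_right ha, ht⟩

theorem not_p4_c2_aux {t : H} {a w : ι → F} (hw : bf A w a = 0) (i2 : Ind2 F a w)
    (h : Shape ρ A t a w 1) : ¬ P4 t := by
  obtain ⟨z, hwz, haz⟩ := exists_bf_of_ind2 U.det i2.symm
  obtain ⟨u', hau', hwu'⟩ := exists_bf_of_ind2 U.det i2
  have hau : bf A a (u' + z) = 1 := by rw [sf_add_right, hau', haz, add_zero]
  have hwu : bf A w (u' + z) = 1 := by rw [sf_add_right, hwu', hwz, zero_add]
  set u := u' + z
  clear_value u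
  obtain ⟨g₁, h₁⟩ := U.exists_tv' (a + u)
  obtain ⟨g₂, h₂⟩ := U.exists_tv' (w + u)
  obtain ⟨g₃, h₃⟩ := U.exists_tv' (a + w + z)
  have e : ∀ x : ι → F, x + x = 0 := fun x => by rw [← two_smul F x, two_eq, zero_smul]
  have a1 : ρ g₁ *ᵥ a = u := by
    rw [h₁, sf_add_right, U.alt a, hau, zero_add, one_smul, ← add_assoc, e, zero_add]
  have a2 : ρ g₂ *ᵥ u = w := by
    rw [h₂, sf_add_right, U.alt u, U.symm2, hwu, add_zero, one_smul, add_comm w, ← add_assoc, e,
      zero_add]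
  have a3 : ρ g₃ *ᵥ w = a + z := by
    rw [h₃, sf_add_right, sf_add_right, U.alt w, hw, hwz, zero_add, zero_add, one_smul]
    linear_combination (norm := module) e w
  have w1 : ρ g₁ *ᵥ w = w + (a + u) := by
    rw [h₁, sf_add_right, hw, hwu, zero_add, one_smul]
  have w2 : ρ g₂ *ᵥ (w + (a + u)) = a := by
    rw [h₂]
    simp only [sf_add_left, sf_add_right, U.alt w, U.alt u, hwu, hau, U.symm2 a w, hw,
      U.symm2 u w, zero_add, add_zero, CharTwo.add_self_eq_zero, one_smul]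
    linear_combination (norm := module) e w + e u
  have w3 : ρ g₃ *ᵥ a = a := by
    rw [h₃, sf_add_right, sf_add_right, U.alt a, U.symm2 a w, hw, haz]; simp
  have h' := U.shape_conj h (g₃ * g₂ * g₁)
  rw [map_mul, map_mul, ← mulVec_mulVec, ← mulVec_mulVec, ← mulVec_mulVec, ← mulVec_mulVec,
    a1, a2, a3, w1, w2, w3] at h'
  refine U.not_p4_aux (g := g₃ * g₂ * g₁) (c := 1) (U.comm haz) (ind2_of_bf i2.ne_left hw hwz)
    fun v => ?_
  set t' := g₃ * g₂ * g₁ * t * (g₃ * g₂ * g₁)⁻¹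
  clear_value t'
  rw [pow_two, map_mul, map_mul, ← mulVec_mulVec, ← mulVec_mulVec, ← mulVec_mulVec, h, h', h, h']
  simp only [sf_add_left, sf_add_right, sf_smul_left, U.alt a, U.alt w, U.alt z, hw, hwz, haz,
    U.symm2 a w, U.symm2 z w, U.symm2 z a]
  funext i
  simp only [Pi.add_apply, Pi.smul_apply, smul_eq_mul]
  grind

theorem not_p4_c2 [Finite F] {t : H} {a w : ι → F} {c : F} (hc : c ≠ 0) (hw : bf A w a = 0)
    (i2 : Ind2 F a w) (h : Shape ρ A t a w c) : ¬ P4 t := by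
  obtain ⟨s, rfl⟩ := FiniteField.isSquare_of_char_two (ringChar.eq F 2) c
  have hs : s ≠ 0 := left_ne_zero_of_mul hc
  refine U.not_p4_c2_aux (a := s • a) (w := s⁻¹ • w) (by rw [sf_smul_left, bf_smul_right, hw]; ring)
    (fun x y e => ?_) fun v => ?_
  · rw [smul_smul, smul_smul] at e
    have := i2 _ _ e
    exact ⟨(mul_eq_zero.1 this.1).resolve_right hs,
      (mul_eq_zero.1 this.2).resolve_right (inv_ne_zero hs)⟩
  · rw [h, bf_smul_right, bf_smul_right, smul_smul, smul_smul, smul_smul]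
    congr 2
    · congr 2; field_simp
    · congr 1; field_simp
    · ring

theorem not_p4_a2 (h5 : 5 ≤ Fintype.card ι) {t : H} {a w : ι → F} (hw : bf A w a = 0)
    (i2 : Ind2 F a w) (h : Shape ρ A t a w 0) : ¬ P4 t := by
  obtain ⟨z, hwz, haz⟩ := exists_bf_of_ind2 U.det i2.symm
  obtain ⟨f₁, hf₁⟩ := exists_bf_one U.det i2.ne_left
  obtain ⟨p, hp0, hp⟩ := exists_perp_family (κ := Fin 4) (by simp; omega)
    ![pb A a, pb A w, pb A z, pb A f₁]
  have hpa : bf A p a = 0 := by rw [← pb_dot]; exact hp 0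
  have hpw : bf A p w = 0 := by rw [← pb_dot]; exact hp 1
  have hpz : bf A p z = 0 := by rw [← pb_dot]; exact hp 2
  have hpf : bf A p f₁ = 0 := by rw [← pb_dot]; exact hp 3
  obtain ⟨y, hay, hapy, hwy⟩ := exists_bf_of_not_inSp U.det (e := a) (x := a + p) (y := w) (by
    rintro ⟨s, r, e⟩
    have h1 := congrArg (fun x => bf A x z) e
    have h2 := congrArg (fun x => bf A x f₁) e
    simp only [sf_add_left, sf_smul_left, haz, hpz, hwz, U.symm2 a f₁, hf₁, hpf] at h1 h2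
    have hr : r = 0 := by linear_combination -h1
    have hs : s = 1 := by rw [hr] at h2; linear_combination -h2
    rw [hr, hs] at e
    exact hp0 (by linear_combination (norm := module) -e))
  obtain ⟨g₁, -, h₁⟩ := U.exists_rho hapy
  obtain ⟨g₂, h₂⟩ := U.exists_tv' (z + w)
  have e : ∀ x : ι → F, x + x = 0 := fun x => by rw [← two_smul F x, two_eq, zero_smul]
  have a1 : ρ g₁ *ᵥ a = p := by
    rw [h₁, sf_add_right, U.alt a, hay, U.symm2 a p, hpa]
    linear_combination (norm := module) e a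
  have a2 : ρ g₂ *ᵥ p = p := by rw [h₂, sf_add_right, hpz, hpw]; simp
  have w1 : ρ g₁ *ᵥ w = w := by rw [h₁, sf_add_right, hw, hwy, U.symm2 w p, hpw]; simp
  have w2 : ρ g₂ *ᵥ w = z := by
    rw [h₂, sf_add_right, hwz, U.alt w]
    linear_combination (norm := module) e w
  have h' := U.shape_conj h (g₂ * g₁)
  rw [map_mul, ← mulVec_mulVec, ← mulVec_mulVec, a1, a2, w1, w2] at h'
  refine U.not_p4_aux (g := g₂ * g₁) (c := 0) hpa (fun s r e => ?_) fun v => ?_
  · have h2 := congrArg (fun x => bf A x f₁) e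
    simp only [sf_add_left, sf_smul_left, U.symm2 a f₁, hf₁, hpf, sf_zero_left] at h2
    have hs : s = 0 := by linear_combination h2
    rw [hs, zero_smul, zero_add] at e
    exact ⟨hs, (smul_eq_zero.1 e).resolve_right hp0⟩
  set t' := g₂ * g₁ * t * (g₂ * g₁)⁻¹
  clear_value t'
  rw [pow_two, map_mul, map_mul, ← mulVec_mulVec, ← mulVec_mulVec, ← mulVec_mulVec, h, h', h, h']
  simp only [sf_add_left, sf_add_right, sf_smul_left, U.alt a, U.alt w, U.alt z, U.alt p, hw, hwz,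
    haz, hpa, hpw, hpz, U.symm2 a w, U.symm2 z w, U.symm2 z a, U.symm2 a p, U.symm2 w p,
    U.symm2 z p]
  funext i
  simp only [Pi.add_apply, Pi.smul_apply, smul_eq_mul]
  grind

theorem tvOr1_or_a2 [Finite F] (h2 : 2 ≤ Fintype.card ι) {t : H} (ht : PCentral 2 t) (h4 : P4 t) :
    TvOr1 ρ t ∨ ∃ a w, bf A w a = 0 ∧ Ind2 F a w ∧ Shape ρ A t a w 0 := by
  obtain ⟨a, w, c, ha, hw, -, h⟩ := U.shape_of_pCentral h2 ht
  have hs : Shape ρ A t a w c := fun v => by
    rw [h, sub_eq_add_neg, ← neg_smul, CharTwo.neg_eq]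
  by_cases hp : ∃ d : F, w = d • a
  · obtain ⟨d, rfl⟩ := hp
    refine Or.inl (U.tvOr1_of_shape (a := a) (k := c) fun v => ?_)
    rw [h, bf_smul_right]; module
  have i2 : Ind2 F a w := ind2_iff.2 ⟨ha, mt inSp_self_iff.1 hp⟩
  by_cases hc : c = 0
  · exact Or.inr ⟨a, w, hw, i2, hc ▸ hs⟩
  · exact absurd h4 (U.not_p4_c2 hc hw i2 hs)

local notation "mk" => (QuotientGroup.mk : H → H ⧸ Subgroup.center H)

/-- the lift of an automorphism of the central quotient in characteristic two -/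
theorem exists_lift (α : MulAut (H ⧸ Subgroup.center H)) :
    ∃ β : MulAut H, ∀ x, α (mk x) = mk (β x) := by
  let e := MulEquiv.ofBijective _ U.mk_bijective
  exact ⟨(e.trans α).trans e.symm, fun x => (e.apply_symm_apply _).symm⟩

theorem tvOr1_or_a2_aut [Finite F] (h3 : 3 ≤ Fintype.card ι) (β : MulAut H) {t : H}
    (ht : TvOr1 ρ t) :
    TvOr1 ρ (β t) ∨ ∃ a w, bf A w a = 0 ∧ Ind2 F a w ∧ Shape ρ A (β t) a w 0 := by
  have : Finite H := Finite.of_injective ρ U.inj
  exact U.tvOr1_or_a2 (by omega) ((pCentral_aut_iff β t).2 (U.pCentral_of_tvOr1 h3 ht))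
    ((U.p4_of_tvOr1 ht).map β)

theorem tvPres_two [Finite F] (h5 : 5 ≤ Fintype.card ι) (α : MulAut (H ⧸ Subgroup.center H)) :
    TvPres ρ α := by
  intro t ht
  obtain ⟨β, hβ⟩ := U.exists_lift α
  refine ⟨β t, (U.tvOr1_or_a2_aut (by omega) β ht).resolve_right ?_, hβ t⟩
  rintro ⟨a, w, h1, h2, h3⟩
  exact U.not_p4_a2 h5 h1 h2 h3 ((U.p4_of_tvOr1 ht).map β)

end two

theorem tvPres [Finite F] (h3 : 3 ≤ Fintype.card ι) (h : (2 : F) ≠ 0 ∨ 5 ≤ Fintype.card ι)
    (α : MulAut (H ⧸ Subgroup.center H)) : TvPres ρ α := by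
  by_cases h2 : (2 : F) = 0
  · have : CharP F 2 := (CharP.charP_iff_prime_eq_zero Nat.prime_two).2 h2
    exact U.tvPres_two (h.resolve_left (not_not.2 h2)) α
  obtain ⟨p, hp⟩ := CharP.exists F
  have : Fact p.Prime := ⟨CharP.char_is_prime F p⟩
  have : Nonempty ι := Fintype.card_pos_iff.1 (by omega)
  exact U.setup.tvPres_of_pCentral (p := p) (U.pCentral_iff h3 h2) α

theorem exists_cr {α : MulAut (H ⧸ Subgroup.center H)} (hα : TvPres ρ α) {a : ι → F}
    (ha : a ≠ 0) : ∃ b, CR ρ α a b := by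
  obtain ⟨t, f, ht⟩ := U.exists_isTv ha
  exact U.setup.exists_cr hα ht

theorem exists_simil [Finite F] (h3 : 3 ≤ Fintype.card ι) (hAσ : ∀ σ : F ≃+* F, A.map σ = A)
    {α : MulAut (H ⧸ Subgroup.center H)} (hα : TvPres ρ α) (hα' : TvPres ρ α⁻¹) :
    ∃ (g : GL ι F) (σ : F ≃+* F) (c : F),
      (g : Matrix ι ι F)ᵀ * A * (g : Matrix ι ι F) = c • A ∧
      ∀ a b, CR ρ α a b → Par b ((g : Matrix ι ι F) *ᵥ (σ ∘ a)) :=
  exists_simil_of_total (τ := RingEquiv.refl F) U.det h3 hAσ _ (fun _ => U.exists_cr hα)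
    (fun _ hb => (U.exists_cr hα' hb).imp fun _ h => h.symm)
    (fun _ _ h => ⟨h.ne_left, h.ne_right⟩) fun _ _ _ _ hu hv =>
    ⟨U.toIsom.cr_perp (U.toIsom.centerPres U.setup h3 hα) hv hu,
      U.toIsom.cr_perp (U.toIsom.centerPres U.setup h3 hα') hv.symm hu.symm⟩

end Splike

end Cfsg.Agent.H6
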