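import Mathlib
import Cfsg.Prelude.Def_Solvable
import Cfsg.Prelude.Def_KGroupFacts

/-!
Abstract part of the local balance criteria.
-/

set_option autoImplicit false

namespace Cfsg.Agent.H6

variable {A : Type*} [Group A]

theorem pow_mem_of_mem_sup {G : Type*} [Group G] {T D : Subgroup G} [T.Normal] {e : ℕ}
    (hD : ∀ d ∈ D, d ^ e = 1) {y : G} (hy : y ∈ T ⊔ D) : y ^ e ∈ T := by
  have : y ∈ ((T ⊔ D : Subgroup G) : Set G) := hy
  rw [Subgroup.normal_mul] at this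
  obtain ⟨t, ht, d, hd, rfl⟩ := this
  rw [← QuotientGroup.eq_one_iff, QuotientGroup.mk_pow, QuotientGroup.mk_mul,
    (QuotientGroup.eq_one_iff t).2 ht, one_mul, ← QuotientGroup.mk_pow, hD d hd,
    QuotientGroup.mk_one]

theorem eq_one_of_pow_of_coprime {x : A} {a b : ℕ} (h : a.Coprime b) (ha : x ^ a = 1)
    (hb : x ^ b = 1) : x = 1 := by
  have := pow_gcd_eq_one.2 ⟨ha, hb⟩
  rwa [h, pow_one] at this

theorem mem_of_odd_order (T : Subgroup A) (x : A) (h : ∀ α, α ∈ T ∨ x * α ∈ T) {α : A}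
    (ho : Odd (orderOf α)) : α ∈ T := by
  have h2 : α * α ∈ T := by
    rcases h α with h1 | h1
    · exact T.mul_mem h1 h1
    rcases h α⁻¹ with h2 | h2
    · exact T.mul_mem (inv_inv α ▸ T.inv_mem h2) (inv_inv α ▸ T.inv_mem h2)
    · have := T.mul_mem (T.inv_mem h2) h1
      simpa [mul_assoc] using this
  obtain ⟨k, hk⟩ := ho
  have : α = (α * α) ^ (k + 1) := by
    rw [← pow_two, ← pow_mul, show 2 * (k + 1) = orderOf α + 1 by omega, pow_succ,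
      pow_orderOf_eq_one, one_mul]
  rw [this]
  exact T.pow_mem h2 _

/-- a nontrivial `p'`-group centralizing `β` and normalized by `C_I(β)` -/
def Unbal (p : ℕ) (I : Subgroup A) (β : A) : Prop :=
  ∃ N : Subgroup A, N ≠ ⊥ ∧ (Nat.card N).Coprime p ∧ N ≤ Subgroup.centralizer {β} ∧
    ∀ c ∈ I ⊓ Subgroup.centralizer {β}, ∀ n ∈ N, c * n * c⁻¹ ∈ N

theorem unbal_of_core {p : ℕ} {I G : Subgroup A} (hI : I ≤ G) {β : A}
    (h : pPrimeCore p ↥(G ⊓ Subgroup.centralizer {β}) ≠ ⊥) : Unbal p I β := by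
  obtain ⟨N, ⟨hn, hc⟩, h0⟩ : ∃ N : Subgroup ↥(G ⊓ Subgroup.centralizer {β}),
      (N.Normal ∧ (Nat.card N).Coprime p) ∧ N ≠ ⊥ := by
    by_contra hh
    push Not at hh
    exact h (sSup_eq_bot.2 fun N hN => hh N hN)
  refine ⟨N.map (Subgroup.subtype _), ?_, ?_, ?_, ?_⟩
  · rwa [Ne, Subgroup.map_eq_bot_iff_of_injective _ (Subgroup.subtype_injective _)]
  · rwa [Subgroup.card_map_of_injective (Subgroup.subtype_injective _)]
  · exact (Subgroup.map_subtype_le N).trans inf_le_right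
  · rintro c hc _ ⟨n, hn', rfl⟩
    exact ⟨_, hn.conj_mem n hn' ⟨c, hI hc.1, hc.2⟩, rfl⟩

theorem core_of_coprime {p : ℕ} {I G : Subgroup A} [I.Normal] (hI : I ≤ G) {β : A}
    (h0 : I ⊓ Subgroup.centralizer {β} ≠ ⊥)
    (h : (Nat.card ↥(I ⊓ Subgroup.centralizer {β})).Coprime p) :
    pPrimeCore p ↥(G ⊓ Subgroup.centralizer {β}) ≠ ⊥ := by
  intro hb
  have hle : I ⊓ Subgroup.centralizer {β} ≤ G ⊓ Subgroup.centralizer {β} := inf_le_inf_right _ hI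
  have e : (I ⊓ Subgroup.centralizer {β}).subgroupOf (G ⊓ Subgroup.centralizer {β}) =
      I.subgroupOf (G ⊓ Subgroup.centralizer {β}) := by
    ext x
    simp only [Subgroup.mem_subgroupOf, Subgroup.mem_inf]
    exact and_iff_left x.2.2
  have h1 : (I ⊓ Subgroup.centralizer {β}).subgroupOf (G ⊓ Subgroup.centralizer {β}) ≤
      pPrimeCore p _ := le_sSup ⟨e ▸ inferInstance, by
        rwa [Nat.card_congr (Subgroup.subgroupOfEquivOfLe hle).toEquiv]⟩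
  rw [hb, le_bot_iff, Subgroup.subgroupOf_eq_bot, disjoint_iff, inf_eq_left.2 hle] at h1
  exact h0 h1

theorem mem_cent_conj (α β c : A) :
    c ∈ Subgroup.centralizer {α * β * α⁻¹} ↔ α⁻¹ * c * α ∈ Subgroup.centralizer {β} := by
  simp only [Subgroup.mem_centralizer_singleton_iff]
  constructor
  · intro h
    calc α⁻¹ * c * α * β = α⁻¹ * (c * (α * β * α⁻¹)) * α := by group
      _ = _ := by rw [h]; group
  · intro h
    calc c * (α * β * α⁻¹) = α * (α⁻¹ * c * α * β) * α⁻¹ := by group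
      _ = _ := by rw [h]; group

theorem Unbal.conj {p : ℕ} {I : Subgroup A} [hI : I.Normal] {β : A} (h : Unbal p I β) (α : A) :
    Unbal p I (α * β * α⁻¹) := by
  obtain ⟨N, h0, h1, h2, h3⟩ := h
  refine ⟨N.map (MulAut.conj α).toMonoidHom, ?_, ?_, ?_, ?_⟩
  · rwa [Ne, Subgroup.map_eq_bot_iff_of_injective _ (MulAut.conj α).injective]
  · rwa [Subgroup.card_map_of_injective (MulAut.conj α).injective]
  · rintro _ ⟨n, hn, rfl⟩
    rw [mem_cent_conj]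
    simpa [mul_assoc] using h2 hn
  · rintro c hc _ ⟨n, hn, rfl⟩
    refine ⟨_, h3 (α⁻¹ * c * α) ⟨hI.conj_mem' c hc.1 α, (mem_cent_conj _ _ _).1 hc.2⟩ n hn, ?_⟩
    simp [mul_assoc]

theorem inf_cent_conj (I : Subgroup A) [hI : I.Normal] (α β : A) :
    I ⊓ Subgroup.centralizer {α * β * α⁻¹} =
      (I ⊓ Subgroup.centralizer {β}).map (MulAut.conj α).toMonoidHom := by
  ext c
  constructor
  · intro hc
    exact ⟨α⁻¹ * c * α, ⟨hI.conj_mem' c hc.1 α, (mem_cent_conj _ _ _).1 hc.2⟩, by simp [mul_assoc]⟩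
  · rintro ⟨c, hc, rfl⟩
    refine ⟨hI.conj_mem c hc.1 α, (mem_cent_conj _ _ _).2 ?_⟩
    simpa [mul_assoc] using hc.2

theorem card_inf_cent_conj (I : Subgroup A) [I.Normal] (α β : A) :
    Nat.card ↥(I ⊓ Subgroup.centralizer {α * β * α⁻¹}) =
      Nat.card ↥(I ⊓ Subgroup.centralizer {β}) := by
  rw [inf_cent_conj, Subgroup.card_map_of_injective (MulAut.conj α).injective]

theorem inf_cent_conj_ne_bot (I : Subgroup A) [I.Normal] (α : A) {β : A}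
    (h : I ⊓ Subgroup.centralizer {α * β * α⁻¹} ≠ ⊥) : I ⊓ Subgroup.centralizer {β} ≠ ⊥ := by
  intro h'
  rw [inf_cent_conj, h', Subgroup.map_bot] at h
  exact h rfl

theorem card_inn_cent {K : Type*} [Group K] (hK : Function.Injective (MulAut.conj : K →* MulAut K))
    (β : MulAut K) : Nat.card ↥(Inn K ⊓ Subgroup.centralizer {β}) =
      Nat.card ↥(MonoidHom.eqLocus β.toMonoidHom (MonoidHom.id K)) := by
  rw [← Subgroup.card_map_of_injective hK]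
  congr 2
  have e : ∀ k : K, β * MulAut.conj k * β⁻¹ = MulAut.conj (β k) := fun k => by
    ext x; simp
  ext c
  constructor
  · rintro ⟨⟨k, rfl⟩, hc⟩
    refine ⟨k, hK ?_, rfl⟩
    replace hc := Subgroup.mem_centralizer_singleton_iff.1 hc
    change MulAut.conj (β k) = MulAut.conj k
    rw [← e, ← hc, mul_inv_cancel_right]
  · rintro ⟨k, hk, rfl⟩
    refine ⟨⟨k, rfl⟩, Subgroup.mem_centralizer_singleton_iff.2 ?_⟩
    have hk' : β k = k := hk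
    conv_lhs => rw [← hk', ← e]
    group

variable {p : ℕ} {I : Subgroup A} {β : A} {H₀ : Type*} [Group H₀]

theorem Unbal.exists_normal [Finite A] [hI : I.Normal] (h : Unbal p I β) (Ψ : H₀ →* A)
    (hΨ : ∀ s, Ψ s ∈ I ⊓ Subgroup.centralizer {β})
    (hnorm : ∀ c ∈ I ⊓ Subgroup.centralizer {β}, ∀ s, ∃ s', c * Ψ s * c⁻¹ = Ψ s')
    (cent : ∀ n : A, (orderOf n).Coprime p → (∀ s, n * Ψ s = Ψ s * n) → n = 1) :
    ∃ M : Subgroup H₀, M.Normal ∧ (∃ m ∈ M, Ψ m ≠ 1) ∧ ∀ m ∈ M, (orderOf (Ψ m)).Coprime p := by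
  obtain ⟨N, h0, h1, h2, h3⟩ := h
  have hc : ∀ n ∈ N, (orderOf n).Coprime p := fun n hn =>
    Nat.Coprime.coprime_dvd_left (N.orderOf_dvd_natCard hn) h1
  refine ⟨N.comap Ψ, ⟨fun m hm s => ?_⟩, ?_, fun m hm => hc _ hm⟩
  · rw [Subgroup.mem_comap, map_mul, map_mul, map_inv]
    exact h3 _ (hΨ s) _ hm
  by_contra hh
  push Not at hh
  have key : ∀ m ∈ N, m ∈ I → m = 1 := fun m hm hmI => cent m (hc m hm) fun s => by
    obtain ⟨s', hs'⟩ := hnorm m ⟨hmI, h2 hm⟩ s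
    have : Ψ (s' * s⁻¹) = 1 := hh _ (by
      rw [Subgroup.mem_comap, map_mul, map_inv, ← hs',
        show m * Ψ s * m⁻¹ * (Ψ s)⁻¹ = m * (Ψ s * m⁻¹ * (Ψ s)⁻¹) by group]
      exact N.mul_mem hm (h3 _ (hΨ s) _ (N.inv_mem hm)))
    rw [map_mul, map_inv, ← hs', mul_inv_eq_one, mul_inv_eq_iff_eq_mul] at this
    exact this
  refine h0 ((Subgroup.eq_bot_iff_forall _).2 fun n hn => cent n (hc n hn) fun s => ?_)
  have := key (n * Ψ s * n⁻¹ * (Ψ s)⁻¹) (by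
    rw [show n * Ψ s * n⁻¹ * (Ψ s)⁻¹ = n * (Ψ s * n⁻¹ * (Ψ s)⁻¹) by group]
    exact N.mul_mem hn (h3 _ (hΨ s) _ (N.inv_mem hn)))
    (I.mul_mem (hI.conj_mem _ (hΨ s).1 n) (I.inv_mem (hΨ s).1))
  rw [mul_inv_eq_one, mul_inv_eq_iff_eq_mul] at this
  exact this

theorem eq_one_of_pow_mem {Ψ : H₀ →* A} {M : Subgroup H₀}
    (hM : ∀ m ∈ M, (orderOf (Ψ m)).Coprime p) {s : H₀} {k l : ℕ} (hk : k.Coprime p)
    (h1 : s ^ k ∈ M) (h2 : Ψ s ^ p ^ l = 1) : Ψ s = 1 := by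
  refine eq_one_of_pow_of_coprime (hk.pow_right l) ?_ h2
  refine eq_one_of_pow_of_coprime ((hM _ h1).pow_right l) (by rw [← map_pow, pow_orderOf_eq_one]) ?_
  rw [← pow_mul, mul_comm, pow_mul, h2, one_pow]

theorem Unbal.coprime [Finite A] [hI : I.Normal] [Fact p.Prime] (h : Unbal p I β)
    {N₀ : Type*} [Group N₀] (Ψ : N₀ →* A) (j : H₀ →* N₀) [hj : j.range.Normal]
    (hΨ : ∀ s, Ψ (j s) ∈ I ⊓ Subgroup.centralizer {β})
    (hsurj : ∀ c ∈ I ⊓ Subgroup.centralizer {β}, ∃ y, c = Ψ y)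
    (cent : ∀ n : A, (orderOf n).Coprime p → (∀ s, n * Ψ (j s) = Ψ (j s) * n) → n = 1)
    (U : Subgroup H₀) {k e : ℕ} (hk : k.Coprime p)
    (iwa : ∀ M : Subgroup H₀, M.Normal → (∃ m ∈ M, Ψ (j m) ≠ 1) → ∀ s ∈ U, s ^ k ∈ M)
    (pow : ∀ y, ∃ s ∈ U, j s = y ^ e)
    (elt : p ∣ e → ∃ s ∈ U, Ψ (j s) ≠ 1 ∧ s ^ p ^ 2 = 1) :
    (Nat.card ↥(I ⊓ Subgroup.centralizer {β})).Coprime p := by
  obtain ⟨M, hM, h1, h2⟩ := h.exists_normal (Ψ.comp j) hΨ (fun c hc s => by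
    obtain ⟨y, rfl⟩ := hsurj c hc
    obtain ⟨s', hs'⟩ := hj.conj_mem _ ⟨s, rfl⟩ y
    exact ⟨s', by simp [hs']⟩) cent
  have hp : p.Prime := Fact.out
  rw [Nat.coprime_comm, hp.coprime_iff_not_dvd]
  intro hd
  obtain ⟨⟨c, hc⟩, ho⟩ := exists_prime_orderOf_dvd_card' p hd
  rw [Subgroup.orderOf_mk] at ho
  obtain ⟨y, rfl⟩ := hsurj c hc
  obtain ⟨s, hs, hy⟩ := pow y
  have h3 : (Ψ.comp j) s = 1 := eq_one_of_pow_mem (l := 1) h2 hk (iwa M hM h1 s hs) (by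
    rw [MonoidHom.comp_apply, hy, map_pow, pow_one, ← pow_mul, mul_comm, pow_mul, ← ho,
      pow_orderOf_eq_one, one_pow])
  rw [MonoidHom.comp_apply, hy, map_pow] at h3
  obtain ⟨t, ht, h4, h5⟩ := elt (ho ▸ orderOf_dvd_of_pow_eq_one h3)
  exact h4 (eq_one_of_pow_mem (Ψ := Ψ.comp j) (l := 2) h2 hk (iwa M hM h1 t ht)
    (by rw [← map_pow, h5, map_one]))

end Cfsg.Agent.H6
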