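import Mathlib
import Cfsg.Agent.H6.AutSp
import Cfsg.Agent.H6.FieldPSL

/-!
The automorphism group of `PSp_2m(q)`.
-/

set_option autoImplicit false

namespace Cfsg.Agent.H6

open Matrix FTPG

variable {F : Type*} [Field F] {m : ℕ}

local notation "ι" => Fin m ⊕ Fin m
local notation "JJ" => Matrix.J (Fin m) F

variable (m F) in
/-- the embedding of `Sp` in `GL` -/
abbrev spJ : Matrix.symplecticGroup (Fin m) F →* GL ι F :=
  (Matrix.symplecticGroup (Fin m) F).subtype.toHomUnits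

theorem spJ_inj : Function.Injective (spJ F m) := fun _ _ h => Subtype.ext (congrArg Units.val h)

theorem mem_spJ_range (g : GL ι F) :
    g ∈ (spJ F m).range ↔ (g : Matrix ι ι F)ᵀ * JJ * (g : Matrix ι ι F) = JJ := by
  rw [← SymplecticGroup.mem_iff']
  constructor
  · rintro ⟨s, rfl⟩; exact s.2
  · intro h; exact ⟨⟨g, h⟩, Units.ext rfl⟩

theorem bf_mulVec {κ κ' : Type*} [Fintype κ] [Fintype κ'] (A : Matrix κ κ F) (P : Matrix κ κ' F)
    (u v : κ' → F) : bf A (P *ᵥ u) (P *ᵥ v) = bf (Pᵀ * A * P) u v := sf_mulVec _ A P u v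

theorem mem_GSp_iff (g : GL ι F) :
    g ∈ GSp m F ↔ ∃ c : Fˣ, (g : Matrix ι ι F)ᵀ * JJ * (g : Matrix ι ι F) = (c : F) • JJ := by
  refine exists_congr fun c => ?_
  change (∀ u v, bf JJ ((g : Matrix ι ι F) *ᵥ u) ((g : Matrix ι ι F) *ᵥ v) = c * bf JJ u v) ↔ _
  simp only [bf_mulVec, ← sf_smul_mat]
  exact ⟨fun h => sf_ext h, fun h u v => by rw [h]⟩

theorem spJ_mem_GSp (s : Matrix.symplecticGroup (Fin m) F) : spJ F m s ∈ GSp m F :=
  (mem_GSp_iff _).2 ⟨1, by rw [Units.val_one, one_smul]; exact (mem_spJ_range _).1 ⟨s, rfl⟩⟩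

theorem map_gramJ {F' : Type*} [Field F'] (e : F →+* F') (y : Matrix ι ι F) :
    (yᵀ * JJ * y).map e = (y.map e)ᵀ * Matrix.J (Fin m) F' * y.map e := by
  rw [Matrix.map_mul, Matrix.map_mul, transpose_map, map_J]

theorem map_smul_J {F' : Type*} [Field F'] (e : F →+* F') (c : F) :
    (c • JJ).map e = e c • Matrix.J (Fin m) F' := by
  rw [Matrix.map_smul' _ _ _ (map_mul e), map_J]

theorem map_mem_GSp {F' : Type*} [Field F'] (e : F →+* F') {g : GL ι F} (hg : g ∈ GSp m F) :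
    GeneralLinearGroup.map e g ∈ GSp m F' := by
  obtain ⟨c, hc⟩ := (mem_GSp_iff g).1 hg
  refine (mem_GSp_iff _).2 ⟨Units.map e c, ?_⟩
  have := congrArg (·.map e) hc
  simp only [map_gramJ, map_smul_J] at this
  exact this

theorem mem_GSp_iff_glField (σ : F ≃+* F) (g : GL ι F) :
    g ∈ GSp m F ↔ glField ι F σ g ∈ GSp m F :=
  ⟨map_mem_GSp (σ : F →+* F), fun h => by
    have : glField ι F σ⁻¹ (glField ι F σ g) ∈ GSp m F := map_mem_GSp ((σ⁻¹ : F ≃+* F) : F →+* F) h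
    rwa [map_inv, MulAut.inv_apply_self] at this⟩

theorem field_mem_stab_sp (σ : F ≃+* F) : glField ι F σ ∈ stabAut (spJ F m) := fun y => by
  rw [mem_spJ_range, mem_spJ_range, coe_glField, ← RingHom.coe_coe, ← map_gramJ]
  conv_rhs => rhs; rw [← map_J (Fin m) (σ : F →+* F)]
  exact (Matrix.map_injective σ.injective).eq_iff.symm

theorem J_ne_zero [NeZero m] : (JJ : Matrix ι ι F) ≠ 0 := fun h => by
  simpa [Matrix.J] using congrFun (congrFun h (Sum.inr 0)) (Sum.inl 0)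

theorem smul_J_inj [NeZero m] {c d : F} (h : c • JJ = d • JJ) : c = d :=
  smul_left_injective F (J_ne_zero (m := m) (F := F)) h

variable (m F) in
/-- the multiplier -/
noncomputable def gspMul [NeZero m] : GSp m F →* Fˣ :=
  MonoidHom.mk' (fun g => Classical.choose ((mem_GSp_iff g.1).1 g.2)) fun g h => by
    have h1 := Classical.choose_spec ((mem_GSp_iff g.1).1 g.2)
    have h2 := Classical.choose_spec ((mem_GSp_iff h.1).1 h.2)
    have h3 := Classical.choose_spec ((mem_GSp_iff (g * h).1).1 (g * h).2)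
    refine Units.ext (smul_J_inj (m := m) ?_)
    rw [← h3, Units.val_mul, mul_smul, ← h2, Subgroup.coe_mul, Units.val_mul, transpose_mul,
      ← smul_mul_assoc, ← mul_smul_comm, ← h1]
    simp only [Matrix.mul_assoc]

theorem gspMul_spec [NeZero m] (g : GSp m F) :
    ((g : GL ι F) : Matrix ι ι F)ᵀ * JJ * ((g : GL ι F) : Matrix ι ι F) = (gspMul F m g : F) • JJ :=
  Classical.choose_spec ((mem_GSp_iff g.1).1 g.2)

theorem gspMul_eq [NeZero m] {g : GSp m F} {c : F}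
    (h : ((g : GL ι F) : Matrix ι ι F)ᵀ * JJ * ((g : GL ι F) : Matrix ι ι F) = c • JJ) :
    (gspMul F m g : F) = c :=
  smul_J_inj ((gspMul_spec g).symm.trans h)

theorem gsp_normalizes (g : GL ι F) (hg : g ∈ GSp m F) (s : Matrix.symplecticGroup (Fin m) F) :
    g * spJ F m s * g⁻¹ ∈ (spJ F m).range := by
  obtain ⟨c, hc⟩ := (mem_GSp_iff g).1 hg
  have hs := (mem_spJ_range _).1 ⟨s, rfl⟩
  rw [mem_spJ_range, Units.val_mul, Units.val_mul, transpose_mul, transpose_mul]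
  calc _ = ((g⁻¹ : GL ι F) : Matrix ι ι F)ᵀ * ((spJ F m s : Matrix ι ι F)ᵀ *
        ((g : Matrix ι ι F)ᵀ * JJ * (g : Matrix ι ι F)) * (spJ F m s : Matrix ι ι F)) *
        ((g⁻¹ : GL ι F) : Matrix ι ι F) := by simp only [Matrix.mul_assoc]
    _ = ((g⁻¹ : GL ι F) : Matrix ι ι F)ᵀ * ((g : Matrix ι ι F)ᵀ * JJ * (g : Matrix ι ι F)) *
        ((g⁻¹ : GL ι F) : Matrix ι ι F) := by rw [hc, mul_smul_comm, smul_mul_assoc, hs]
    _ = ((g : Matrix ι ι F) * ((g⁻¹ : GL ι F) : Matrix ι ι F))ᵀ * JJ *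
        ((g : Matrix ι ι F) * ((g⁻¹ : GL ι F) : Matrix ι ι F)) := by
        simp only [Matrix.mul_assoc, transpose_mul]
    _ = JJ := by rw [Units.mul_inv, transpose_one, one_mul, mul_one]

variable (m F) in
/-- inner-diagonal automorphisms of `PSp` -/
noncomputable def spD : GSp m F →* MulAut (PSp m F) :=
  diagAut (spJ F m) spJ_inj (GSp m F) gsp_normalizes

variable (m F) in
/-- field automorphisms of `PSp` -/
noncomputable def spΦ : (F ≃+* F) →* MulAut (PSp m F) := gΦ (spJ F m) spJ_inj field_mem_stab_sp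

variable (m F) in
/-- field automorphisms of `GSp` -/
def gspField : (F ≃+* F) →* MulAut (GSp m F) := nField (GSp m F) mem_GSp_iff_glField

@[simp] theorem coe_gspField (σ : F ≃+* F) (g : GSp m F) :
    ((gspField F m σ g : GSp m F) : GL ι F) = glField ι F σ g := rfl

theorem spΦ_conj (σ : F ≃+* F) (g : GSp m F) :
    spΦ F m σ * spD F m g * (spΦ F m σ)⁻¹ = spD F m (gspField F m σ g) :=
  gΦ_conj _ _ _ _ _ σ g

theorem isInducedBySemilinearPSp_iff (g : GSp m F) (σ : F ≃+* F) (β : MulAut (PSp m F)) :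
    IsInducedBySemilinearPSp g σ β ↔ β = spD F m g * spΦ F m σ :=
  (eq_gDΦ_iff (spJ F m) spJ_inj field_mem_stab_sp gsp_normalizes g σ β).symm

theorem isInnerDiagonalAutPSp_iff (β : MulAut (PSp m F)) :
    IsInnerDiagonalAutPSp β ↔ ∃ g, β = spD F m g :=
  ⟨fun ⟨g, hg, h⟩ => ⟨⟨g, hg⟩, (eq_gD_iff _ _ _ _ β).2 h⟩,
    fun ⟨g, h⟩ => ⟨g, g.2, (eq_gD_iff _ _ _ _ β).1 h⟩⟩

theorem isStdFieldAutPSp_iff (σ : F ≃+* F) (β : MulAut (PSp m F)) :
    IsStdFieldAutPSp σ β ↔ β = spΦ F m σ :=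
  (eq_gΦ_iff (spJ F m) spJ_inj field_mem_stab_sp σ β).symm

theorem inndiagPSp_eq : inndiagPSp m F = (spD F m).range :=
  autSubgroupOf_eq_range _ _ isInnerDiagonalAutPSp_iff

theorem inn_psp_eq [NeZero m] : Inn (PSp m F) = (gspMul F m).ker.map (spD F m) :=
  inn_eq_map spJ_inj gsp_normalizes _ (fun g => by
    rw [mem_spJ_range, MonoidHom.mem_ker, gspMul_spec, Units.ext_iff]
    exact ⟨fun h => by rw [h, Units.val_one, one_smul],
      fun h => smul_J_inj (h.trans (one_smul _ _).symm)⟩) spJ_mem_GSp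

theorem spLike : Splike (jRho (spJ F m)) JJ where
  alt := isAlt_J
  det := det_J_ne_zero
  inj := Units.val_injective.comp spJ_inj
  isom g u v := by rw [bf_mulVec]; exact congrArg (fun M => bf M u v) ((mem_spJ_range _).1 ⟨g, rfl⟩)
  surj M h := ⟨⟨M, SymplecticGroup.mem_iff'.2 (sf_ext (σ := RingHom.id F) fun u v => by
    rw [← bf_mulVec, h])⟩, rfl⟩

theorem scalar_gram (u : Fˣ) : ((GeneralLinearGroup.scalar ι u : GL ι F) : Matrix ι ι F)ᵀ * JJ *
    ((GeneralLinearGroup.scalar ι u : GL ι F) : Matrix ι ι F) = ((u ^ 2 : Fˣ) : F) • JJ := by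
  rw [coe_gl_scalar, transpose_smul, transpose_one, smul_mul_assoc, mul_smul_comm, one_mul,
    smul_mul_assoc, mul_one, smul_smul, pow_two, Units.val_mul]

theorem scalar_mem_GSp (u : Fˣ) : GeneralLinearGroup.scalar ι u ∈ GSp m F :=
  (mem_GSp_iff _).2 ⟨_, scalar_gram u⟩

theorem gspMul_surj [NeZero m] : Function.Surjective (gspMul F m) := by
  intro u
  have h : (fromBlocks ((u : F) • 1) 0 0 1 : Matrix ι ι F)ᵀ * JJ * fromBlocks ((u : F) • 1) 0 0 1 =
      (u : F) • JJ := by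
    simp [Matrix.J, fromBlocks_transpose, fromBlocks_multiply, fromBlocks_smul]
  have hd : (fromBlocks ((u : F) • 1) 0 0 1 : Matrix ι ι F).det ≠ 0 := by
    rw [det_fromBlocks_zero₂₁]; simp
  exact ⟨⟨GeneralLinearGroup.mkOfDetNeZero _ hd, (mem_GSp_iff _).2 ⟨u, h⟩⟩, Units.ext (gspMul_eq h)⟩

theorem card_sum_fin : Fintype.card ι = 2 * m := by simp; omega

theorem par_of_spDΦ_eq_one {g : GSp m F} {σ : F ≃+* F} (h : spD F m g * spΦ F m σ = 1)
    {a : ι → F} (ha0 : a ≠ 0) : Par a (((g : GL ι F) : Matrix ι ι F) *ᵥ (σ ∘ a)) := by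
  obtain ⟨t, f, ht⟩ := spLike.exists_isTv ha0
  exact par_of_gDΦ_eq_one _ _ _ _ spLike.setup h ht

theorem spD_eq_one_iff (g : GSp m F) :
    spD F m g = 1 ↔ (g : GL ι F) ∈ Subgroup.center (GL ι F) := by
  refine ⟨fun h => (mem_center_gl_iff _).2 (scalar_of_fix_points fun a => ?_),
    gD_eq_one_of_scalar _ _ _⟩
  by_cases ha0 : a = 0
  · exact ⟨1, by simp [ha0]⟩
  obtain ⟨c, -, hc⟩ := par_of_spDΦ_eq_one (g := g) (σ := 1) (by rw [h, map_one, one_mul]) ha0
  exact ⟨c, hc⟩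

theorem eq_one_of_spΦ_mem [NeZero m] {σ : F ≃+* F} (h : spΦ F m σ ∈ (spD F m).range) : σ = 1 := by
  obtain ⟨g, hg⟩ := h
  have := NeZero.pos m
  exact eq_one_of_par_semilinear (by rw [card_sum_fin]; omega) fun a ha =>
    par_of_spDΦ_eq_one (g := g⁻¹) (by rw [map_inv, hg, inv_mul_cancel]) ha

theorem spΦ_injective [NeZero m] : Function.Injective (spΦ F m) :=
  (injective_iff_map_eq_one _).2 fun _ h => eq_one_of_spΦ_mem (h ▸ one_mem _)

theorem spD_ker_map [NeZero m] :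
    (spD F m).ker.map (gspMul F m) = (powMonoidHom 2 : Fˣ →* Fˣ).range := by
  ext u
  constructor
  · rintro ⟨g, hg, rfl⟩
    obtain ⟨v, hv⟩ := (mem_center_gl_iff' _).1 ((spD_eq_one_iff g).1 hg)
    exact ⟨v, Units.ext (gspMul_eq (by rw [hv, scalar_gram]; rfl)).symm⟩
  · rintro ⟨v, rfl⟩
    exact ⟨⟨_, scalar_mem_GSp v⟩, (spD_eq_one_iff _).2 (scalar_mem_center _),
      Units.ext (gspMul_eq (scalar_gram v))⟩

theorem spD_eq_of_scalar {g h : GSp m F} {u : Fˣ}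
    (e : (g : GL ι F) = GeneralLinearGroup.scalar ι u * h) : spD F m g = spD F m h := by
  rw [← mul_inv_eq_one, ← map_inv, ← map_mul, spD_eq_one_iff, Subgroup.coe_mul,
    Subgroup.coe_inv, e, mul_inv_cancel_right]
  exact scalar_mem_center u

theorem psp_aut_of_tvPres [Finite F] (hm : 2 ≤ m) {α : MulAut (PSp m F)}
    (hα : TvPres (jRho (spJ F m)) α) (hα' : TvPres (jRho (spJ F m)) α⁻¹) :
    ∃ g σ, α = spD F m g * spΦ F m σ := by
  have : NeZero m := ⟨by omega⟩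
  obtain ⟨g, σ, c, h1, h2⟩ := spLike.exists_simil (by rw [card_sum_fin]; omega)
    (fun σ => map_J _ σ) hα hα'
  have hc : c ≠ 0 := by
    rintro rfl
    have := congrArg det h1
    rw [det_mul, det_mul, det_transpose, zero_smul, det_zero] at this
    exact mul_ne_zero (mul_ne_zero g.det_ne_zero det_J_ne_zero) g.det_ne_zero this
  exact ⟨⟨g, (mem_GSp_iff g).2 ⟨Units.mk0 c hc, h1⟩⟩, σ, eq_gDΦ_of_total _ _ _ _ spLike.setup _
    (fun _ _ _ _ h e => h.equiv e) (fun _ hb => (spLike.exists_cr hα' hb).imp fun _ h => h.symm) h2⟩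

theorem psp_aut [Finite F] (hm : 2 ≤ m) (h : (2 : F) ≠ 0 ∨ 3 ≤ m) (α : MulAut (PSp m F)) :
    ∃ g σ, α = spD F m g * spΦ F m σ := by
  have h3 : 3 ≤ Fintype.card ι := by rw [card_sum_fin]; omega
  have h' : (2 : F) ≠ 0 ∨ 5 ≤ Fintype.card ι := h.imp_right fun h => by rw [card_sum_fin]; omega
  exact psp_aut_of_tvPres hm (spLike.tvPres h3 h' α) (spLike.tvPres h3 h' α⁻¹)

theorem spD_range_eq_inn [Finite F] [NeZero m] (h2 : (2 : F) = 0) :
    (spD F m).range = Inn (PSp m F) := by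
  have : CharP F 2 := (CharP.charP_iff_prime_eq_zero Nat.prime_two).2 h2
  rw [inn_psp_eq]
  refine le_antisymm ?_ (Subgroup.map_le_range _ _)
  rintro _ ⟨g, rfl⟩
  obtain ⟨s, hs⟩ := FiniteField.isSquare_of_char_two (ringChar.eq F 2) (gspMul F m g : F)
  have hs0 : s ≠ 0 := left_ne_zero_of_mul (hs ▸ (gspMul F m g).ne_zero)
  let z : GSp m F := ⟨_, scalar_mem_GSp (Units.mk0 s hs0)⁻¹⟩
  have hz : (gspMul F m z : F) = (((Units.mk0 s hs0)⁻¹ ^ 2 : Fˣ) : F) := gspMul_eq (scalar_gram _)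
  have h1 : gspMul F m (z * g) = 1 := by
    rw [map_mul, Units.ext_iff, Units.val_mul, hz, hs]
    simp only [Units.val_pow_eq_pow_val, Units.val_inv_eq_inv_val, Units.val_mk0, Units.val_one]
    field_simp
  exact ⟨z * g, h1, spD_eq_of_scalar (u := (Units.mk0 s hs0)⁻¹) (Subgroup.coe_mul _ _ _)⟩

theorem spD_range_normal [Finite F] (hm : 2 ≤ m) : (spD F m).range.Normal := by
  have : NeZero m := ⟨by omega⟩
  by_cases h2 : (2 : F) = 0
  · rw [spD_range_eq_inn h2]; infer_instance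
  · exact normal_range_of_gen _ _ (psp_aut hm (Or.inl h2)) fun σ g => ⟨_, (spΦ_conj σ g).symm⟩

section sub
variable {F₀ : Type*} [Field F₀] {e : F₀ →+* F} {σ : F ≃+* F}

variable (m e) in
/-- the subfield subgroup -/
def gspMap : GSp m F₀ →* GSp m F :=
  ((GeneralLinearGroup.map e).comp (GSp m F₀).subtype).codRestrict _ fun y => map_mem_GSp e y.2

theorem coe_gspMap (y : GSp m F₀) :
    ((gspMap m e y : GSp m F) : GL ι F) = GeneralLinearGroup.map e y := rfl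

theorem gspField_gspMap (he : ∀ x, σ x = x ↔ ∃ y, e y = x) (y : GSp m F₀) :
    gspField F m σ (gspMap m e y) = gspMap m e y := Subtype.ext (glField_map he _)

theorem mem_GSp_of_map [NeZero m] {k : GL ι F₀} (h : GeneralLinearGroup.map e k ∈ GSp m F) :
    k ∈ GSp m F₀ := by
  obtain ⟨c, hc⟩ := (mem_GSp_iff _).1 h
  have h1 : ((k : Matrix ι ι F₀)ᵀ * Matrix.J (Fin m) F₀ * (k : Matrix ι ι F₀)).map e = (c : F) • JJ :=
    (map_gramJ e _).trans hc
  have h2 := congrFun (congrFun h1 (Sum.inr 0)) (Sum.inl 0)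
  rw [map_apply] at h2
  set c₀ := ((k : Matrix ι ι F₀)ᵀ * Matrix.J (Fin m) F₀ * (k : Matrix ι ι F₀)) (Sum.inr 0) (Sum.inl 0)
  have h3 : e c₀ = c := by simpa [Matrix.J] using h2
  refine (mem_GSp_iff _).2 ⟨Units.mk0 c₀ fun h => c.ne_zero (by rw [← h3, h, map_zero]), ?_⟩
  apply Matrix.map_injective e.injective
  simp only
  rw [h1, map_smul_J, Units.val_mk0, h3]

theorem sp_surj_field [NeZero m] (he : ∀ x, σ x = x ↔ ∃ y, e y = x) (h : GSp m F)
    (hh : spD F m (h * (gspField F m σ h)⁻¹) = 1) :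
    ∃ y, spD F m h = spD F m (gspMap m e y) := by
  obtain ⟨u, hu⟩ := (mem_center_gl_iff' _).1 ((spD_eq_one_iff _).1 hh)
  obtain ⟨v, hv⟩ := exists_fixed_smul (mul_inv_eq_iff_eq_mul.1 hu)
  obtain ⟨k, hk⟩ := exists_map_of_fixed he hv
  exact ⟨⟨k, mem_GSp_of_map (e := e) (hk ▸ mul_mem (scalar_mem_GSp v) h.2)⟩,
    (spD_eq_of_scalar hk).symm⟩

theorem isAlt_of_map {κ : Type*} [Fintype κ] [DecidableEq κ] {B : Matrix κ κ F₀}
    (h : IsAlt (B.map e)) : IsAlt B := by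
  rw [isAlt_iff] at h ⊢
  refine ⟨Matrix.ext fun i j => e.injective ?_, fun i => (map_eq_zero e).1 (h.2 i)⟩
  rw [Matrix.neg_apply, map_neg]
  exact congrFun (congrFun h.1 i) j

theorem sp_lang_field [Finite F] [NeZero m] (he : ∀ x, σ x = x ↔ ∃ y, e y = x) {r : ℕ}
    (hr : orderOf σ = r) (g : GSp m F) (hg : spD F m (tnrm (gspField F m σ) r g) = 1) :
    ∃ h, spD F m g = spD F m (h * (gspField F m σ h)⁻¹) := by
  have et : ∀ r, ((tnrm (gspField F m σ) r g : GSp m F) : GL ι F) = tnrm (glField ι F σ) r g :=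
    fun r => by
      induction r with
      | zero => rfl
      | succ r ih => rw [tnrm_succ, tnrm_succ, Subgroup.coe_mul, coe_gspField, ih]
  rw [spD_eq_one_iff, et] at hg
  obtain ⟨u, k, hk⟩ := lang_gl_field hr hg
  have hd : ((k : Matrix ι ι F)ᵀ * JJ * (k : Matrix ι ι F)).det ≠ 0 := by
    rw [det_mul, det_mul, det_transpose]
    exact mul_ne_zero (mul_ne_zero k.det_ne_zero det_J_ne_zero) k.det_ne_zero
  let G := GeneralLinearGroup.mkOfDetNeZero _ hd
  have hG : (G : Matrix ι ι F) = (k : Matrix ι ι F)ᵀ * JJ * (k : Matrix ι ι F) := rfl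
  obtain ⟨c, hc⟩ := (mem_GSp_iff _).1 (mul_mem (scalar_mem_GSp u) g.2)
  obtain ⟨v, hv⟩ := exists_fixed_smul (σ := σ) (g := G) (u := c) (Units.ext (by
    rw [coe_scalar_mul, coe_glField, hG, ← RingHom.coe_coe, map_gramJ, ← smul_mul_assoc,
      ← mul_smul_comm, ← hc]
    have : k = GeneralLinearGroup.scalar ι u * g * glField ι F σ k := by rw [hk]; group
    conv_lhs => rw [this]
    rw [Units.val_mul, transpose_mul]
    simp only [Matrix.mul_assoc]
    rfl))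
  obtain ⟨G₀, hG₀⟩ := exists_map_of_fixed he hv
  have hG₀' : (G₀ : Matrix ι ι F₀).map e = (v : F) • (G : Matrix ι ι F) := by
    rw [← coe_scalar_mul, ← hG₀]; rfl
  obtain ⟨n, hn⟩ := exists_symp_basis (A := (G₀ : Matrix ι ι F₀)) (isAlt_of_map (e := e) (by
    rw [hG₀', hG]; exact (isAlt_J.congr _).smul _)) G₀.det_ne_zero
  have hmem : k * GeneralLinearGroup.map e n ∈ GSp m F := (mem_GSp_iff _).2 ⟨v⁻¹, by
    have h1 := congrArg (·.map e) hn
    simp only [Matrix.map_mul, hG₀', transpose_map, map_J] at h1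
    conv_rhs => rw [← h1]
    rw [hG, mul_smul_comm, smul_mul_assoc, smul_smul, Units.inv_mul, one_smul, Units.val_mul,
      transpose_mul]
    simp only [Matrix.mul_assoc]
    rfl⟩
  refine ⟨⟨_, hmem⟩, (spD_eq_of_scalar (u := u) ?_).symm⟩
  rw [Subgroup.coe_mul, Subgroup.coe_inv, coe_gspField, map_mul, glField_map he, hk]
  group

theorem gspMul_gspMap_range [Finite F] [NeZero m] (he : ∀ x, σ x = x ↔ ∃ y, e y = x) (u : Fˣ) :
    u ∈ ((gspMul F m).comp (gspMap m e)).range ↔ u ^ (Nat.card (fixF σ) - 1) = 1 := by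
  have key : ∀ y, (gspMul F m (gspMap m e y) : F) = e (gspMul F₀ m y) := fun y => gspMul_eq (by
    rw [← map_smul_J, ← gspMul_spec, map_gramJ]; rfl)
  rw [← units_fixed_iff, he]
  constructor
  · rintro ⟨y, rfl⟩
    exact ⟨_, (key y).symm⟩
  · rintro ⟨y, hy⟩
    have y0 : y ≠ 0 := fun h => u.ne_zero (by rw [← hy, h, map_zero])
    obtain ⟨g, hg⟩ := gspMul_surj (m := m) (Units.mk0 y y0)
    exact ⟨g, Units.ext (by rw [MonoidHom.comp_apply, key, hg, ← hy]; rfl)⟩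

end sub

theorem gcd_two_geom {a r : ℕ} (ha : 2 ≤ a) (hr : 1 ≤ r) :
    Nat.gcd 2 ((a ^ r - 1) / (a - 1)) = Nat.gcd (Nat.gcd 2 (a ^ r - 1)) r := by
  have h1 : (a ^ r - 1) / (a - 1) = ∑ i ∈ Finset.range r, a ^ i := (Nat.geomSum_eq ha r).symm
  have g2 : ∀ x : ℕ, Nat.gcd 2 x = if x % 2 = 0 then 2 else 1 := fun x => by
    rw [Nat.gcd_rec]
    rcases Nat.mod_two_eq_zero_or_one x with h | h <;> simp [h]
  rw [h1]
  rcases Nat.mod_two_eq_zero_or_one a with h | h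
  · have h2 : (∑ i ∈ Finset.range r, a ^ i) % 2 = 1 := by
      obtain ⟨k, rfl⟩ : ∃ k, r = k + 1 := ⟨r - 1, by omega⟩
      rw [Finset.sum_range_succ', pow_zero]
      simp only [pow_succ, ← Finset.sum_mul]
      rw [Nat.add_mod, Nat.mul_mod, h]; simp
    have h3 : (a ^ r) % 2 = 0 := by
      obtain ⟨k, rfl⟩ : ∃ k, r = k + 1 := ⟨r - 1, by omega⟩
      rw [pow_succ, Nat.mul_mod, h]; simp
    have h4 : 0 < a ^ r := by positivity
    rw [g2, g2 (a ^ r - 1), if_neg (by omega), if_neg (by omega), Nat.gcd_one_left]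
  · have h2 : ∀ i, (a ^ i) % 2 = 1 := fun i => by rw [Nat.pow_mod, h]; simp
    have h3 : (∑ i ∈ Finset.range r, a ^ i) % 2 = r % 2 := by
      rw [Finset.sum_nat_mod]; simp [h2]
    have := h2 r
    rw [g2, g2 (a ^ r - 1), if_pos (show (a ^ r - 1) % 2 = 0 by omega), g2, h3]

end Cfsg.Agent.H6
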