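import Mathlib
import Cfsg.Agent.H6.PSpAut

/-!
The exceptional automorphism of `Sp_4(2^f)`.
-/

set_option autoImplicit false

namespace Cfsg.Agent.H6

open Matrix FTPG

variable {F : Type*} [Field F]

theorem orderOf_frobeniusEquiv [Fintype F] {p f : ℕ} [Fact p.Prime] [CharP F p]
    (hF : Fintype.card F = p ^ f) : orderOf (frobeniusEquiv F p) = f := by
  letI := ZMod.algebra F p
  have h1 := FiniteField.orderOf_frobeniusAlgEquivOfAlgebraic (ZMod p) F
  have h2 : Module.finrank (ZMod p) F = f := by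
    have := Module.card_eq_pow_finrank (K := ZMod p) (V := F)
    rw [ZMod.card, hF] at this
    exact (Nat.pow_right_injective (Fact.out : p.Prime).two_le this).symm
  rw [← h2, ← h1]
  let φ : (F ≃ₐ[ZMod p] F) →* (F ≃+* F) :=
    { toFun := fun σ => σ.toRingEquiv, map_one' := rfl, map_mul' := fun _ _ => rfl }
  have hφ : Function.Injective φ := fun a b h => AlgEquiv.ext fun x => DFunLike.congr_fun h x
  rw [← orderOf_injective φ hφ]
  congr 1
  ext x
  change x ^ p = FiniteField.frobeniusAlgEquivOfAlgebraic (ZMod p) F x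
  simp [ZMod.card]

section trans
variable {ι : Type*} [Fintype ι] [DecidableEq ι] {H : Type*} [Group H] {ρ : H →* Matrix ι ι F}
  {A : Matrix ι ι F}

theorem Splike.exists_map (U : Splike ρ A) {a b : ι → F} (ha : a ≠ 0) (hb : b ≠ 0) :
    ∃ g, ρ g *ᵥ a = b := by
  have key : ∀ a b : ι → F, bf A a b ≠ 0 → ∃ g, ρ g *ᵥ a = b := fun a b h => by
    obtain ⟨t, ht⟩ := U.exists_tv (b - a) (bf A a b)⁻¹
    refine ⟨t, ?_⟩
    rw [ht, tv_mulVec, smul_dotProduct, pb_dot, sf_sub_right, U.alt a, sub_zero, smul_eq_mul,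
      inv_mul_cancel₀ h, one_smul]
    abel
  obtain ⟨c, h1, h2⟩ : ∃ c, bf A c a ≠ 0 ∧ bf A c b ≠ 0 := by
    obtain ⟨u, hu⟩ := exists_bf_one U.det ha
    obtain ⟨v, hv⟩ := exists_bf_one U.det hb
    by_cases h1 : bf A u b = 0
    · by_cases h2 : bf A v a = 0
      · exact ⟨u + v, by simp [sf_add_left, hu, h2], by simp [sf_add_left, hv, h1]⟩
      · exact ⟨v, h2, by simp [hv]⟩
    · exact ⟨u, by simp [hu], h1⟩
  obtain ⟨g, hg⟩ := key a c fun h => h1 (U.comm h)
  obtain ⟨h, hh⟩ := key c b h2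
  exact ⟨h * g, by rw [map_mul, ← mulVec_mulVec, hg, hh]⟩

theorem Splike.shape_of_isTv [Finite F] [CharP F 2] (U : Splike ρ A) {t : H} {a f : ι → F}
    (ht : IsTv ρ t a f) : ∃ b, b ≠ 0 ∧ Shape ρ A t b 0 1 := by
  obtain ⟨c, hc, e⟩ := (U.toIsom.par_pf ht).symm
  obtain ⟨s, rfl⟩ := FiniteField.isSquare_of_char_two (ringChar.eq F 2) c
  refine ⟨s • a, smul_ne_zero (left_ne_zero_of_mul hc) ht.1, fun v => ?_⟩
  rw [ht.2.2.2, tv_mulVec, e, smul_dotProduct, pb_dot, bf_smul_right, sf_zero_right]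
  simp only [smul_eq_mul]
  module

theorem Splike.isConj_tv [Finite F] [CharP F 2] (U : Splike ρ A) {s t : H} {a f b g : ι → F}
    (hs : IsTv ρ s a f) (ht : IsTv ρ t b g) : ∃ x, t = x * s * x⁻¹ := by
  obtain ⟨a', ha', h1⟩ := U.shape_of_isTv hs
  obtain ⟨b', hb', h2⟩ := U.shape_of_isTv ht
  obtain ⟨x, hx⟩ := U.exists_map ha' hb'
  have h3 := U.shape_conj h1 x
  rw [hx, mulVec_zero] at h3
  exact ⟨x, U.inj (ext_mulVec fun v => by rw [h2, h3])⟩

theorem Splike.not_tvOr1 (U : Splike ρ A) {t : H} {a w : ι → F} (i2 : Ind2 F a w)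
    (h : Shape ρ A t a w 0) : ¬ TvOr1 ρ t := by
  rintro ⟨b, f, -, e⟩
  obtain ⟨u, h1, h2⟩ := exists_bf_of_ind2 U.det i2
  obtain ⟨v, h3, h4⟩ := exists_bf_of_ind2 U.det i2.symm
  have e1 := h u
  have e2 := h v
  rw [e, tv_mulVec] at e1 e2
  rw [U.alt.swap u a, U.alt.swap u w, h1, h2] at e1
  rw [U.alt.swap v a, U.alt.swap v w, h3, h4] at e2
  have := i2 (f ⬝ᵥ u) (-(f ⬝ᵥ v))
    (by linear_combination (norm := module) (f ⬝ᵥ u) • e2 - (f ⬝ᵥ v) • e1)
  rw [this.1] at e1
  exact i2.ne_right (by linear_combination (norm := module) e1)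

theorem tvPres_inv [Finite H] (hmk : Function.Injective (QuotientGroup.mk' (Subgroup.center H)))
    {α : MulAut (H ⧸ Subgroup.center H)} (hα : TvPres ρ α) : TvPres ρ α⁻¹ := by
  choose φ h1 h2 using hα
  let ψ : {t // TvOr1 ρ t} → {t // TvOr1 ρ t} := fun t => ⟨φ t.1 t.2, h1 t.1 t.2⟩
  have : Function.Injective ψ := fun a b h => Subtype.ext (hmk (α.injective (by
    have h' : φ a.1 a.2 = φ b.1 b.2 := congrArg Subtype.val h
    exact (h2 a.1 a.2).trans (h' ▸ (h2 b.1 b.2).symm))))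
  intro t ht
  obtain ⟨s, hs⟩ := Finite.injective_iff_surjective.1 this ⟨t, ht⟩
  have h' : φ s.1 s.2 = t := congrArg Subtype.val hs
  exact ⟨s, s.2, corr_symm (h' ▸ h2 s.1 s.2)⟩

end trans

local notation "ι" => Fin 2 ⊕ Fin 2
local notation "JJ" => Matrix.J (Fin 2) F
local notation "SP" => Matrix.symplecticGroup (Fin 2) F

/-- first index of the pair attached to a coordinate -/
def wl : ι → ι := Sum.elim ![.inl 0, .inl 0] ![.inr 0, .inr 0]
/-- second index of the pair attached to a coordinate -/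
def wr : ι → ι := Sum.elim ![.inl 1, .inr 1] ![.inr 1, .inl 1]

/-- the projected exterior product -/
def wdg (u v : ι → F) : ι → F := fun i => u (wl i) * v (wr i) + u (wr i) * v (wl i)

theorem bf_J2 (u v : ι → F) : bf JJ u v = u (.inr 0) * v (.inl 0) + u (.inr 1) * v (.inl 1)
    - u (.inl 0) * v (.inr 0) - u (.inl 1) * v (.inr 1) := by
  simp [bf_eq, Matrix.J, dotProduct, mulVec, Fintype.sum_sum_type, Fin.sum_univ_two, one_apply]
  ring

theorem wdg_single (i : ι) : wdg (Pi.single (wl i) (1 : F)) (Pi.single (wr i) 1) = Pi.single i 1 := by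
  funext k
  rcases i with i | i <;> fin_cases i <;> rcases k with k | k <;> fin_cases k <;>
  simp [wdg, wl, wr, Pi.single_apply]

theorem bf_single_wl_wr (i : ι) : bf JJ (Pi.single (wl i) (1 : F)) (Pi.single (wr i) 1) = 0 := by
  rw [sf_single]
  rcases i with i | i <;> fin_cases i <;> simp [wl, wr, Matrix.J]

/-- the matrix of minors -/
def gam (g : Matrix ι ι F) : Matrix ι ι F :=
  Matrix.of fun i j => wdg (g *ᵥ Pi.single (wl j) 1) (g *ᵥ Pi.single (wr j) 1) i

theorem gam_single (g : Matrix ι ι F) (j : ι) :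
    gam g *ᵥ Pi.single j 1 = wdg (g *ᵥ Pi.single (wl j) 1) (g *ᵥ Pi.single (wr j) 1) := by
  funext i; simp [gam]

theorem ext_single {κ : Type*} [Fintype κ] [DecidableEq κ] {M N : Matrix κ κ F}
    (h : ∀ j, M *ᵥ Pi.single j 1 = N *ᵥ Pi.single j 1) : M = N := by
  ext i j
  simpa using congrFun (h j) i

variable [CharP F 2]

theorem bf_wdg {u v u' v' : ι → F} (h : bf JJ u v = 0) (h' : bf JJ u' v' = 0) :
    bf JJ (wdg u v) (wdg u' v') = bf JJ u u' * bf JJ v v' + bf JJ u v' * bf JJ v u' := by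
  simp only [bf_J2, wdg, wl, wr, Sum.elim_inl, Sum.elim_inr, cons_val_zero, cons_val_one] at *
  grind

theorem wdg_wdg {u v v' : ι → F} (h : bf JJ u v = 0) (h' : bf JJ u v' = 0) :
    wdg (wdg u v) (wdg u v') = bf JJ v v' • fun i => u i ^ 2 := by
  funext k
  rcases k with k | k <;> fin_cases k <;>
  simp only [bf_J2, wdg, wl, wr, Sum.elim_inl, Sum.elim_inr, cons_val_zero, cons_val_one,
    Fin.zero_eta, Fin.mk_one, Pi.smul_apply, smul_eq_mul] at * <;>
  grind

theorem gam_wdg {g : Matrix ι ι F} (hg : g ∈ SP) {u v : ι → F} (h : bf JJ u v = 0) :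
    gam g *ᵥ wdg u v = wdg (g *ᵥ u) (g *ᵥ v) := by
  have e : ∀ i, bf JJ (g (wl i)) (g (wr i)) = 0 := fun i => by
    have h1 := SymplecticGroup.mem_iff'.1 (SymplecticGroup.transpose_mem hg)
    have := bf_mulVec JJ gᵀ (Pi.single (wl i) 1) (Pi.single (wr i) 1)
    rw [h1, bf_single_wl_wr] at this
    simpa [Matrix.row] using this
  funext k
  have e1 := e k
  simp only [bf_J2] at e1 h
  simp only [gam, wdg, mulVec, dotProduct, Fintype.sum_sum_type, Fin.sum_univ_two, of_apply]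
  generalize wl k = a at *
  generalize wr k = b at *
  simp [wl, wr, Pi.single_apply]
  grind

theorem gam_mul {g h : Matrix ι ι F} (hg : g ∈ SP) (hh : h ∈ SP) : gam (g * h) = gam g * gam h :=
  ext_single fun j => by
    rw [← mulVec_mulVec, gam_single, gam_single, gam_wdg hg, mulVec_mulVec, mulVec_mulVec]
    rw [bf_mulVec, SymplecticGroup.mem_iff'.1 hh, bf_single_wl_wr]

theorem gam_mem {g : Matrix ι ι F} (hg : g ∈ SP) : gam g ∈ SP := by
  rw [SymplecticGroup.mem_iff']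
  ext i j
  have e : ∀ u v, bf JJ (g *ᵥ u) (g *ᵥ v) = bf JJ u v := fun u v => by
    rw [bf_mulVec, SymplecticGroup.mem_iff'.1 hg]
  rw [← sf_single (RingHom.id F) ((gam g)ᵀ * JJ * gam g) i j, ← bf_mulVec, gam_single, gam_single,
    bf_wdg (by rw [e, bf_single_wl_wr]) (by rw [e, bf_single_wl_wr]), e, e, e, e,
    ← bf_wdg (bf_single_wl_wr i) (bf_single_wl_wr j), wdg_single, wdg_single, sf_single]

theorem gam_gam {g : Matrix ι ι F} (hg : g ∈ SP) : gam (gam g) = g.map (frobenius F 2) :=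
  ext_single fun j => by
    have e : ∀ u v, bf JJ (g *ᵥ u) (g *ᵥ v) = bf JJ u v := fun u v => by
      rw [bf_mulVec, SymplecticGroup.mem_iff'.1 hg]
    have key : ∃ v v' : ι → F, bf JJ (Pi.single j 1) v = 0 ∧ bf JJ (Pi.single j 1) v' = 0 ∧
        bf JJ v v' = 1 ∧ wdg (Pi.single j 1) v = Pi.single (wl j) 1 ∧
        wdg (Pi.single j 1) v' = Pi.single (wr j) 1 := by
      rcases j with j | j <;> fin_cases j
      · refine ⟨Pi.single (.inl 1) 1, Pi.single (.inr 1) 1, ?_, ?_, ?_, ?_, ?_⟩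
        any_goals simp [sf_single, Matrix.J, CharTwo.neg_eq]
        all_goals funext k; rcases k with k | k <;> fin_cases k <;> simp [wdg, wl, wr]
      · refine ⟨Pi.single (.inl 0) 1, Pi.single (.inr 0) 1, ?_, ?_, ?_, ?_, ?_⟩
        any_goals simp [sf_single, Matrix.J, CharTwo.neg_eq]
        all_goals funext k; rcases k with k | k <;> fin_cases k <;> simp [wdg, wl, wr]
      · refine ⟨Pi.single (.inr 1) 1, Pi.single (.inl 1) 1, ?_, ?_, ?_, ?_, ?_⟩
        any_goals simp [sf_single, Matrix.J, CharTwo.neg_eq]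
        all_goals funext k; rcases k with k | k <;> fin_cases k <;> simp [wdg, wl, wr]
      · refine ⟨Pi.single (.inr 0) 1, Pi.single (.inl 0) 1, ?_, ?_, ?_, ?_, ?_⟩
        any_goals simp [sf_single, Matrix.J, CharTwo.neg_eq]
        all_goals funext k; rcases k with k | k <;> fin_cases k <;> simp [wdg, wl, wr]
    obtain ⟨v, v', h1, h2, h3, h4, h5⟩ := key
    rw [gam_single, ← h4, ← h5, gam_wdg hg h1, gam_wdg hg h2,
      wdg_wdg (by rw [e, h1]) (by rw [e, h2]), e, h3, one_smul]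
    funext i
    simp [frobenius_def]

theorem gam_shape {g : Matrix ι ι F} {a w : ι → F} (hw : bf JJ w a = 0)
    (h : ∀ v, g *ᵥ v = v + bf JJ v a • w + bf JJ v w • a + (0 * bf JJ v a) • a) :
    gam g = tv (wdg a w) (pb JJ (wdg a w)) := ext_single fun j => by
  have hw' : bf JJ a w = 0 := by rw [isAlt_J.swap, hw, neg_zero]
  rw [gam_single, tv_mulVec, pb_dot, h, h]
  conv_rhs => rw [← wdg_single j]
  rw [bf_wdg (bf_single_wl_wr j) hw']
  have h0 := bf_single_wl_wr (F := F) j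
  generalize (Pi.single (wl j) 1 : ι → F) = u at *
  generalize (Pi.single (wr j) 1 : ι → F) = v at *
  funext k
  rcases k with k | k <;> fin_cases k <;>
  simp only [bf_J2, wdg, wl, wr, Sum.elim_inl, Sum.elim_inr, cons_val_zero, cons_val_one,
    Fin.zero_eta, Fin.mk_one, Pi.smul_apply, Pi.add_apply, smul_eq_mul] at * <;>
  grind

variable (F) in
/-- the exceptional endomorphism of `Sp_4` -/
def gamHom : SP →* SP := MonoidHom.mk' (fun g => ⟨gam g.1, gam_mem g.2⟩)
  fun g h => Subtype.ext (gam_mul g.2 h.2)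

theorem gamHom_injective : Function.Injective (gamHom F) := fun g h e => by
  have h1 : gam g.1 = gam h.1 := congrArg Subtype.val e
  have h2 := congrArg gam h1
  rw [gam_gam g.2, gam_gam h.2] at h2
  exact Subtype.ext (Matrix.map_injective (frobenius_inj F 2) h2)

variable [Finite F]

variable (F) in
/-- the exceptional automorphism of `PSp_4` -/
noncomputable def gamAut : MulAut (PSp 2 F) :=
  cqAut _ (MulEquiv.ofBijective (gamHom F) (Finite.injective_iff_bijective.1 gamHom_injective))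

local notation "mk" => (QuotientGroup.mk : SP → SP ⧸ Subgroup.center SP)

theorem gamAut_mk (g : SP) : gamAut F (mk g) = mk (gamHom F g) := rfl

theorem gamAut_sq : gamAut F * gamAut F = spΦ F 2 (frobeniusEquiv F 2) :=
  (eq_gΦ_iff (spJ F 2) spJ_inj field_mem_stab_sp _ _).2 fun s s' e => by
    rw [MulAut.mul_apply, gamAut_mk, gamAut_mk]
    exact congrArg _ (Subtype.ext ((gam_gam s.2).trans e.symm))

theorem tvOr1_gamHom {t : SP} {a w : ι → F} (hw : bf JJ w a = 0)
    (h : Shape (jRho (spJ F 2)) JJ t a w 0) : TvOr1 (jRho (spJ F 2)) (gamHom F t) :=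
  ⟨_, _, by rw [pb_dot, isAlt_J], gam_shape hw h⟩

theorem psp4_aut (α : MulAut (PSp 2 F)) :
    ∃ g σ, α = spD F 2 g * spΦ F 2 σ ∨ gamAut F * α = spD F 2 g * spΦ F 2 σ := by
  have U := spLike (F := F) (m := 2)
  have hinv : ∀ α : MulAut (PSp 2 F), TvPres (jRho (spJ F 2)) α → TvPres (jRho (spJ F 2)) α⁻¹ :=
    fun _ => tvPres_inv U.mk_bijective.1
  by_cases hα : TvPres (jRho (spJ F 2)) α
  · obtain ⟨g, σ, h⟩ := psp_aut_of_tvPres le_rfl hα (hinv _ hα)
    exact ⟨g, σ, Or.inl h⟩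
  obtain ⟨β, hβ⟩ := U.exists_lift α
  have hα' : TvPres (jRho (spJ F 2)) (gamAut F * α) := by
    simp only [TvPres, not_forall, not_exists, not_and] at hα
    obtain ⟨t, ht, hn⟩ := hα
    obtain ⟨a, w, h1, -, h3⟩ := (U.tvOr1_or_a2_aut (by simp) β ht).resolve_left
      fun h => hn _ h (hβ t)
    intro s hs
    refine ⟨gamHom F (β s), ?_, by rw [MulAut.mul_apply, hβ, gamAut_mk]⟩
    rcases hs.cases with h | ⟨b, f, hs⟩
    · rw [show s = 1 from U.inj (by rw [h, map_one]), map_one, map_one]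
      exact ⟨0, 0, by simp, by simp⟩
    rcases ht.cases with h | ⟨c, g, ht⟩
    · rw [show t = 1 from U.inj (by rw [h, map_one])] at hn
      exact absurd (by simp) (hn 1 ⟨0, 0, by simp, by simp⟩)
    obtain ⟨x, rfl⟩ := U.isConj_tv ht hs
    rw [map_mul β, map_mul β, map_inv β]
    exact tvOr1_gamHom (by rw [U.isom, h1]) (U.shape_conj h3 (β x))
  obtain ⟨g, σ, h⟩ := psp_aut_of_tvPres le_rfl hα' (hinv _ hα')
  exact ⟨g, σ, Or.inr h⟩

theorem gamAut_inv_ne (g : GSp 2 F) (σ : F ≃+* F) : (gamAut F)⁻¹ ≠ spD F 2 g * spΦ F 2 σ := by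
  intro h
  have U := spLike (F := F) (m := 2)
  have hw : bf JJ (Pi.single (.inl 1) (1 : F)) (Pi.single (.inl 0) 1) = 0 := by
    simp [sf_single, Matrix.J]
  obtain ⟨t, -, ht⟩ := U.exists_rho hw
  have hs : Shape (jRho (spJ F 2)) JJ t (Pi.single (.inl 0) 1) (Pi.single (.inl 1) 1) 0 :=
    fun v => by rw [ht]; simp
  have i2 : Ind2 F (Pi.single (.inl 0) 1 : ι → F) (Pi.single (.inl 1) 1) := fun s t e =>
    ⟨by simpa using congrFun e (.inl 0), by simpa using congrFun e (.inl 1)⟩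
  refine U.not_tvOr1 i2 hs ?_
  rcases (tvOr1_gamHom hw hs).cases with h1 | ⟨a, f, h1⟩
  · have : t = 1 := gamHom_injective (U.inj (by rw [h1, map_one, map_one]))
    rw [this]
    exact ⟨0, 0, by simp, by simp⟩
  · obtain ⟨t', f', h2, h3⟩ := gDΦ_tv (spJ F 2) spJ_inj field_mem_stab_sp gsp_normalizes g σ h1
    have h4 : (gamAut F)⁻¹ (mk (gamHom F t)) = mk t' := h ▸ h3
    rw [← gamAut_mk, MulAut.inv_apply_self] at h4
    rw [U.mk_bijective.1 h4]
    exact h2.tvOr1

end Cfsg.Agent.H6
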