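import Mathlib
import Cfsg.Agent.H6.Sp4
import Cfsg.Agent.H6.Bal

/-!
Normal subgroups of linear and symplectic groups (Iwasawa's argument).
-/

set_option autoImplicit false

namespace Cfsg.Agent.H6

open Matrix FTPG MatrixGroups

variable {ι : Type*} [Fintype ι] [DecidableEq ι] {F : Type*} [Field F]
  {H : Type*} [Group H] {ρ : H →* Matrix ι ι F}

section blk

/-- a `2 × 2` block acting on a plane with a complement -/
def blk (X : Matrix ι (Fin 2) F) (Y : Matrix (Fin 2) ι F) (h : Y * X = 1) :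
    Matrix (Fin 2) (Fin 2) F →* Matrix ι ι F where
  toFun M := 1 + X * (M - 1) * Y
  map_one' := by simp
  map_mul' M N := by
    have : X * (M - 1) * Y * (X * (N - 1) * Y) = X * ((M - 1) * (N - 1)) * Y := by
      simp only [Matrix.mul_assoc]
      rw [← Matrix.mul_assoc Y, h, Matrix.one_mul]
    rw [add_mul, mul_add, mul_add, this, show M * N - 1 = (M - 1) + (N - 1) + (M - 1) * (N - 1) by
      noncomm_ring, Matrix.mul_add, Matrix.mul_add, Matrix.add_mul, Matrix.add_mul]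
    simp only [one_mul, mul_one]
    abel

theorem blk_scalar {X : Matrix ι (Fin 2) F} {Y : Matrix (Fin 2) ι F} (h : Y * X = 1)
    {M : Matrix (Fin 2) (Fin 2) F} {c : F} (e : blk X Y h M = c • 1) : M = c • 1 := by
  have h1 : Y * (1 + X * (M - 1) * Y) * X = Y * (c • (1 : Matrix ι ι F)) * X :=
    congrArg (fun Z : Matrix ι ι F => Y * Z * X) e
  rw [Matrix.mul_add, Matrix.add_mul, Matrix.mul_one, h, ← Matrix.mul_assoc, ← Matrix.mul_assoc, h,
    Matrix.mul_assoc, h, Matrix.mul_smul, Matrix.smul_mul, Matrix.mul_one, Matrix.mul_one, h] at h1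
  simpa using h1

theorem blk_transvection {X : Matrix ι (Fin 2) F} {Y : Matrix (Fin 2) ι F} (h : Y * X = 1)
    (i j : Fin 2) (c : F) :
    blk X Y h (1 + single i j c) = tv (fun k => X k i) (c • Y j) := by
  change 1 + X * (1 + single i j c - 1) * Y = _
  rw [add_sub_cancel_left, tv]
  congr 1
  ext k l
  fin_cases i <;> fin_cases j <;> simp [mul_apply, vecMulVec_apply, mul_assoc]

theorem exists_sl2_elt [Fintype F] {p : ℕ} (hp : p.Prime) (hd : p ∣ Fintype.card F - 1) :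
    ∃ A : SL(2, F), slRho _ F A ^ p ^ 2 = 1 ∧ ∀ c : F, slRho _ F A ≠ c • 1 := by
  by_cases h2 : p = 2
  · subst h2
    refine ⟨⟨!![0, 1; -1, 0], by simp [det_fin_two]⟩, ?_, fun c h => ?_⟩
    · change (!![0, 1; -1, 0] : Matrix (Fin 2) (Fin 2) F) ^ 4 = 1
      ext i j
      fin_cases i <;> fin_cases j <;> simp [pow_succ]
    · have h' : (!![0, 1; -1, 0] : Matrix (Fin 2) (Fin 2) F) = c • 1 := h
      simpa using congrFun (congrFun h' 0) 1
  · have : Fact p.Prime := ⟨hp⟩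
    obtain ⟨a, ha⟩ := exists_prime_orderOf_dvd_card' (G := Fˣ) p
      (by rwa [Nat.card_units, Nat.card_eq_fintype_card])
    have h1 : (a : F) ^ p = 1 := by rw [← Units.val_pow_eq_pow_val, ← ha, pow_orderOf_eq_one]; rfl
    refine ⟨SpecialLinearGroup.diag2 (a : F) a.ne_zero, ?_, fun c h => ?_⟩
    · change (SpecialLinearGroup.diag2 (a : F) a.ne_zero).1 ^ _ = _
      rw [SpecialLinearGroup.diag2n_coe, diagonal_pow]
      ext i j
      fin_cases i <;> fin_cases j <;> simp [pow_two, pow_mul, h1]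
    · change (SpecialLinearGroup.diag2 (a : F) a.ne_zero).1 = _ at h
      rw [SpecialLinearGroup.diag2_coe'] at h
      have h3 : (a : F) = c := by simpa using congrFun (congrFun h 0) 0
      have h4 : (a : F)⁻¹ = c := by simpa using congrFun (congrFun h 1) 1
      have h5 : a ^ 2 = 1 := Units.ext (by
        rw [Units.val_pow_eq_pow_val, pow_two]
        nth_rw 1 [h3, ← h4]
        simp)
      exact h2 ((Nat.prime_dvd_prime_iff_eq hp Nat.prime_two).1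
        (ha ▸ orderOf_dvd_of_pow_eq_one h5))

end blk

variable (ρ) in
/-- the subgroup generated by the transvections -/
def tvSub : Subgroup H := Subgroup.closure {t | TvOr1 ρ t}

theorem TvOr1.mem {t : H} (h : TvOr1 ρ t) : t ∈ tvSub ρ := Subgroup.subset_closure h

theorem exists_blk {X : Matrix ι (Fin 2) F} {Y : Matrix (Fin 2) ι F} (h : Y * X = 1)
    (ht : ∀ i j, i ≠ j → ∀ c : F, ∃ t, ρ t = tv (fun k => X k i) (c • Y j)) (A : SL(2, F)) :
    ∃ s ∈ tvSub ρ, ρ s = blk X Y h (slRho _ F A) := by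
  refine SL2.transvection_induction (fun A => ∃ s ∈ tvSub ρ, ρ s = blk X Y h (slRho _ F A)) ?_ ?_ A
  · intro i j hij c
    obtain ⟨t, e⟩ := ht i j hij c
    refine ⟨t, TvOr1.mem ⟨_, _, ?_, e⟩, e.trans (blk_transvection h i j c).symm⟩
    have := congrFun (congrFun h j) i
    rw [one_apply_ne hij.symm, mul_apply] at this
    rw [smul_dotProduct, dotProduct, this, smul_zero]
  · rintro A B ⟨s, hs, e⟩ ⟨t, ht, e'⟩
    exact ⟨s * t, mul_mem hs ht, by rw [map_mul, e, e', map_mul, map_mul]⟩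

theorem exists_elt_of_blk [Fintype F] (inj : Function.Injective ρ) {X : Matrix ι (Fin 2) F}
    {Y : Matrix (Fin 2) ι F} (h : Y * X = 1)
    (ht : ∀ i j, i ≠ j → ∀ c : F, ∃ t, ρ t = tv (fun k => X k i) (c • Y j))
    {p : ℕ} (hp : p.Prime) (hd : p ∣ Fintype.card F - 1) :
    ∃ s : H, s ^ p ^ 2 = 1 ∧ ∀ c : F, ρ s ≠ c • 1 := by
  obtain ⟨A, h1, h2⟩ := exists_sl2_elt hp hd
  obtain ⟨s, -, e⟩ := exists_blk h ht A
  refine ⟨s, inj ?_, fun c hc => h2 c (blk_scalar h (e ▸ hc))⟩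
  rw [map_pow, e, ← map_pow, h1, map_one, map_one]

variable (ρ) in
/-- transvections with a given centre -/
def tvAt (a : ι → F) : Subgroup H where
  carrier := {t | ∃ f, f ⬝ᵥ a = 0 ∧ ρ t = tv a f}
  one_mem' := ⟨0, by simp, by simp⟩
  mul_mem' := by
    rintro s t ⟨f, hf, e⟩ ⟨g, hg, e'⟩
    exact ⟨f + g, by rw [add_dotProduct, hf, hg, add_zero], by
      rw [map_mul, e, e', tv_mul_tv_same hf]⟩
  inv_mem' := by
    rintro s ⟨f, hf, e⟩
    refine ⟨-f, by rw [neg_dotProduct, hf, neg_zero], ?_⟩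
    calc ρ s⁻¹ = ρ s⁻¹ * (ρ s * tv a (-f)) := by rw [e, tv_mul_neg hf, mul_one]
      _ = _ := by rw [← mul_assoc, ← map_mul, inv_mul_cancel, map_one, one_mul]

theorem tv_pow {a f : ι → F} (h : f ⬝ᵥ a = 0) (k : ℕ) : tv a f ^ k = tv a ((k : F) • f) := by
  induction k with
  | zero => simp
  | succ k ih =>
    rw [pow_succ, ih, tv_mul_tv_same (by rw [smul_dotProduct, h, smul_zero]), Nat.cast_succ,
      add_smul, one_smul]

theorem tvAt_pow (inj : Function.Injective ρ) (r : ℕ) [CharP F r] {a : ι → F} {t : H}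
    (ht : t ∈ tvAt ρ a) : t ^ r = 1 := by
  obtain ⟨f, hf, e⟩ := ht
  exact inj (by rw [map_pow, e, tv_pow hf, CharP.cast_eq_zero, zero_smul, tv_zero_right, map_one])

theorem conj_mem_tvAt {a b : ι → F} {x t : H} (hp : Par (ρ x *ᵥ a) b) (ht : t ∈ tvAt ρ a) :
    x * t * x⁻¹ ∈ tvAt ρ b := by
  obtain ⟨f, hf, e⟩ := ht
  obtain ⟨c, hc, e'⟩ := hp.symm
  have h1 : ρ x * ρ x⁻¹ = 1 := by rw [← map_mul, mul_inv_cancel, map_one]
  refine ⟨c • (f ᵥ* ρ x⁻¹), ?_, by rw [map_mul, map_mul, e, conj_tv h1, e', tv_smul]⟩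
  rw [smul_dotProduct, dotProduct_comm, ← dotProduct_smul, dotProduct_comm, smul_dotProduct,
    ← dotProduct_smul, ← e', ← dotProduct_mulVec, inv_mulVec_mulVec, hf]

theorem conj_mem_flagQ {a f b g : ι → F} {x t : H} (hp : Par (ρ x *ᵥ a) b)
    (hp' : Par (f ᵥ* ρ x⁻¹) g) (ht : t ∈ flagQ ρ a f) : x * t * x⁻¹ ∈ flagQ ρ b g := by
  obtain ⟨h1, h2, h3⟩ := ht
  obtain ⟨c, hc, rfl⟩ := hp
  obtain ⟨d, hd, rfl⟩ := hp'
  refine ⟨?_, fun v => ?_, fun v hv => ?_⟩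
  · rw [map_mul, map_mul, ← mulVec_mulVec, ← mulVec_mulVec, mulVec_smul, inv_mulVec_mulVec,
      mulVec_smul, h1, mulVec_smul]
  · rw [map_mul, map_mul, ← mulVec_mulVec, ← mulVec_mulVec, smul_dotProduct, smul_dotProduct,
      ← dotProduct_mulVec, inv_mulVec_mulVec, h2, dotProduct_mulVec]
  · rw [smul_dotProduct, smul_eq_zero, or_iff_right hd, ← dotProduct_mulVec] at hv
    obtain ⟨e, he⟩ := h3 _ hv
    refine ⟨e * c⁻¹, ?_⟩
    rw [map_mul, map_mul, ← mulVec_mulVec, ← mulVec_mulVec, he, mulVec_add, mulVec_inv_mulVec,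
      mulVec_smul, smul_smul, inv_mul_cancel_right₀ hc]

theorem flagQ_pow (inj : Function.Injective ρ) (r : ℕ) [Fact r.Prime] [CharP F r] {a f : ι → F}
    {g : H} (hg : g ∈ flagQ ρ a f) : g ^ r ^ 2 = 1 := by
  obtain ⟨h1, h2, h3⟩ := hg
  refine inj ?_
  rw [map_pow, map_one]
  refine pow_eq_one_of_cube (ext_mulVec fun v => ?_)
  obtain ⟨c, hc⟩ := h3 (ρ g *ᵥ v - v) (by rw [dotProduct_sub, h2, sub_self])
  have e : ∀ w, (ρ g - 1) *ᵥ w = ρ g *ᵥ w - w := fun w => by rw [sub_mulVec, one_mulVec]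
  rw [pow_three, ← mulVec_mulVec, ← mulVec_mulVec, e v, e (ρ g *ᵥ v - v), hc, add_sub_cancel_left,
    e, mulVec_smul, h1, sub_self, zero_mulVec]

variable (ρ) in
/-- two points in the same orbit -/
def Orb (M : Subgroup H) (a b : ι → F) : Prop := ∃ m ∈ M, Par (ρ m *ᵥ a) b

variable {M : Subgroup H}

theorem Orb.of_par {a b : ι → F} (h : Par a b) : Orb ρ M a b := ⟨1, M.one_mem, by simpa using h⟩

theorem Orb.symm {a b : ι → F} (h : Orb ρ M a b) : Orb ρ M b a := by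
  obtain ⟨m, hm, h⟩ := h
  refine ⟨m⁻¹, M.inv_mem hm, ?_⟩
  have := h.symm.mulVec (ρ m⁻¹)
  rwa [inv_mulVec_mulVec] at this

theorem Orb.trans {a b c : ι → F} (h : Orb ρ M a b) (h' : Orb ρ M b c) : Orb ρ M a c := by
  obtain ⟨m, hm, h⟩ := h
  obtain ⟨m', hm', h'⟩ := h'
  refine ⟨m' * m, M.mul_mem hm' hm, ?_⟩
  rw [map_mul, ← mulVec_mulVec]
  exact (h.mulVec _).trans h'

theorem Orb.conj [hM : M.Normal] {a b : ι → F} (h : Orb ρ M a b) (x : H) :
    Orb ρ M (ρ x *ᵥ a) (ρ x *ᵥ b) := by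
  obtain ⟨m, hm, h⟩ := h
  refine ⟨_, hM.conj_mem m hm x, ?_⟩
  rw [map_mul, map_mul, ← mulVec_mulVec, ← mulVec_mulVec, inv_mulVec_mulVec]
  exact h.mulVec _

theorem mem_sup_of_conj {Q : Subgroup H} {m t : H} (hm : m ∈ M) (h : m * t * m⁻¹ ∈ Q) :
    t ∈ M ⊔ Q := by
  rw [show t = m⁻¹ * (m * t * m⁻¹) * m by group]
  exact mul_mem (mul_mem (Subgroup.mem_sup_left (M.inv_mem hm)) (Subgroup.mem_sup_right h))
    (Subgroup.mem_sup_left hm)

theorem tvSub_pow_mem (inj : Function.Injective ρ) (r : ℕ) [CharP F r] [M.Normal] {a : ι → F}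
    (h : ∀ t b f, IsTv ρ t b f → Orb ρ M b a) {s : H} (hs : s ∈ tvSub ρ) : s ^ r ∈ M := by
  refine pow_mem_of_mem_sup (D := tvAt ρ a) (fun d hd => tvAt_pow inj r hd) ?_
  refine (Subgroup.closure_le (M ⊔ tvAt ρ a)).2 (fun t ht => ?_) hs
  rcases TvOr1.cases ht with e | ⟨b, f, e⟩
  · rw [show t = 1 from inj (by rw [e, map_one])]
    exact one_mem _
  · obtain ⟨m, hm, hp⟩ := h t b f e
    exact mem_sup_of_conj hm (conj_mem_tvAt hp ⟨f, e.2.2.1, e.2.2.2⟩)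

theorem exists_not_par {m : H} (hm : ∀ c : F, ρ m ≠ c • 1) : ∃ a, a ≠ 0 ∧ ¬ Par a (ρ m *ᵥ a) := by
  by_contra hh
  push Not at hh
  obtain ⟨c, hc⟩ := scalar_of_fix_points (M := ρ m) fun v => by
    by_cases hv : v = 0
    · exact ⟨0, by simp [hv]⟩
    · obtain ⟨c, -, e⟩ := hh v hv
      exact ⟨c, e⟩
  exact hm c hc

section sl

theorem sl_exists_map2 {a b c : ι → F} (hb : Ind2 F a b) (hc : Ind2 F a c) :
    ∃ x : SpecialLinearGroup ι F, slRho ι F x *ᵥ a = a ∧ Par (slRho ι F x *ᵥ b) c := by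
  by_cases h : FTPG.InSp F c a b
  · obtain ⟨s, t, e⟩ := h
    have ht : t ≠ 0 := fun h0 => by
      simpa using (hc s (-1) (by rw [e, h0]; module)).2
    obtain ⟨f, h1, h2⟩ := exists_dot_of_ind2 hb.symm
    rw [dotProduct_comm] at h1 h2
    refine ⟨slTv a ((s * t⁻¹) • f) (by rw [smul_dotProduct, h2, smul_zero]), ?_, t, ht, ?_⟩
    · rw [slRho_slTv, tv_mulVec, smul_dotProduct, h2]; simp
    · rw [slRho_slTv, tv_mulVec, smul_dotProduct, h1, e, smul_add, smul_smul, smul_eq_mul, mul_one,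
        mul_comm s, mul_inv_cancel_left₀ ht, add_comm]
  · obtain ⟨f, h1, h2⟩ := exists_dot_of_ind2 hb.symm
    obtain ⟨g, h3, h4, h5⟩ := exists_dot_of_not_inSp h
    rw [dotProduct_comm] at h1 h2 h3 h4 h5
    have e1 : (f + (1 - f ⬝ᵥ c) • g) ⬝ᵥ a = 0 := by simp [h2, h4]
    have e2 : (f + (1 - f ⬝ᵥ c) • g) ⬝ᵥ b = 1 := by simp [h1, h5]
    have e3 : (f + (1 - f ⬝ᵥ c) • g) ⬝ᵥ c = 1 := by simp [h3]
    generalize f + (1 - f ⬝ᵥ c) • g = k at *
    refine ⟨slTv (c - b) k (by rw [dotProduct_sub, e2, e3, sub_self]), ?_, ?_⟩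
    · rw [slRho_slTv, tv_mulVec, e1]; simp
    · rw [slRho_slTv, tv_mulVec, e2]; simpa using Par.refl c

theorem sl_tvSub [Nontrivial ι] : tvSub (slRho ι F) = ⊤ := by
  refine (Subgroup.eq_top_iff' _).2 fun x => ?_
  refine SpecialLinearGroup.diagonal_transvection_induction' (· ∈ tvSub (slRho ι F)) x ?_ ?_
    fun _ _ => mul_mem
  · intro i j hij c hc
    let X : Matrix ι (Fin 2) F := Matrix.of fun k l => (Pi.single (![i, j] l) 1 : ι → F) k
    have h : Xᵀ * X = 1 := by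
      ext k l
      change (Pi.single (![i, j] k) 1 : ι → F) ⬝ᵥ Pi.single (![i, j] l) 1 = _
      fin_cases k <;> fin_cases l <;> simp [hij, hij.symm]
    obtain ⟨s, hs, e⟩ := exists_blk (ρ := slRho ι F) h (fun k l hkl c => ⟨slTv _ _ (by
      have := congrFun (congrFun h l) k
      rw [one_apply_ne hkl.symm, mul_apply] at this
      rw [smul_dotProduct, dotProduct, this, smul_zero]), rfl⟩) (SpecialLinearGroup.diag2 c hc)
    convert hs
    refine Subtype.ext (Eq.trans ?_ e.symm)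
    change _ = 1 + X * ((SpecialLinearGroup.diag2 c hc).1 - 1) * Xᵀ
    rw [SpecialLinearGroup.diag2_coe', SpecialLinearGroup.diag2n_coe]
    ext k l
    simp only [X, Matrix.add_apply, mul_apply, Fin.sum_univ_two, diagonal_apply, one_apply,
      Pi.single_apply, Matrix.sub_apply, of_apply, transpose_apply, cons_val_zero, cons_val_one]
    by_cases h1 : k = l
    · subst h1
      by_cases h2 : k = i
      · subst h2; simp [hij]
      · by_cases h3 : k = j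
        · subst h3; simp [h2]
        · simp [h2, h3]
    · by_cases h2 : k = i
      · subst h2; simp [hij, h1, Ne.symm h1]
      · by_cases h3 : k = j
        · subst h3; simp [h2, h1, Ne.symm h1]
        · simp [h1, h2, h3]
  · intro i j hij c
    refine TvOr1.mem ⟨Pi.single i 1, Pi.single j c, by simp [hij.symm], ?_⟩
    change 1 + single i j c = 1 + _
    congr 1
    ext k l
    simp only [single, vecMulVec_apply, Pi.single_apply, of_apply]
    by_cases h1 : i = k <;> by_cases h2 : j = l <;> simp [h1, h2, Ne.symm, eq_comm]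

theorem sl_iwasawa [Nontrivial ι] (r : ℕ) [CharP F r] {M : Subgroup (SpecialLinearGroup ι F)}
    [M.Normal] {m : SpecialLinearGroup ι F} (hm : m ∈ M) (h : ∀ c : F, slRho ι F m ≠ c • 1)
    (s : SpecialLinearGroup ι F) : s ^ r ∈ M := by
  obtain ⟨a, ha, hp⟩ := exists_not_par h
  refine tvSub_pow_mem slSetup.inj r (a := a) (fun t b f ht => Orb.symm ?_)
    (sl_tvSub (ι := ι) (F := F) ▸ Subgroup.mem_top s)
  by_cases hb : Par a b
  · exact Orb.of_par hb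
  obtain ⟨x, h1, h2⟩ := sl_exists_map2 (ind2_of_not_par ha (rho_mulVec_ne_zero m ha) hp)
    (ind2_of_not_par ha ht.1 hb)
  have := Orb.conj (M := M) ⟨m, hm, Par.refl (slRho ι F m *ᵥ a)⟩ x
  rw [h1] at this
  exact this.trans (Orb.of_par h2)

theorem sl_exists_elt [Fintype F] [Nontrivial ι] {p : ℕ} (hp : p.Prime)
    (hd : p ∣ Fintype.card F - 1) :
    ∃ s : SpecialLinearGroup ι F, s ^ p ^ 2 = 1 ∧ ∀ c : F, slRho ι F s ≠ c • 1 := by
  obtain ⟨i, j, hij⟩ := exists_pair_ne ι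
  let X : Matrix ι (Fin 2) F := Matrix.of fun k l => (Pi.single (![i, j] l) 1 : ι → F) k
  have h : Xᵀ * X = 1 := by
    ext k l
    change (Pi.single (![i, j] k) 1 : ι → F) ⬝ᵥ Pi.single (![i, j] l) 1 = _
    fin_cases k <;> fin_cases l <;> simp [hij, hij.symm]
  exact exists_elt_of_blk slSetup.inj h (fun k l hkl c => ⟨slTv _ _ (by
      have := congrFun (congrFun h l) k
      rw [one_apply_ne hkl.symm, mul_apply] at this
      rw [smul_dotProduct, dotProduct, this, smul_zero]), rfl⟩) hp hd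

end sl

section polar

variable {τ : F ≃+* F} {A : Matrix ι ι F}

local notation "s⟪" u ", " v "⟫" => sf (τ : F →+* F) A u v

theorem Isom.refl_ne (I : Isom ρ τ A) {u v : ι → F} (h : s⟪u, v⟫ ≠ 0) : s⟪v, u⟫ ≠ 0 :=
  fun h' => h (I.refl _ _ h')

theorem exists_two_ne (hA : A.det ≠ 0) {a b : ι → F} (ha : a ≠ 0) (hb : b ≠ 0) :
    ∃ v, s⟪v, a⟫ ≠ 0 ∧ s⟪v, b⟫ ≠ 0 := by
  obtain ⟨u, hu⟩ := exists_sf_one (τ := τ) hA ha
  obtain ⟨v, hv⟩ := exists_sf_one (τ := τ) hA hb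
  by_cases h1 : s⟪u, b⟫ = 0
  · by_cases h2 : s⟪v, a⟫ = 0
    · exact ⟨u + v, by simp [sf_add_left, hu, h2], by simp [sf_add_left, hv, h1]⟩
    · exact ⟨v, h2, by simp [hv]⟩
  · exact ⟨u, by simp [hu], h1⟩

theorem Isom.par_vecMul (I : Isom ρ τ A) {x : H} {a b : ι → F} (hp : Par (ρ x *ᵥ a) b) :
    Par (pf τ A a ᵥ* ρ x⁻¹) (pf τ A b) := by
  have : pf τ A a ᵥ* ρ x⁻¹ = pf τ A (ρ x *ᵥ a) := by
    refine dotProduct_eq _ _ fun v => ?_
    rw [← dotProduct_mulVec, pf_dot, pf_dot, I.perp_iff]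
  rw [this]
  exact hp.pf

theorem Isom.orb_of_not_par (I : Isom ρ τ A)
    (htv : ∀ a, a ≠ 0 → s⟪a, a⟫ = 0 → ∃ t f, IsTv ρ t a f)
    (hadd : ∀ a v, s⟪a, a⟫ = 0 → s⟪v, a⟫ ≠ 0 → ∃ l : F, s⟪v + l • a, v + l • a⟫ = 0)
    (hq : ∀ a b c, s⟪a, a⟫ = 0 → s⟪b, b⟫ = 0 → s⟪c, c⟫ = 0 → s⟪b, a⟫ ≠ 0 → s⟪c, a⟫ ≠ 0 →
      ∃ x, ρ x *ᵥ a = a ∧ Par (ρ x *ᵥ b) c)
    [hM : M.Normal] {m : H} (hm : m ∈ M) {a : ι → F} (ha0 : a ≠ 0) (ha : s⟪a, a⟫ = 0)
    (hp : ¬ Par a (ρ m *ᵥ a)) :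
    ∃ b, b ≠ 0 ∧ s⟪b, b⟫ = 0 ∧ ∀ c, c ≠ 0 → s⟪c, c⟫ = 0 → Orb ρ M c b := by
  obtain ⟨b, b', hb, hb', h1, h2⟩ : ∃ b b', s⟪b, b⟫ = 0 ∧ s⟪b', b'⟫ = 0 ∧ s⟪b', b⟫ ≠ 0 ∧
      Orb ρ M b b' := by
    by_cases h : s⟪ρ m *ᵥ a, a⟫ = 0
    · obtain ⟨t, f, ht⟩ := htv a ha0 ha
      obtain ⟨v, h1, h2⟩ := exists_sf_of_ind2 (τ := τ) I.det
        (ind2_of_not_par ha0 (rho_mulVec_ne_zero m ha0) hp)
      have h1' : s⟪v, a⟫ ≠ 0 := I.refl_ne (by rw [h1]; exact one_ne_zero)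
      obtain ⟨l, hl⟩ := hadd a v ha h1'
      have e1 : s⟪v + l • a, a⟫ ≠ 0 := by rwa [sf_add_left, sf_smul_left, ha, mul_zero, add_zero]
      have e2 : s⟪v + l • a, ρ m *ᵥ a⟫ = 0 := by
        rw [sf_add_left, sf_smul_left, I.refl _ _ h, I.refl _ _ h2, mul_zero, add_zero]
      generalize v + l • a = b at *
      obtain ⟨c, hc, ef⟩ := (I.par_pf ht).symm
      obtain ⟨c', -, ef'⟩ := (I.par_pf (ht.conj m)).symm
      have e3 : ρ (m * t * m⁻¹) *ᵥ b = b := by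
        rw [(ht.conj m).2.2.2, tv_mulVec, ef', smul_dotProduct, pf_dot, e2, smul_zero, zero_smul,
          add_zero]
      have e4 : ρ (t * (m * t * m⁻¹)⁻¹) *ᵥ b = b + (c * s⟪b, a⟫) • a := by
        rw [map_mul, ← mulVec_mulVec]
        conv_lhs => rw [← e3, inv_mulVec_mulVec]
        rw [ht.2.2.2, tv_mulVec, ef, smul_dotProduct, pf_dot, smul_eq_mul]
      refine ⟨b, ρ (t * (m * t * m⁻¹)⁻¹) *ᵥ b, hl, by rw [I.isom, hl], ?_, _, ?_, Par.refl _⟩
      · rw [e4, sf_add_left, hl, zero_add, sf_smul_left]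
        exact mul_ne_zero (mul_ne_zero hc e1) (I.refl_ne e1)
      · rw [show t * (m * t * m⁻¹)⁻¹ = (t * m * t⁻¹) * m⁻¹ by group]
        exact M.mul_mem (hM.conj_mem m hm t) (M.inv_mem hm)
    · exact ⟨a, _, ha, by rw [I.isom, ha], h, m, hm, Par.refl _⟩
  have key : ∀ b b' c, s⟪b, b⟫ = 0 → s⟪b', b'⟫ = 0 → s⟪c, c⟫ = 0 → s⟪b', b⟫ ≠ 0 →
      Orb ρ M b b' → s⟪c, b⟫ ≠ 0 → Orb ρ M b c := fun b b' c h1 h2 h3 h4 h5 h6 => by
    obtain ⟨x, e1, e2⟩ := hq b b' c h1 h2 h3 h4 h6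
    have := h5.conj x
    rw [e1] at this
    exact this.trans (Orb.of_par e2)
  have hb0 : b ≠ 0 := fun h => h1 (by rw [h, sf_zero_right])
  refine ⟨b, hb0, hb, fun c hc0 hc => Orb.symm ?_⟩
  by_cases h : s⟪c, b⟫ = 0
  · obtain ⟨v, h3, h4⟩ := exists_two_ne (τ := τ) I.det hb0 hc0
    obtain ⟨l, hl⟩ := hadd b v hb h3
    have e1 : s⟪v + l • b, b⟫ ≠ 0 := by rwa [sf_add_left, sf_smul_left, hb, mul_zero, add_zero]
    have e2 : s⟪v + l • b, c⟫ ≠ 0 := by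
      rwa [sf_add_left, sf_smul_left, I.refl _ _ h, mul_zero, add_zero]
    have o1 := key b b' _ hb hb' hl h1 h2 e1
    exact o1.trans (key _ b c hl hb hc (I.refl_ne e1) o1.symm (I.refl_ne e2))
  · exact key b b' c hb hb' hc h1 h2 h

end polar

theorem fix_induction {P : H → Prop} (inj : Function.Injective ρ) (h1 : P 1)
    (step : ∀ g, g ≠ 1 → ∃ u v, (P (u * g) → P g) ∧ ρ g *ᵥ v ≠ v ∧ ρ (u * g) *ᵥ v = v ∧
      ∀ w, ρ g *ᵥ w = w → ρ u *ᵥ w = w) (g : H) : P g := by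
  suffices h : ∀ W : Submodule F (ι → F), ∀ g, (∀ w ∈ W, ρ g *ᵥ w = w) → P g from
    h ⊥ g fun w hw => by rw [(Submodule.mem_bot F).1 hw, mulVec_zero]
  intro W
  induction W using WellFoundedGT.induction with
  | ind W ih =>
    intro g hg
    by_cases h : g = 1
    · rwa [h]
    obtain ⟨u, v, h2, h3, h4, h5⟩ := step g h
    refine h2 (ih (W ⊔ F ∙ v) (lt_of_le_of_ne le_sup_left fun e => h3 (hg v ?_)) _ fun w hw => ?_)
    · rw [e]
      exact Submodule.mem_sup_right (Submodule.mem_span_singleton_self v)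
    · obtain ⟨x, hx, y, hy, rfl⟩ := Submodule.mem_sup.1 hw
      obtain ⟨c, rfl⟩ := Submodule.mem_span_singleton.1 hy
      rw [mulVec_add, mulVec_smul, h4, map_mul, ← mulVec_mulVec, hg x hx, h5 x (hg x hx)]

namespace Splike

variable {A : Matrix ι ι F} (U : Splike ρ A)
include U

theorem perp_of_fix {g : H} {w : ι → F} (hw : ρ g *ᵥ w = w) (v : ι → F) :
    bf A w (v - ρ g *ᵥ v) = 0 := by
  rw [sf_sub_right]
  nth_rw 2 [← hw]
  rw [U.isom, sub_self]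

theorem tv_step {g : H} {v : ι → F} (h : bf A (ρ g *ᵥ v) v ≠ 0) :
    ∃ u ∈ tvSub ρ, ρ (u * g) *ᵥ v = v ∧ ∀ w, ρ g *ᵥ w = w → ρ u *ᵥ w = w := by
  obtain ⟨t, ht⟩ := U.exists_tv (v - ρ g *ᵥ v) (bf A (ρ g *ᵥ v) v)⁻¹
  refine ⟨t, TvOr1.mem ⟨_, _, by rw [smul_dotProduct, pb_dot, U.alt, smul_zero], ht⟩, ?_,
    fun w hw => ?_⟩
  · rw [map_mul, ← mulVec_mulVec, ht, tv_mulVec, smul_dotProduct, pb_dot, sf_sub_right, U.alt,
      sub_zero, smul_eq_mul, inv_mul_cancel₀ h, one_smul, add_sub_cancel]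
  · rw [ht, tv_mulVec, smul_dotProduct, pb_dot, U.perp_of_fix hw, smul_zero, zero_smul, add_zero]

theorem tvSub_eq_top : tvSub ρ = ⊤ := by
  refine (Subgroup.eq_top_iff' _).2 (fix_induction U.inj (one_mem _) fun g hg => ?_)
  by_cases h : ∃ v, bf A (ρ g *ᵥ v) v ≠ 0
  · obtain ⟨v, hv⟩ := h
    obtain ⟨u, hu, h1, h2⟩ := U.tv_step hv
    exact ⟨u, v, (mul_mem_cancel_left hu).1, fun e => hv (by rw [e, U.alt]), h1, h2⟩
  push Not at h
  obtain ⟨v, hv⟩ : ∃ v, v - ρ g *ᵥ v ≠ 0 := by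
    by_contra hh
    push Not at hh
    exact hg (U.inj (ext_mulVec fun v => by rw [map_one, one_mulVec, ← sub_eq_zero.1 (hh v)]))
  obtain ⟨t, ht⟩ := U.exists_tv' (v - ρ g *ᵥ v)
  obtain ⟨t', ht'⟩ := U.exists_tv (v - ρ g *ᵥ v) 1
  have hp := fun w hw => U.perp_of_fix (g := g) (w := w) hw v
  generalize v - ρ g *ᵥ v = u at *
  obtain ⟨x, h1, h2⟩ := exists_two_ne (τ := RingEquiv.refl F) U.det hv (rho_mulVec_ne_zero g⁻¹ hv)
  rw [bf_refl] at h1 h2
  rw [← U.isom g, mulVec_inv_mulVec] at h2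
  have e : ∀ w, ρ t' *ᵥ w = w + bf A w u • u := fun w => by
    rw [ht', tv_mulVec, one_smul, pb_dot]
  have h3 : bf A (ρ (t' * g) *ᵥ x) x ≠ 0 := by
    rw [map_mul, ← mulVec_mulVec, e, sf_add_left, h, zero_add, sf_smul_left]
    exact mul_ne_zero h2 fun h' => h1 (U.comm h')
  obtain ⟨y, hy, h4, h5⟩ := U.tv_step h3
  have ht1 : t' ∈ tvSub ρ :=
    TvOr1.mem ⟨_, _, by rw [smul_dotProduct, pb_dot, U.alt, smul_zero], ht'⟩
  have h6 : ∀ w, ρ g *ᵥ w = w → ρ t' *ᵥ w = w := fun w hw => by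
    rw [e, hp w hw, zero_smul, add_zero]
  refine ⟨y * t', x, (mul_mem_cancel_left (mul_mem hy ht1)).1, fun e' => h3 ?_,
    by rwa [mul_assoc], fun w hw => ?_⟩
  · rw [map_mul, ← mulVec_mulVec, e', h6 x e', U.alt]
  · rw [map_mul, ← mulVec_mulVec, h6 w hw, h5 w (by rw [map_mul, ← mulVec_mulVec, hw, h6 w hw])]

theorem exists_map2 {a b c : ι → F} (hb : bf A b a ≠ 0) (hc : bf A c a ≠ 0) :
    ∃ x, ρ x *ᵥ a = a ∧ Par (ρ x *ᵥ b) c := by
  obtain ⟨g, hg, e⟩ := U.exists_rho (a := a) (u := (bf A c a)⁻¹ • c - (bf A b a)⁻¹ • b)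
    (by rw [sf_sub_left, sf_smul_left, sf_smul_left, inv_mul_cancel₀ hb, inv_mul_cancel₀ hc,
      sub_self])
  obtain ⟨t, ht⟩ := U.exists_tv a
    (-(bf A b ((bf A c a)⁻¹ • c - (bf A b a)⁻¹ • b)) * (bf A b a)⁻¹)
  have h1 : ρ t *ᵥ a = a := by
    rw [ht, tv_mulVec, smul_dotProduct, pb_dot, U.alt, smul_zero, zero_smul, add_zero]
  refine ⟨g * t, by rw [map_mul, ← mulVec_mulVec, h1, hg.1], Par.symm ⟨bf A b a * (bf A c a)⁻¹,
    mul_ne_zero hb (inv_ne_zero hc), ?_⟩⟩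
  rw [map_mul, ← mulVec_mulVec, ht, tv_mulVec, smul_dotProduct, pb_dot, smul_eq_mul,
    inv_mul_cancel_right₀ hb, mulVec_add, mulVec_smul, hg.1, e, smul_sub, smul_smul, smul_smul,
    mul_inv_cancel₀ hb]
  module

theorem iwasawa (r : ℕ) [CharP F r] [M.Normal] {m : H} (hm : m ∈ M) (h : ∀ c : F, ρ m ≠ c • 1)
    (s : H) : s ^ r ∈ M := by
  obtain ⟨a, ha, hp⟩ := exists_not_par h
  obtain ⟨b, -, -, hb⟩ := U.toIsom.orb_of_not_par (fun a ha _ => U.exists_isTv ha)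
    (fun a v _ _ => ⟨0, U.alt _⟩) (fun a b c _ _ _ => U.exists_map2) hm ha (U.alt a) hp
  exact tvSub_pow_mem U.inj r (fun t c f ht => hb c ht.1 (U.alt c))
    (U.tvSub_eq_top ▸ Subgroup.mem_top s)

theorem exists_elt [Fintype F] [Nonempty ι] {p : ℕ} (hp : p.Prime) (hd : p ∣ Fintype.card F - 1) :
    ∃ s : H, s ^ p ^ 2 = 1 ∧ ∀ c : F, ρ s ≠ c • 1 := by
  obtain ⟨i⟩ := ‹Nonempty ι›
  obtain ⟨b, hb⟩ := exists_bf_one U.det (a := Pi.single i 1) (by simp)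
  generalize (Pi.single i 1 : ι → F) = a at hb
  have hb' : bf A a b = -1 := by rw [U.alt.swap, hb]
  let X : Matrix ι (Fin 2) F := Matrix.of fun k l => ![a, b] l k
  let Y : Matrix (Fin 2) ι F := Matrix.of ![-pb A b, pb A a]
  have h : Y * X = 1 := by
    ext k l
    fin_cases k <;> fin_cases l
    · change (-pb A b) ⬝ᵥ a = 1
      rw [neg_dotProduct, pb_dot, hb', neg_neg]
    · change (-pb A b) ⬝ᵥ b = 0
      rw [neg_dotProduct, pb_dot, U.alt, neg_zero]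
    · change pb A a ⬝ᵥ a = 0
      rw [pb_dot, U.alt]
    · change pb A a ⬝ᵥ b = 1
      rw [pb_dot, hb]
  refine exists_elt_of_blk U.inj h (fun k l hkl c => ?_) hp hd
  fin_cases k <;> fin_cases l
  · exact absurd rfl hkl
  · exact U.exists_tv a c
  · obtain ⟨t, ht⟩ := U.exists_tv b (-c)
    exact ⟨t, by rw [ht, neg_smul, ← smul_neg]; rfl⟩
  · exact absurd rfl hkl

end Splike

end Cfsg.Agent.H6
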