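import Mathlib
import Cfsg.Agent.H6.AutSU
import Cfsg.Agent.H6.FieldPSL

/-!
The automorphism group of `PSU_n(q)`.
-/

set_option autoImplicit false

namespace Cfsg.Agent.H6

open Matrix FTPG

variable {F : Type*} [Field F] {n q : ℕ}

variable (n F q) in
/-- the embedding of `SU` in `GL` -/
abbrev suJ : SU n F q →* GL (Fin n) F := (slJ (Fin n) F).comp (SU n F q).subtype

theorem suJ_inj : Function.Injective (suJ F n q) := slJ_inj.comp Subtype.val_injective

theorem mem_suJ_range (g : GL (Fin n) F) :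
    g ∈ (suJ F n q).range ↔ (g : Matrix (Fin n) (Fin n) F).det = 1 ∧ g ∈ GU n F q := by
  constructor
  · rintro ⟨s, rfl⟩; exact ⟨s.1.2, s.2⟩
  · rintro ⟨h1, h2⟩; exact ⟨⟨⟨g, h1⟩, h2⟩, Units.ext rfl⟩

theorem suJ_mem_GU (s : SU n F q) : suJ F n q s ∈ GU n F q := s.2

theorem glField_mem_GU (σ : F ≃+* F) {g : GL (Fin n) F} (hg : g ∈ GU n F q) :
    glField (Fin n) F σ g ∈ GU n F q := by
  intro u v
  have e : ∀ u : Fin n → F, u = (σ : F →+* F) ∘ (σ.symm ∘ u) := fun u => by funext i; simp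
  have e2 : ∀ u v : Fin n → F, hermForm n F q ((σ : F →+* F) ∘ u) ((σ : F →+* F) ∘ v) =
      σ (hermForm n F q u v) := fun u v => by simp [hermForm]
  change hermForm n F q ((g : Matrix (Fin n) (Fin n) F).map (σ : F →+* F) *ᵥ u)
    ((g : Matrix (Fin n) (Fin n) F).map (σ : F →+* F) *ᵥ v) = _
  rw [e u, e v, ← mulVec_comp_map, ← mulVec_comp_map, e2, e2]
  exact congrArg σ (hg _ _)

theorem mem_GU_iff_glField (σ : F ≃+* F) (g : GL (Fin n) F) :
    g ∈ GU n F q ↔ glField (Fin n) F σ g ∈ GU n F q :=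
  ⟨glField_mem_GU σ, fun h => by
    have := glField_mem_GU σ⁻¹ h
    rwa [map_inv, MulAut.inv_apply_self] at this⟩

theorem field_mem_stab_su (σ : F ≃+* F) : glField (Fin n) F σ ∈ stabAut (suJ F n q) := fun y => by
  rw [mem_suJ_range, mem_suJ_range, det_glField, EmbeddingLike.map_eq_one_iff, ← mem_GU_iff_glField]

theorem gu_normalizes (g : GL (Fin n) F) (hg : g ∈ GU n F q) (s : SU n F q) :
    g * suJ F n q s * g⁻¹ ∈ (suJ F n q).range := by
  rw [mem_suJ_range]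
  exact ⟨(mem_slJ_range _).1 ((conj_mem_stab_sl g _).1 ⟨s, rfl⟩),
    mul_mem (mul_mem hg (suJ_mem_GU s)) (inv_mem hg)⟩

variable (n F q) in
/-- inner-diagonal automorphisms of `PSU` -/
noncomputable def suD : GU n F q →* MulAut (PSU n F q) :=
  diagAut (suJ F n q) suJ_inj (GU n F q) gu_normalizes

variable (n F q) in
/-- field automorphisms of `PSU` -/
noncomputable def suΦ : (F ≃+* F) →* MulAut (PSU n F q) := gΦ (suJ F n q) suJ_inj field_mem_stab_su

variable (n F q) in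
/-- field automorphisms of `GU` -/
def guField : (F ≃+* F) →* MulAut (GU n F q) := nField (GU n F q) mem_GU_iff_glField

@[simp] theorem coe_guField (σ : F ≃+* F) (g : GU n F q) :
    ((guField F n q σ g : GU n F q) : GL (Fin n) F) = glField (Fin n) F σ g := rfl

theorem suΦ_conj (σ : F ≃+* F) (g : GU n F q) :
    suΦ F n q σ * suD F n q g * (suΦ F n q σ)⁻¹ = suD F n q (guField F n q σ g) :=
  gΦ_conj _ _ _ _ _ σ g

theorem isInnerDiagonalAutPSU_iff (β : MulAut (PSU n F q)) :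
    IsInnerDiagonalAutPSU β ↔ ∃ g, β = suD F n q g :=
  ⟨fun ⟨g, hg, h⟩ => ⟨⟨g, hg⟩, (eq_gD_iff _ _ _ _ β).2 h⟩,
    fun ⟨g, h⟩ => ⟨g, g.2, (eq_gD_iff _ _ _ _ β).1 h⟩⟩

theorem isFieldAutPSUOf_iff (σ : F ≃+* F) (β : MulAut (PSU n F q)) :
    IsFieldAutPSUOf σ β ↔ β = suΦ F n q σ := (eq_gΦ_iff (suJ F n q) suJ_inj field_mem_stab_su σ β).symm

theorem isInducedBySemilinearPSU_iff (g : GU n F q) (σ : F ≃+* F) (β : MulAut (PSU n F q)) :
    IsInducedBySemilinearPSU g σ β ↔ β = suD F n q g * suΦ F n q σ :=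
  (eq_gDΦ_iff (suJ F n q) suJ_inj field_mem_stab_su gu_normalizes g σ β).symm

theorem inndiagPSU_eq : inndiagPSU n F q = (suD F n q).range :=
  autSubgroupOf_eq_range _ _ isInnerDiagonalAutPSU_iff

variable (F q) in
/-- the group of elements of norm one -/
abbrev normOne : Subgroup Fˣ := (powMonoidHom (q + 1) : Fˣ →* Fˣ).ker

theorem card_normOne [Fintype F] (hF : Fintype.card F = q ^ 2) : Nat.card (normOne F q) = q + 1 := by
  classical
  rw [IsCyclic.card_powMonoidHom_ker, Nat.card_eq_fintype_card, Fintype.card_units, hF]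
  have : q ^ 2 - 1 = (q + 1) * (q - 1) := by rw [← Nat.sq_sub_sq, one_pow]
  rw [this]
  exact Nat.gcd_eq_right (Nat.dvd_mul_right _ _)

variable {τ : F ≃+* F}

/-- the determinant on `GU` -/
def guDet (n : ℕ) (hτ : ∀ x, τ x = x ^ q) : GU n F q →* normOne F q :=
  ((GeneralLinearGroup.det : GL (Fin n) F →* Fˣ).comp (GU n F q).subtype).codRestrict _
    fun g => det_pow_of_mem_GU hτ g.2

theorem coe_guDet (hτ : ∀ x, τ x = x ^ q) (g : GU n F q) :
    ((guDet n hτ g : normOne F q) : Fˣ) = GeneralLinearGroup.det (g : GL (Fin n) F) := rfl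

theorem guDet_surj (hτ : ∀ x, τ x = x ^ q) [NeZero n] : Function.Surjective (guDet n hτ) := by
  intro u
  obtain ⟨g, hg, e⟩ := exists_GU_det (n := n) hτ u.2
  exact ⟨⟨g, hg⟩, Subtype.ext e⟩

theorem inn_psu_eq (hτ : ∀ x, τ x = x ^ q) :
    Inn (PSU n F q) = (guDet n hτ).ker.map (suD F n q) :=
  inn_eq_map suJ_inj gu_normalizes _ (fun g => by
    rw [mem_suJ_range, MonoidHom.mem_ker, Subtype.ext_iff, Units.ext_iff]
    exact ⟨fun h => ⟨h, g.2⟩, fun h => h.1⟩) suJ_mem_GU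

theorem hermForm_eq_hf (hτ : ∀ x, τ x = x ^ q) (u v : Fin n → F) :
    hermForm n F q u v = hf τ u v := hermForm_eq_sf hτ u v

theorem hf_of_mem_GU (hτ : ∀ x, τ x = x ^ q) {g : GL (Fin n) F} (hg : g ∈ GU n F q)
    (u v : Fin n → F) : hf τ ((g : Matrix (Fin n) (Fin n) F) *ᵥ u)
      ((g : Matrix (Fin n) (Fin n) F) *ᵥ v) = hf τ u v := by
  rw [← hermForm_eq_hf hτ, ← hermForm_eq_hf hτ]; exact hg u v

theorem suLike (hσ : orderOf τ = 2) (hτ : ∀ x, τ x = x ^ q) : SUlike τ (jRho (suJ F n q)) where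
  ord := hσ
  inj := Units.val_injective.comp suJ_inj
  isom g := hf_of_mem_GU hτ (suJ_mem_GU g)
  surj M h1 h2 := ⟨⟨⟨M, h1⟩, fun u v => by
    rw [hermForm_eq_hf hτ, hermForm_eq_hf hτ]; exact h2 u v⟩, rfl⟩

theorem scalar_mem_GU_iff (hτ : ∀ x, τ x = x ^ q) [NeZero n] (u : Fˣ) :
    GeneralLinearGroup.scalar (Fin n) u ∈ GU n F q ↔ u ^ (q + 1) = 1 := by
  rw [mem_GU_iff hτ, coe_gl_scalar, Units.ext_iff, Units.val_pow_eq_pow_val, pow_succ', ← hτ,
    smul_one_eq_diagonal, diagonal_transpose, diagonal_map (map_zero τ), diagonal_mul_diagonal,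
    ← diagonal_one, diagonal_eq_diagonal_iff]
  exact ⟨fun h => h 0, fun h _ => h⟩

theorem exists_GU_of_gram [Finite F] (hσ : orderOf τ = 2) (hτ : ∀ x, τ x = x ^ q) [NeZero n]
    {g : GL (Fin n) F} {c : F} (h : (g : Matrix (Fin n) (Fin n) F)ᵀ *
      (g : Matrix (Fin n) (Fin n) F).map τ = c • 1) :
    ∃ v : Fˣ, GeneralLinearGroup.scalar (Fin n) v * g ∈ GU n F q := by
  have hc : c ≠ 0 := by
    rintro rfl
    have := congrArg det h
    rw [det_mul, det_transpose, ← coe_glField, zero_smul, det_zero] at this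
    exact mul_ne_zero g.det_ne_zero (GeneralLinearGroup.det_ne_zero _) this
  refine exists_GU_of_simil hσ hτ (u := Units.mk0 c hc) ?_
  have e : glT g * glField (Fin n) F τ g = GeneralLinearGroup.scalar (Fin n) (Units.mk0 c hc) :=
    Units.ext (by rw [coe_gl_scalar]; exact h)
  have e2 := congrArg glT e
  have e3 : glT (GeneralLinearGroup.scalar (Fin n) (Units.mk0 c hc)) =
      GeneralLinearGroup.scalar (Fin n) (Units.mk0 c hc) := Units.ext (by simp)
  rw [glT_mul, glT_glT, e3] at e2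
  rw [glFieldIT_apply, eq_mul_inv_of_mul_eq e2, ← mul_assoc,
    Subgroup.mem_center_iff.1 (scalar_mem_center _) g, mul_inv_cancel_right]

variable [Finite F]

theorem psu_aut (hσ : orderOf τ = 2) (hτ : ∀ x, τ x = x ^ q) (hn : 3 ≤ n)
    (α : MulAut (PSU n F q)) : ∃ g σ, α = suD F n q g * suΦ F n q σ := by
  have : NeZero n := ⟨by omega⟩
  have h3 : 3 ≤ Fintype.card (Fin n) := by simpa using hn
  have U := suLike (n := n) hσ hτ
  obtain ⟨g, σ, c, h1, h2⟩ := U.exists_simil h3 α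
  rw [Matrix.mul_one] at h1
  obtain ⟨v, hv⟩ := exists_GU_of_gram hσ hτ h1
  refine ⟨⟨_, hv⟩, σ, eq_gDΦ_of_total _ _ _ _ (U.setup (by omega)) _ ?_
    (fun _ => U.exists_total' h3 α) fun a b h => (h2 a b h).trans ⟨v, v.ne_zero, ?_⟩⟩
  · rintro a b x x' (h | h) e
    exacts [Or.inl (h.equiv e), Or.inr (U.nr_equiv h e)]
  · rw [coe_scalar_mul, smul_mulVec]

theorem par_of_suDΦ_eq_one (hσ : orderOf τ = 2) (hτ : ∀ x, τ x = x ^ q) (hn : 2 ≤ n)
    {g : GU n F q} {σ : F ≃+* F} (h : suD F n q g * suΦ F n q σ = 1) {a : Fin n → F}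
    (ha0 : a ≠ 0) (ha : hf τ a a = 0) :
    Par a (((g : GL (Fin n) F) : Matrix (Fin n) (Fin n) F) *ᵥ (σ ∘ a)) := by
  have U := suLike (n := n) hσ hτ
  obtain ⟨t, f, ht⟩ := U.exists_isTv' ha0 ha
  exact par_of_gDΦ_eq_one _ _ _ _ (U.setup (by simpa using hn)) h ht

theorem suD_eq_one_iff (hσ : orderOf τ = 2) (hτ : ∀ x, τ x = x ^ q) (hn : 2 ≤ n) (g : GU n F q) :
    suD F n q g = 1 ↔ (g : GL (Fin n) F) ∈ Subgroup.center (GL (Fin n) F) := by
  refine ⟨fun h => (mem_center_gl_iff _).2 (scalar_of_fix_iso hσ (by simpa using hn) fun a ha => ?_),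
    gD_eq_one_of_scalar _ _ _⟩
  by_cases ha0 : a = 0
  · exact ⟨1, by simp [ha0]⟩
  obtain ⟨c, -, hc⟩ := par_of_suDΦ_eq_one hσ hτ hn (g := g) (σ := 1) (by rw [h, map_one, one_mul])
    ha0 ha
  exact ⟨c, hc⟩

theorem eq_one_of_suΦ_mem (hσ : orderOf τ = 2) (hτ : ∀ x, τ x = x ^ q) (hn : 3 ≤ n)
    {σ : F ≃+* F} (h : suΦ F n q σ ∈ (suD F n q).range) : σ = 1 := by
  obtain ⟨g, hg⟩ := h
  have e : suD F n q g⁻¹ * suΦ F n q σ = 1 := by rw [map_inv, hg, inv_mul_cancel]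
  refine eq_one_of_par_semilinear (ι := Fin n) (by simp; omega)
    (g := ((g⁻¹ : GU n F q) : GL (Fin n) F)) fun a ha0 => ?_
  by_cases ha : hf τ a a = 0
  · exact par_of_suDΦ_eq_one hσ hτ (by omega) e ha0 ha
  obtain ⟨c, hc⟩ := smul_of_iso_perp hσ (by simpa using hn) ha
    (y := (((g⁻¹ : GU n F q) : GL (Fin n) F) : Matrix (Fin n) (Fin n) F) *ᵥ (σ ∘ a))
    fun u hu hua => by
      by_cases hu0 : u = 0
      · rw [hu0, hf_zero_left]
      refine (par_of_suDΦ_eq_one hσ hτ (by omega) e hu0 hu).symm.hf_left ?_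
      rw [hf_of_mem_GU hτ (g⁻¹).2, hf, sf_comp (Matrix.map_one _ (map_zero _) (map_one _))
        (ringAut_comm_apply σ τ), ← hf_def, hua, map_zero]
  exact par_of_smul (gl_mulVec_ne_zero _ (comp_ne_zero (σ : F →+* F) ha0)) hc

theorem suΦ_injective (hσ : orderOf τ = 2) (hτ : ∀ x, τ x = x ^ q) (hn : 3 ≤ n) :
    Function.Injective (suΦ F n q) :=
  (injective_iff_map_eq_one _).2 fun _ h => eq_one_of_suΦ_mem hσ hτ hn (h ▸ one_mem _)

theorem suD_range_normal (hσ : orderOf τ = 2) (hτ : ∀ x, τ x = x ^ q) (hn : 3 ≤ n) :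
    (suD F n q).range.Normal :=
  normal_range_of_gen _ _ (psu_aut hσ hτ hn) fun σ g => ⟨_, (suΦ_conj σ g).symm⟩

theorem suD_ker_map (hσ : orderOf τ = 2) (hτ : ∀ x, τ x = x ^ q) (hn : 2 ≤ n) :
    (suD F n q).ker.map (guDet n hτ) = (powMonoidHom n : normOne F q →* normOne F q).range := by
  have : NeZero n := ⟨by omega⟩
  ext u
  constructor
  · rintro ⟨g, hg, rfl⟩
    obtain ⟨v, hv⟩ := (mem_center_gl_iff' _).1 ((suD_eq_one_iff hσ hτ hn g).1 hg)
    refine ⟨⟨v, (scalar_mem_GU_iff (n := n) hτ v).1 (hv ▸ g.2)⟩, Subtype.ext ?_⟩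
    change v ^ n = GeneralLinearGroup.det (g : GL (Fin n) F)
    rw [hv, GeneralLinearGroup.det_scalar, Fintype.card_fin]
  · rintro ⟨v, rfl⟩
    refine ⟨⟨_, (scalar_mem_GU_iff hτ v.1).2 v.2⟩,
      (suD_eq_one_iff hσ hτ hn _).2 (scalar_mem_center _), Subtype.ext ?_⟩
    rw [coe_guDet, GeneralLinearGroup.det_scalar, Fintype.card_fin]; rfl

theorem suD_eq_of_scalar (hσ : orderOf τ = 2) (hτ : ∀ x, τ x = x ^ q) (hn : 2 ≤ n)
    {g h : GU n F q} {u : Fˣ}
    (e : (g : GL (Fin n) F) = GeneralLinearGroup.scalar (Fin n) u * h) :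
    suD F n q g = suD F n q h := by
  rw [← mul_inv_eq_one, ← map_inv, ← map_mul, suD_eq_one_iff hσ hτ hn, Subgroup.coe_mul,
    Subgroup.coe_inv, e, mul_inv_cancel_right]
  exact scalar_mem_center u

section sub
variable {F₀ : Type*} [Field F₀] {q₀ : ℕ} {τ₀ : F₀ ≃+* F₀} {e : F₀ →+* F} {σ : F ≃+* F}

omit [Finite F] in
theorem map_gram (hc : ∀ y, e (τ₀ y) = τ (e y)) (y : Matrix (Fin n) (Fin n) F₀) :
    (yᵀ * y.map τ₀).map e = (y.map e)ᵀ * (y.map e).map τ := by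
  rw [Matrix.map_mul, transpose_map]
  congr 1
  ext i j; exact hc _

omit [Finite F] in
theorem map_mem_GU_iff (hτ : ∀ x, τ x = x ^ q) (hτ₀ : ∀ x, τ₀ x = x ^ q₀)
    (hc : ∀ y, e (τ₀ y) = τ (e y)) (y : GL (Fin n) F₀) :
    GeneralLinearGroup.map e y ∈ GU n F q ↔ y ∈ GU n F₀ q₀ := by
  rw [mem_GU_iff hτ, mem_GU_iff hτ₀]
  change (((y : Matrix (Fin n) (Fin n) F₀).map e)ᵀ * ((y : Matrix (Fin n) (Fin n) F₀).map e).map τ
    = 1) ↔ _
  rw [← map_gram hc, ← Matrix.map_one e (map_zero e) (map_one e)]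
  exact (Matrix.map_injective e.injective).eq_iff

/-- the subfield subgroup -/
def guMap (n : ℕ) (hτ : ∀ x, τ x = x ^ q) (hτ₀ : ∀ x, τ₀ x = x ^ q₀)
    (hc : ∀ y, e (τ₀ y) = τ (e y)) : GU n F₀ q₀ →* GU n F q :=
  ((GeneralLinearGroup.map e).comp (GU n F₀ q₀).subtype).codRestrict _
    fun y => (map_mem_GU_iff hτ hτ₀ hc _).2 y.2

omit [Finite F] in
theorem coe_guMap (hτ : ∀ x, τ x = x ^ q) (hτ₀ : ∀ x, τ₀ x = x ^ q₀)
    (hc : ∀ y, e (τ₀ y) = τ (e y)) (y : GU n F₀ q₀) :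
    ((guMap n hτ hτ₀ hc y : GU n F q) : GL (Fin n) F) = GeneralLinearGroup.map e y := rfl

omit [Finite F] in
theorem guField_guMap (hτ : ∀ x, τ x = x ^ q) (hτ₀ : ∀ x, τ₀ x = x ^ q₀)
    (hc : ∀ y, e (τ₀ y) = τ (e y)) (he : ∀ x, σ x = x ↔ ∃ y, e y = x) (y : GU n F₀ q₀) :
    guField F n q σ (guMap n hτ hτ₀ hc y) = guMap n hτ hτ₀ hc y :=
  Subtype.ext (glField_map he _)

theorem su_surj_field [Finite F₀] (hσ : orderOf τ = 2) (hτ : ∀ x, τ x = x ^ q)
    (hσ₀ : orderOf τ₀ = 2) (hτ₀ : ∀ x, τ₀ x = x ^ q₀) (hc : ∀ y, e (τ₀ y) = τ (e y))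
    (he : ∀ x, σ x = x ↔ ∃ y, e y = x) (hn : 2 ≤ n) (h : GU n F q)
    (hh : suD F n q (h * (guField F n q σ h)⁻¹) = 1) :
    ∃ y, suD F n q h = suD F n q (guMap n hτ hτ₀ hc y) := by
  have : NeZero n := ⟨by omega⟩
  obtain ⟨u, hu⟩ := (mem_center_gl_iff' _).1 ((suD_eq_one_iff hσ hτ hn _).1 hh)
  obtain ⟨v, hv⟩ := exists_fixed_smul (mul_inv_eq_iff_eq_mul.1 hu)
  obtain ⟨k, hk⟩ := exists_map_of_fixed he hv
  have hk' : (k : Matrix (Fin n) (Fin n) F₀).map e =
      (v : F) • ((h : GL (Fin n) F) : Matrix (Fin n) (Fin n) F) := by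
    rw [← coe_scalar_mul, ← hk]; rfl
  have h1 : ((k : Matrix (Fin n) (Fin n) F₀)ᵀ * (k : Matrix (Fin n) (Fin n) F₀).map τ₀).map e =
      ((v : F) * τ v) • 1 := by
    rw [map_gram hc, hk', transpose_smul, Matrix.map_smul' _ _ _ (map_mul τ), smul_mul_assoc,
      mul_smul_comm, smul_smul, (mem_GU_iff hτ _).1 h.2]
  obtain ⟨w, hw⟩ := exists_GU_of_gram hσ₀ hτ₀ (g := k)
    (c := ((k : Matrix (Fin n) (Fin n) F₀)ᵀ * (k : Matrix (Fin n) (Fin n) F₀).map τ₀) 0 0) (by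
      apply Matrix.map_injective e.injective
      have h2 := congrFun (congrFun h1 0) 0
      simp only [map_apply, Matrix.smul_apply, one_apply_eq, smul_eq_mul, mul_one] at h2
      simp only
      rw [h1, Matrix.map_smul' _ _ _ (map_mul e), Matrix.map_one _ (map_zero e) (map_one e), h2])
  refine ⟨⟨_, hw⟩, (suD_eq_of_scalar hσ hτ hn (u := Units.map e w * v) ?_).symm⟩
  rw [coe_guMap, map_mul, hk, GeneralLinearGroup.map_scalar, map_mul, mul_assoc]

theorem su_lang_field [Finite F₀] (hσ : orderOf τ = 2) (hτ : ∀ x, τ x = x ^ q)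
    (hσ₀ : orderOf τ₀ = 2) (hc : ∀ y, e (τ₀ y) = τ (e y))
    (he : ∀ x, σ x = x ↔ ∃ y, e y = x) (hn : 2 ≤ n) {r : ℕ} (hr : orderOf σ = r) (hodd : Odd r)
    (g : GU n F q) (hg : suD F n q (tnrm (guField F n q σ) r g) = 1) :
    ∃ h, suD F n q g = suD F n q (h * (guField F n q σ h)⁻¹) := by
  have : NeZero n := ⟨by omega⟩
  have et : ∀ r, ((tnrm (guField F n q σ) r g : GU n F q) : GL (Fin n) F) =
      tnrm (glField (Fin n) F σ) r g := fun r => by
    induction r with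
    | zero => rfl
    | succ r ih => rw [tnrm_succ, tnrm_succ, Subgroup.coe_mul, coe_guField, ih]
  rw [suD_eq_one_iff hσ hτ hn, et] at hg
  obtain ⟨u, k, hk⟩ := lang_gl_field hr hg
  set G : GL (Fin n) F := glT k * glField (Fin n) F τ k with hG
  have hg1 : glT (g : GL (Fin n) F) * glField (Fin n) F τ g = 1 := Units.ext ((mem_GU_iff hτ _).1 g.2)
  have comm : ∀ k, glField (Fin n) F σ (glField (Fin n) F τ k) =
      glField (Fin n) F τ (glField (Fin n) F σ k) := fun k => by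
    rw [← MulAut.mul_apply, ← map_mul, ringAut_comm, map_mul, MulAut.mul_apply]
  have e1 : (G : Matrix (Fin n) (Fin n) F) = ((u : F) * τ u) • (G : Matrix (Fin n) (Fin n) F).map σ := by
    have hk' : k = GeneralLinearGroup.scalar (Fin n) u * (g * glField (Fin n) F σ k) := by
      rw [← mul_assoc, hk]; group
    have : glField (Fin n) F σ G =
        glT ((g : GL (Fin n) F) * glField (Fin n) F σ k) *
          glField (Fin n) F τ ((g : GL (Fin n) F) * glField (Fin n) F σ k) := by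
      rw [hG, map_mul, glField_glT, comm, glT_mul, map_mul, mul_assoc, ← mul_assoc (glT (g : GL (Fin n) F)), hg1,
        one_mul]
    rw [← coe_glField, this, hG]
    conv_lhs => rw [hk']
    rw [Units.val_mul, coe_glT, coe_glField, coe_scalar_mul, transpose_smul,
      Matrix.map_smul' _ _ _ (map_mul τ), smul_mul_assoc, mul_smul_comm, smul_smul]
    rfl
  have hherm : ((G : Matrix (Fin n) (Fin n) F).map τ)ᵀ = G := by
    rw [hG, Units.val_mul, coe_glT, coe_glField, Matrix.map_mul, transpose_mul, ← transpose_map,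
      transpose_map (M := (k : Matrix (Fin n) (Fin n) F)), transpose_transpose]
    congr 1
    ext i j; exact sq_of_orderOf_two hσ _
  obtain ⟨d, hd0, hd1, hd2⟩ : ∃ d : F, d ≠ 0 ∧ τ d = d ∧ (u : F) * τ u * σ d = d := by
    obtain ⟨i, j, hij⟩ := exists_entry_ne_zero G
    set l := (G : Matrix (Fin n) (Fin n) F) i j with hl
    have h1 : (u : F) * τ u * σ l = l := (congrFun (congrFun e1 i) j).symm
    by_cases h2 : l + τ l = 0
    · have h3 : τ l = - l := by linear_combination h2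
      refine ⟨l * nrm σ r l, mul_ne_zero hij (nrm_ne_zero _ _ hij), ?_, ?_⟩
      · have : τ (nrm σ r l) = - nrm σ r l := by
          rw [nrm, map_prod]
          simp only [ringAut_comm_apply τ, h3, map_neg]
          rw [Finset.prod_neg, Finset.card_range, hodd.neg_one_pow, neg_one_mul]
        rw [map_mul, h3, this]; ring
      · rw [map_mul, sigma_nrm (hr ▸ pow_orderOf_eq_one σ), ← mul_assoc, h1]
    · refine ⟨_, h2, by rw [map_add, sq_of_orderOf_two hσ, add_comm], ?_⟩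
      have h3 := congrArg τ h1
      rw [map_mul, map_mul, sq_of_orderOf_two hσ, ← ringAut_comm_apply σ τ] at h3
      rw [map_add]
      linear_combination h1 + h3
  obtain ⟨G₀, hG₀⟩ := exists_map_of_fixed he
    (g := GeneralLinearGroup.scalar (Fin n) (Units.mk0 d hd0)⁻¹ * G) (Units.ext (by
      rw [coe_glField, coe_scalar_mul, Matrix.map_smul' _ _ _ (map_mul σ)]
      conv_rhs => rw [e1, smul_smul]
      congr 1
      have : σ d ≠ 0 := (_root_.map_ne_zero σ).2 hd0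
      simp only [Units.val_inv_eq_inv_val, Units.val_mk0, map_inv₀]
      field_simp
      linear_combination -hd2))
  have hG₀' : (G₀ : Matrix (Fin n) (Fin n) F₀).map e = d⁻¹ • (G : Matrix (Fin n) (Fin n) F) := by
    have := congrArg Units.val hG₀
    rwa [coe_scalar_mul, Units.val_inv_eq_inv_val] at this
  obtain ⟨m, hm⟩ := exists_herm_basis hσ₀ (A := (G₀ : Matrix (Fin n) (Fin n) F₀)) (by
    apply Matrix.map_injective e.injective
    simp only
    have : ((G₀ : Matrix (Fin n) (Fin n) F₀).map (τ₀ : F₀ →+* F₀)).map e =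
        ((G₀ : Matrix (Fin n) (Fin n) F₀).map e).map τ := by ext i j; exact hc _
    rw [transpose_map, this, hG₀', Matrix.map_smul' _ _ _ (map_mul τ), transpose_smul, hherm,
      map_inv₀, hd1]) G₀.det_ne_zero
  obtain ⟨w, hw⟩ := exists_GU_of_gram hσ hτ (g := k * GeneralLinearGroup.map e m) (c := d) (by
    have h1 := congrArg (·.map e) hm
    have : ((m : Matrix (Fin n) (Fin n) F₀).map τ₀).map e =
        ((m : Matrix (Fin n) (Fin n) F₀).map e).map τ := by ext i j; exact hc _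
    simp only [Matrix.map_mul, hG₀', this, transpose_map,
      Matrix.map_one _ (map_zero e) (map_one e)] at h1
    rw [← h1, hG, mul_smul_comm, smul_mul_assoc, smul_smul, mul_inv_cancel₀ hd0, one_smul,
      Units.val_mul, Units.val_mul, transpose_mul, Matrix.map_mul]
    simp only [Matrix.mul_assoc]
    rfl)
  refine ⟨⟨_, hw⟩, (suD_eq_of_scalar hσ hτ hn
    (u := w * (Units.map (σ : F →* F) w)⁻¹ * u) ?_).symm⟩
  rw [Subgroup.coe_mul, Subgroup.coe_inv, coe_guField, map_mul, map_mul, glField_map he,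
    glField_scalar, map_mul, map_mul, map_inv, mul_assoc _ _ (g : GL (Fin n) F), hk]
  have := Subgroup.mem_center_iff.1
    (inv_mem (scalar_mem_center (ι := Fin n) (Units.map (σ : F →* F) w))) (k * (glField (Fin n) F σ k)⁻¹)
  simp only [_root_.mul_inv_rev, mul_assoc] at this ⊢
  rw [← this, mul_inv_cancel_left]

theorem guDet_guMap_range (hτ : ∀ x, τ x = x ^ q) (hτ₀ : ∀ x, τ₀ x = x ^ q₀)
    (hc : ∀ y, e (τ₀ y) = τ (e y)) (he : ∀ x, σ x = x ↔ ∃ y, e y = x) [NeZero n]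
    (hcard : Nat.card (fixF σ) = q₀ ^ 2) (u : normOne F q) :
    u ∈ ((guDet n hτ).comp (guMap n hτ hτ₀ hc)).range ↔ u ^ (q₀ + 1) = 1 := by
  constructor
  · rintro ⟨y, rfl⟩
    have := congrArg (fun x : F₀ˣ => e x) (det_pow_of_mem_GU hτ₀ y.2)
    simp only [Units.val_pow_eq_pow_val, map_pow, ← det_gl_map, Units.val_one, map_one] at this
    exact Subtype.ext (Units.ext this)
  · intro hu
    have hu' : (u : Fˣ) ^ (q₀ + 1) = 1 := congrArg Subtype.val hu
    obtain ⟨y, hy⟩ := (he _).1 ((units_fixed_iff σ u).2 (by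
      rw [hcard, ← one_pow 2, Nat.sq_sub_sq, pow_mul, hu', one_pow]))
    have y0 : y ≠ 0 := fun h => (u : Fˣ).ne_zero (by rw [← hy, h, map_zero])
    obtain ⟨g, hg, h⟩ := exists_GU_det (n := n) hτ₀ (u := Units.mk0 y y0) (Units.ext (e.injective (by
      rw [Units.val_pow_eq_pow_val, map_pow, Units.val_mk0, hy, ← Units.val_pow_eq_pow_val, hu']
      simp)))
    exact ⟨⟨g, hg⟩, Subtype.ext (Units.ext (by
      rw [MonoidHom.comp_apply, coe_guDet, coe_guMap, det_gl_map, h, ← hy]; rfl))⟩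

omit [Finite F] in
theorem pow_pow_odd {y : F} {q₀ r : ℕ} (h : y ^ q₀ ^ 2 = y) (hr : Odd r) : y ^ q₀ ^ r = y ^ q₀ := by
  obtain ⟨k, rfl⟩ := hr
  induction k with
  | zero => simp
  | succ k ih => rw [show 2 * (k + 1) + 1 = 2 + (2 * k + 1) by ring, pow_add, pow_mul y, h, ih]

omit [Finite F] in
theorem exists_subfield_data [Fintype F] {p f r : ℕ} (hp : p.Prime) (hq : q = p ^ f)
    (hF : Fintype.card F = q ^ 2) (hτ : ∀ x, τ x = x ^ q) (hr : orderOf σ = r) (hodd : Odd r) :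
    r ∣ f ∧ Nat.card (fixF σ) = (p ^ (f / r)) ^ 2 ∧
      ∀ (F₀ : Type*) [Field F₀] [Fintype F₀], Fintype.card F₀ = (p ^ (f / r)) ^ 2 →
      ∃ (e : F₀ →+* F) (τ₀ : F₀ ≃+* F₀), (∀ x, σ x = x ↔ ∃ y, e y = x) ∧ orderOf τ₀ = 2 ∧
        (∀ x, τ₀ x = x ^ p ^ (f / r)) ∧ ∀ y, e (τ₀ y) = τ (e y) := by
  obtain ⟨h1, h2⟩ := card_fixF hp (f := f * 2) (by rw [hF, hq, pow_mul]) σ hr
  have h3 : r ∣ f := (Nat.coprime_two_right.2 hodd).dvd_of_dvd_mul_right h1
  have h4 : Nat.card (fixF σ) = (p ^ (f / r)) ^ 2 := by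
    rw [h2, ← pow_mul, Nat.div_mul_right_comm h3]
  refine ⟨h3, h4, fun F₀ _ _ h5 => ?_⟩
  obtain ⟨e, he⟩ := exists_emb_fixF σ F₀ (h5.trans h4.symm)
  obtain ⟨τ₀, h6, h7⟩ := exists_conj_aut h5
  refine ⟨e, τ₀, he, h6, h7, fun y => ?_⟩
  rw [h7, hτ, hq, map_pow]
  conv_rhs => rw [← Nat.div_mul_cancel h3, pow_mul]
  rw [pow_pow_odd (by rw [← map_pow, ← h5, FiniteField.pow_card]) hodd]

end sub

end Cfsg.Agent.H6
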