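import Mathlib
import Cfsg.Agent.H6.Iwa
import Cfsg.Agent.H6.PSUAut

/-!
Normal subgroups of unitary groups.
-/

set_option autoImplicit false

namespace Cfsg.Agent.H6

open Matrix FTPG

variable {ι : Type*} [Fintype ι] [DecidableEq ι] {F : Type*} [Field F] {τ : F ≃+* F}
  {H : Type*} [Group H] {ρ : H →* Matrix ι ι F}

variable (τ ρ) in
/-- the subgroup generated by the unipotent radicals of the stabilizers of isotropic points -/
def uSub : Subgroup H := ⨆ a : {a : ι → F // a ≠ 0 ∧ hf τ a a = 0}, flagQ ρ a.1 (pf τ 1 a.1)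

theorem mem_uSub {a : ι → F} (ha0 : a ≠ 0) (ha : hf τ a a = 0) {g : H}
    (hg : g ∈ flagQ ρ a (pf τ 1 a)) : g ∈ uSub τ ρ :=
  Subgroup.mem_iSup_of_mem (⟨a, ha0, ha⟩ : {a : ι → F // a ≠ 0 ∧ hf τ a a = 0}) hg

theorem uSub_normal (I : Isom ρ τ 1) : (uSub τ ρ).Normal := ⟨fun n hn g => by
  refine Subgroup.iSup_induction _ (C := fun n => g * n * g⁻¹ ∈ uSub τ ρ) hn ?_ (by simp) ?_
  · rintro ⟨a, ha0, ha⟩ x hx
    exact mem_uSub (rho_mulVec_ne_zero g ha0) ((I.isom g a a).trans ha)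
      (conj_mem_flagQ (Par.refl _) (I.par_vecMul (Par.refl _)) hx)
  · intro x y hx hy
    rw [show g * (x * y) * g⁻¹ = g * x * g⁻¹ * (g * y * g⁻¹) by group]
    exact mul_mem hx hy⟩

namespace SUlike

variable (U : SUlike τ ρ)
include U

theorem exists_flag_map {a b c : ι → F} (ha : hf τ a a = 0) (h1 : hf τ c a = hf τ b a)
    (h2 : hf τ b a ≠ 0) (h3 : hf τ c c = hf τ b b) :
    ∃ x ∈ flagQ ρ a (pf τ 1 a), ρ x *ᵥ b = c := by
  obtain ⟨g, hg, l, e⟩ := U.exists_rho ha (u := (hf τ b a)⁻¹ • (c - b))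
    (by rw [hf_smul_left, hf_sub_left, h1, sub_self, mul_zero])
  have e1 := e b
  rw [smul_smul, mul_inv_cancel₀ h2, one_smul, add_sub_cancel] at e1
  generalize l * hf τ b a - hf τ b ((hf τ b a)⁻¹ • (c - b)) = k at e1
  have e2 := U.isom g b b
  rw [e1, ← h3] at e2
  simp only [hf_add_left, hf_add_right, hf_smul_left, hf_smul_right, ha, h1,
    ← hf_conj U.ord c a] at e2
  have h2' : τ (hf τ b a) ≠ 0 := (_root_.map_ne_zero τ).2 h2
  obtain ⟨t, ht⟩ := U.exists_tv ha (k := -k * (hf τ b a)⁻¹) (by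
    rw [map_mul, map_neg, map_inv₀]
    field_simp
    linear_combination -e2)
  refine ⟨t * g, mul_mem (tv_mem_flagQ (by rw [pf_dot_hf, ha]) ht) hg, ?_⟩
  rw [map_mul, ← mulVec_mulVec, e1, ht, tv_mulVec, smul_dotProduct, pf_dot_hf, hf_add_left,
    hf_smul_left, ha, mul_zero, add_zero, h1, smul_eq_mul, inv_mul_cancel_right₀ h2]
  module

theorem exists_map2 {a b c : ι → F} (ha : hf τ a a = 0) (hb : hf τ b b = 0) (hc : hf τ c c = 0)
    (h1 : hf τ b a ≠ 0) (h2 : hf τ c a ≠ 0) : ∃ x, ρ x *ᵥ a = a ∧ Par (ρ x *ᵥ b) c := by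
  obtain ⟨x, hx, e⟩ := U.exists_flag_map ha (b := b) (c := (hf τ b a * (hf τ c a)⁻¹) • c)
    (by rw [hf_smul_left, inv_mul_cancel_right₀ h2]) h1
    (by rw [hf_smul_left, hf_smul_right, hb, hc, mul_zero, mul_zero])
  exact ⟨x, hx.1, Par.symm ⟨_, mul_ne_zero h1 (inv_ne_zero h2), e⟩⟩

theorem iwasawa [Finite F] (h2 : 2 ≤ Fintype.card ι) (r : ℕ) [Fact r.Prime] [CharP F r]
    {M : Subgroup H} [M.Normal] {m : H} (hm : m ∈ M) (h : ∀ c : F, ρ m ≠ c • 1) {s : H}
    (hs : s ∈ uSub τ ρ) : s ^ r ^ 2 ∈ M := by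
  obtain ⟨a, ha0, ha, hp⟩ : ∃ a, a ≠ 0 ∧ hf τ a a = 0 ∧ ¬ Par a (ρ m *ᵥ a) := by
    by_contra hh
    push Not at hh
    obtain ⟨c, hc⟩ := scalar_of_fix_iso U.ord h2 (M := ρ m) fun v hv => by
      by_cases h0 : v = 0
      · exact ⟨0, by simp [h0]⟩
      · obtain ⟨c, -, e⟩ := hh v h0 hv
        exact ⟨c, e⟩
    exact h c hc
  obtain ⟨b, -, -, hb⟩ := U.toIsom.orb_of_not_par (fun a => U.exists_isTv')
    (fun a v => exists_iso_add U.ord) (fun a b c => U.exists_map2) hm ha0 ha hp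
  refine pow_mem_of_mem_sup (D := flagQ ρ b (pf τ 1 b)) (fun d hd => flagQ_pow U.inj r hd)
    ((iSup_le ?_ : uSub τ ρ ≤ _) hs)
  rintro ⟨c, hc0, hc⟩ t ht
  obtain ⟨m, hm, hp⟩ := hb c hc0 hc
  exact mem_sup_of_conj hm (conj_mem_flagQ hp (U.toIsom.par_vecMul hp) ht)

theorem exists_unit_map [Finite F] (h3 : 3 ≤ Fintype.card ι) {v v' : ι → F} (hv : hf τ v v = 1)
    (hv' : hf τ v' v' = 1) : ∃ u ∈ uSub τ ρ, ∃ μ : F, μ * τ μ = 1 ∧ ρ u *ᵥ v = μ • v' := by
  obtain ⟨μ, h1, h2⟩ : ∃ μ : F, μ * τ μ = 1 ∧ hf τ v (v - μ • v') ≠ 0 := by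
    by_cases h : hf τ v v' = 1
    · obtain ⟨e, h1, h2⟩ := exists_norm_one_sq_ne U.ord
      refine ⟨e, h1, fun h3 => h2 ?_⟩
      rw [hf_sub_right, hf_smul_right, hv, h, mul_one, sub_eq_zero] at h3
      rw [← h3, mul_one] at h1
      rw [← h3, h1]
    · refine ⟨1, by simp, fun h3 => h ?_⟩
      rw [hf_sub_right, one_smul, hv, sub_eq_zero] at h3
      exact h3.symm
  have hn : hf τ (μ • v') (μ • v') = hf τ v v := by
    rw [hf_smul_left, hf_smul_right, hv', hv, mul_one, h1]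
  have key : ∀ a, hf τ a a = 0 → hf τ (v - μ • v') a = 0 → hf τ v a ≠ 0 →
      ∃ u ∈ uSub τ ρ, ∃ μ : F, μ * τ μ = 1 ∧ ρ u *ᵥ v = μ • v' := fun a ha h4 h5 => by
    rw [hf_sub_left, sub_eq_zero] at h4
    obtain ⟨x, hx, e⟩ := U.exists_flag_map ha h4.symm h5 hn
    exact ⟨x, mem_uSub (ne_zero_of_hf_right h5) ha hx, μ, h1, e⟩
  by_cases h : hf τ (v - μ • v') (v - μ • v') = 0
  · exact key _ h h h2
  by_cases h' : ∀ u, hf τ u u = 0 → hf τ u (v - μ • v') = 0 → hf τ u v = 0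
  · obtain ⟨c, hc⟩ := smul_of_iso_perp U.ord h3 h h'
    have hc1 : c ≠ 1 := by
      rintro rfl
      rw [one_smul, eq_sub_iff_add_eq, add_eq_left] at hc
      rw [hc, hf_zero_left, hv] at hn
      exact zero_ne_one hn
    have e : v = ((c - 1)⁻¹ * c * μ) • v' := by
      have : (c - 1) • v = (c * μ) • v' := by linear_combination (norm := module) -hc
      rw [mul_assoc, ← smul_smul, ← this, smul_smul, inv_mul_cancel₀ (sub_ne_zero.2 hc1), one_smul]
    generalize (c - 1)⁻¹ * c * μ = d at e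
    refine ⟨1, one_mem _, d, ?_, by rw [map_one, one_mulVec, e]⟩
    rwa [e, hf_smul_left, hf_smul_right, hv', mul_one] at hv
  · push Not at h'
    obtain ⟨u, h4, h5, h6⟩ := h'
    exact key u h4 (hf_comm U.ord h5) (hf_ne_comm U.ord h6)

end SUlike

variable (τ) in
/-- a unitary quasi-reflection -/
def urf (v : ι → F) (c : F) : Matrix ι ι F := tv v (c • pf τ 1 v)

theorem urf_mulVec (v : ι → F) (c : F) (x : ι → F) :
    urf τ v c *ᵥ x = x + (c * hf τ x v) • v := by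
  rw [urf, tv_mulVec, smul_dotProduct, pf_dot_hf, smul_eq_mul]

theorem urf_smul (v : ι → F) (c μ : F) : urf τ (μ • v) c = urf τ v (c * (μ * τ μ)) :=
  ext_mulVec fun x => by
    rw [urf_mulVec, urf_mulVec, hf_smul_right, smul_smul]
    congr 2
    ring

theorem urf_mul {v : ι → F} (hv : hf τ v v = 1) (c d : F) :
    urf τ v (c - 1) * urf τ v (d - 1) = urf τ v (c * d - 1) := ext_mulVec fun x => by
  rw [← mulVec_mulVec, urf_mulVec, urf_mulVec, urf_mulVec, hf_add_left, hf_smul_left, hv]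
  module

theorem urf_zero (v : ι → F) : urf τ v 0 = 1 := by simp [urf]

theorem urf_pow {v : ι → F} (hv : hf τ v v = 1) (c : F) (k : ℕ) :
    urf τ v (c - 1) ^ k = urf τ v (c ^ k - 1) := by
  induction k with
  | zero => simp [urf_zero]
  | succ k ih => rw [pow_succ, ih, urf_mul hv, pow_succ]

theorem hf_urf (hσ : orderOf τ = 2) {v : ι → F} {c : F} (h : c + τ c + c * τ c * hf τ v v = 0)
    (x y : ι → F) : hf τ (urf τ v c *ᵥ x) (urf τ v c *ᵥ y) = hf τ x y := by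
  simp only [urf_mulVec, hf_add_left, hf_add_right, hf_smul_left, hf_smul_right, map_mul,
    hf_conj hσ]
  linear_combination hf τ x v * hf τ v y * h

theorem conj_urf (I : Isom ρ τ 1) (g : H) (v : ι → F) (c : F) :
    ρ g * urf τ v c * ρ g⁻¹ = urf τ (ρ g *ᵥ v) c := ext_mulVec fun x => by
  rw [← mulVec_mulVec, ← mulVec_mulVec, urf_mulVec, urf_mulVec, mulVec_add, mulVec_inv_mulVec,
    mulVec_smul, hf_def, hf_def, I.perp_iff]

variable (τ ρ) in
/-- a group acting faithfully as the full unitary group -/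
structure GUlike : Prop where
  ord : orderOf τ = 2
  inj : Function.Injective ρ
  isom : ∀ g u v, hf τ (ρ g *ᵥ u) (ρ g *ᵥ v) = hf τ u v
  surj : ∀ M : Matrix ι ι F, (∀ u v, hf τ (M *ᵥ u) (M *ᵥ v) = hf τ u v) → ∃ g, ρ g = M

namespace GUlike

variable (U : GUlike τ ρ)
include U

theorem toSU' : SUlike τ ρ := ⟨U.ord, U.inj, U.isom, fun M _ => U.surj M⟩

theorem exists_urf (v : ι → F) (hv : hf τ v v = 1) {c : F} (hc : c * τ c = 1) :
    ∃ g, ρ g = urf τ v (c - 1) :=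
  U.surj _ (hf_urf U.ord (by rw [hv, map_sub, map_one]; linear_combination hc))

omit U in
variable (τ ρ) in
/-- quasi-reflections in a fixed unit vector -/
def rfAt (hσ : orderOf τ = 2) (v : ι → F) (hv : hf τ v v = 1) : Subgroup H where
  carrier := {g | ∃ c : F, c * τ c = 1 ∧ ρ g = urf τ v (c - 1)}
  one_mem' := ⟨1, by simp, by simp [urf_zero]⟩
  mul_mem' := by
    rintro s t ⟨c, hc, e⟩ ⟨d, hd, e'⟩
    exact ⟨c * d, by rw [map_mul]; linear_combination d * τ d * hc + hd,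
      by rw [map_mul, e, e', urf_mul hv]⟩
  inv_mem' := by
    rintro s ⟨c, hc, e⟩
    refine ⟨τ c, by rw [sq_of_orderOf_two hσ, mul_comm, hc], ?_⟩
    calc ρ s⁻¹ = ρ s⁻¹ * (ρ s * urf τ v (τ c - 1)) := by
          rw [e, urf_mul hv, hc, sub_self, urf_zero, mul_one]
      _ = _ := by rw [← mul_assoc, ← map_mul, inv_mul_cancel, map_one, one_mul]

variable [Finite F]

theorem exists_conj_urf (h3 : 3 ≤ Fintype.card ι) {v v' : ι → F} (hv : hf τ v v = 1)
    (hv' : hf τ v' v' = 1) {c : F} {g g' : H} (hg : ρ g = urf τ v c) (hg' : ρ g' = urf τ v' c) :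
    ∃ u ∈ uSub τ ρ, g' = u * g * u⁻¹ := by
  obtain ⟨u, hu, μ, h1, h2⟩ := U.toSU'.exists_unit_map h3 hv hv'
  refine ⟨u, hu, U.inj ?_⟩
  rw [map_mul, map_mul, hg, hg', conj_urf U.toSU'.toIsom, h2, urf_smul, h1, mul_one]

theorem sup_eq_top (h3 : 3 ≤ Fintype.card ι) {v : ι → F} (hv : hf τ v v = 1) (g : H) :
    g ∈ uSub τ ρ ⊔ rfAt τ ρ U.ord v hv := by
  refine fix_induction U.inj (one_mem _) (fun g hg => ?_) g
  obtain ⟨x, hx⟩ : ∃ x, hf τ (ρ g *ᵥ x) (x - ρ g *ᵥ x) ≠ 0 := by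
    by_contra hh
    push Not at hh
    have h1 : ∀ x, hf τ ((ρ g - 1) *ᵥ x) x = 0 := fun x => by
      have := hh x
      rw [hf_sub_right, U.isom] at this
      rwa [sub_mulVec, one_mulVec, hf_sub_left]
    refine hg (U.inj (ext_mulVec fun x => ?_))
    rw [map_one, ← sub_eq_zero, ← sub_mulVec]
    refine sf_nondeg_left (σ := τ) (A := 1) (by simp) fun y => ?_
    obtain ⟨k, hk⟩ := exists_ne_of_orderOf_two U.ord
    have h2 := h1 (x + y)
    have h3 := h1 (x + k • y)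
    simp only [mulVec_add, mulVec_smul, hf_add_left, hf_add_right, hf_smul_left, hf_smul_right,
      h1] at h2 h3
    have : (τ k - k) * hf τ ((ρ g - 1) *ᵥ x) y = 0 := by linear_combination h3 - k * h2
    exact (mul_eq_zero.1 this).resolve_left (sub_ne_zero.2 hk)
  have hp : ∀ w, ρ g *ᵥ w = w → hf τ w (x - ρ g *ᵥ x) = 0 := fun w hw => by
    rw [hf_sub_right]
    nth_rw 2 [← hw]
    rw [U.isom, sub_self]
  have hn := U.isom g x x
  have hne : ρ g *ᵥ x ≠ x := fun e => hx (by rw [e, sub_self, hf_zero_right])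
  have hm : ∀ u : H, ρ (u * g) *ᵥ x = ρ u *ᵥ (ρ g *ᵥ x) := fun u => by
    rw [map_mul, mulVec_mulVec]
  generalize hy : ρ g *ᵥ x = y at *
  have hx' : τ (hf τ y (x - y)) ≠ 0 := (_root_.map_ne_zero τ).2 hx
  have hk : (hf τ y (x - y))⁻¹ + τ (hf τ y (x - y))⁻¹ +
      (hf τ y (x - y))⁻¹ * τ (hf τ y (x - y))⁻¹ * hf τ (x - y) (x - y) = 0 := by
    rw [map_inv₀]
    field_simp
    simp only [hf_conj U.ord, hf_sub_left, hf_sub_right, map_sub]
    linear_combination -hn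
  obtain ⟨u, hu⟩ := U.surj _ (hf_urf U.ord hk)
  refine ⟨u, x, (mul_mem_cancel_left ?_).1, hy ▸ hne, ?_, fun w hw => ?_⟩
  · by_cases h0 : hf τ (x - y) (x - y) = 0
    · exact Subgroup.mem_sup_left (mem_uSub (ne_zero_of_hf_right hx) h0
        (tv_mem_flagQ (by rw [pf_dot_hf, h0]) hu))
    obtain ⟨l, hl0, hl⟩ := exists_unit_smul U.ord h0 one_ne_zero (map_one τ)
    have hl0' : τ l ≠ 0 := (_root_.map_ne_zero τ).2 hl0
    generalize (hf τ y (x - y))⁻¹ = k at *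
    generalize x - y = w at *
    have e : urf τ w k = urf τ (l • w) (k * hf τ w w + 1 - 1) := by
      rw [urf_smul, add_sub_cancel_right]
      rw [hf_smul_left, hf_smul_right] at hl
      congr 1
      linear_combination -k * hl
    obtain ⟨g₀, hg₀⟩ := U.exists_urf v hv (c := k * hf τ w w + 1) (by
      rw [map_add, map_mul, map_one, hf_conj U.ord]
      linear_combination hf τ w w * hk)
    obtain ⟨z, hz, rfl⟩ := U.exists_conj_urf h3 hv hl hg₀ (hu.trans e)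
    refine mul_mem (mul_mem (Subgroup.mem_sup_left hz) (Subgroup.mem_sup_right ⟨_, ?_, hg₀⟩))
      (Subgroup.mem_sup_left (inv_mem hz))
    rw [map_add, map_mul, map_one, hf_conj U.ord]
    linear_combination hf τ w w * hk
  · rw [hm, hu, urf_mulVec, inv_mul_cancel₀ hx, one_smul, add_sub_cancel]
  · rw [hu, urf_mulVec, hp w hw, mul_zero, zero_smul, add_zero]

theorem pow_mem (h3 : 3 ≤ Fintype.card ι) {e : ℕ} (he : ∀ c : F, c * τ c = 1 → c ^ e = 1) (g : H) :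
    g ^ e ∈ uSub τ ρ := by
  obtain ⟨i, -⟩ := exists_three h3
  have hv := (onb_std (τ := τ) (ι := ι)).self i
  have := uSub_normal U.toSU'.toIsom
  refine pow_mem_of_mem_sup ?_ (U.sup_eq_top h3 hv g)
  rintro d ⟨c, hc, e⟩
  exact U.inj (by rw [map_pow, e, urf_pow hv, he c hc, sub_self, urf_zero, map_one])

theorem exists_elt (h3 : 3 ≤ Fintype.card ι) {c : F} (hc : c * τ c = 1) (hc1 : c ≠ 1) {k : ℕ}
    (hk : c ^ k = 1) : ∃ s ∈ uSub τ ρ, s ^ k = 1 ∧ ∀ d : F, ρ s ≠ d • 1 := by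
  obtain ⟨i, j, l, hij, hil, hjl⟩ := exists_three h3
  have he := onb_std (τ := τ) (ι := ι)
  generalize (fun i : ι => (Pi.single i (1 : F) : ι → F)) = e at he
  obtain ⟨x, hx⟩ := U.exists_urf _ (he.self i) hc
  obtain ⟨y, hy⟩ := U.exists_urf _ (he.self j) hc
  obtain ⟨u, hu, e1⟩ := U.exists_conj_urf h3 (he.self i) (he.self j) hx hy
  have := uSub_normal U.toSU'.toIsom
  have hxy : Commute x y := U.inj (ext_mulVec fun v => by
    simp only [map_mul, ← mulVec_mulVec, hx, hy, urf_mulVec, hf_add_left, hf_smul_left, he.ne hij,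
      he.ne hij.symm]
    module)
  refine ⟨x * y⁻¹, ?_, ?_, fun d hd => hc1 ?_⟩
  · rw [e1, show x * (u * x * u⁻¹)⁻¹ = x * u * x⁻¹ * u⁻¹ by group]
    exact mul_mem (this.conj_mem u hu x) (inv_mem hu)
  · have h1 : x ^ k = 1 := U.inj (by
      rw [map_pow, hx, urf_pow (he.self i), hk, sub_self, urf_zero, map_one])
    have h2 : y ^ k = 1 := U.inj (by
      rw [map_pow, hy, urf_pow (he.self j), hk, sub_self, urf_zero, map_one])
    rw [hxy.inv_right.mul_pow, inv_pow, h1, h2, inv_one, one_mul]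
  · have h1 : ρ x = d • ρ y := by
      rw [← one_mul (ρ y), ← smul_mul_assoc, ← hd, ← map_mul, inv_mul_cancel_right]
    have h2 := congrArg (fun M => hf τ (M *ᵥ e l) (e l)) h1
    have h4 := congrArg (fun M => hf τ (M *ᵥ e i) (e i)) h1
    simp only [hx, hy, smul_mulVec, urf_mulVec, hf_add_left, hf_smul_left, he.self, he.ne hij,
      he.ne hil.symm, he.ne hjl.symm] at h2 h4
    linear_combination h4 - h2

end GUlike

theorem uSub_le_map [Finite F] (U : SUlike τ ρ) {G : Type*} [Group G] {ρ' : G →* Matrix ι ι F}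
    (U' : GUlike τ ρ') (j : H →* G) (hj : ∀ s, ρ' (j s) = ρ s) :
    uSub τ ρ' ≤ (uSub τ ρ).map j := by
  obtain ⟨r, hr⟩ := CharP.exists F
  have : Fact r.Prime := ⟨CharP.char_is_prime F r⟩
  refine iSup_le ?_
  rintro ⟨a, ha0, ha⟩ g hg
  have h1 := congrArg (fun x => (ρ' x).det) (flagQ_pow U'.inj r hg)
  simp only [map_pow, det_pow, map_one, det_one] at h1
  have h2 : (ρ' g).det = 1 := by
    have := sub_pow_char_pow (ρ' g).det 1 (p := r) (n := 2)
    rw [h1, one_pow, sub_self] at this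
    exact sub_eq_zero.1 (pow_eq_zero_iff (pow_ne_zero _ (Fact.out : r.Prime).ne_zero) |>.1 this)
  obtain ⟨s, hs⟩ := U.surj _ h2 (U'.isom g)
  refine ⟨s, mem_uSub ha0 ha ?_, U'.inj (by rw [hj, hs])⟩
  simpa only [flagQ, Subgroup.mem_mk, Submonoid.mem_mk, Subsemigroup.mem_mk, Set.mem_ofPred_eq, hs]
    using hg

end Cfsg.Agent.H6
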