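import Mathlib
import Cfsg.Agent.H6.IwaU

/-!
Semilinear maps fixing rational points; normal subgroups of orthogonal groups in odd
characteristic.
-/

set_option autoImplicit false

namespace Cfsg.Agent.H6

open Matrix FTPG

variable {ι : Type*} [Fintype ι] [DecidableEq ι] {F F₀ : Type*} [Field F] [Field F₀]

section semi

variable {e χ : F₀ →+* F} {G : Matrix ι ι F}

section comp
omit [DecidableEq ι]
variable (e)
omit [Fintype ι] in
theorem cadd (u v : ι → F₀) : e ∘ (u + v) = e ∘ u + e ∘ v := by funext i; simp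
omit [Fintype ι] in
theorem csub (u v : ι → F₀) : e ∘ (u - v) = e ∘ u - e ∘ v := by funext i; simp
omit [Fintype ι] in
theorem csmul (c : F₀) (u : ι → F₀) : e ∘ (c • u) = e c • e ∘ u := by funext i; simp
omit [Fintype ι] in
theorem czero : e ∘ (0 : ι → F₀) = 0 := by funext i; simp
theorem cdot (u v : ι → F₀) : (e ∘ u) ⬝ᵥ (e ∘ v) = e (u ⬝ᵥ v) := by simp [dotProduct]
omit [Fintype ι] in
theorem cne {u : ι → F₀} (h : u ≠ 0) : e ∘ u ≠ 0 := fun h' =>
  h (funext fun i => e.injective ((congrFun h' i).trans (map_zero e).symm))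
theorem cmulVec (M : Matrix ι ι F₀) (v : ι → F₀) : e ∘ (M *ᵥ v) = M.map e *ᵥ (e ∘ v) :=
  funext fun i => RingHom.map_mulVec e M v i
end comp

theorem ind2_map (e : F₀ →+* F) {x y : ι → F₀} (h : Ind2 F₀ x y) : Ind2 F (e ∘ x) (e ∘ y) := by
  intro s t hst
  obtain ⟨u, h1, h2⟩ := exists_dot_of_ind2 h
  obtain ⟨v, h3, h4⟩ := exists_dot_of_ind2 h.symm
  have e1 := congrArg (· ⬝ᵥ (e ∘ u)) hst
  have e2 := congrArg (· ⬝ᵥ (e ∘ v)) hst
  simp only [add_dotProduct, smul_dotProduct, cdot, h1, h2, h3, h4] at e1 e2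
  exact ⟨by simpa using e1, by simpa using e2⟩

theorem ind3_map (e : F₀ →+* F) {x y z : ι → F₀} (h : Ind3 F₀ x y z) :
    Ind3 F (e ∘ x) (e ∘ y) (e ∘ z) := by
  intro r s t hst
  obtain ⟨u, h1, h2, h3⟩ := exists_dot_of_not_inSp (ind3_iff.1 h).2
  have e1 := congrArg (· ⬝ᵥ (e ∘ u)) hst
  simp only [add_dotProduct, smul_dotProduct, cdot, h1, h2, h3] at e1
  have ht : t = 0 := by simpa using e1
  rw [ht, zero_smul, add_zero] at hst
  exact ⟨(ind2_map e h.ind12 r s hst).1, (ind2_map e h.ind12 r s hst).2, ht⟩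

variable (G χ e) in
/-- the semilinear map `v ↦ G χ(v)` commutes with the rational matrix `Y` -/
def SComm (Y : Matrix ι ι F₀) : Prop := G * Y.map χ = Y.map e * G

theorem SComm.mul {X Y : Matrix ι ι F₀} (hX : SComm e χ G X) (hY : SComm e χ G Y) :
    SComm e χ G (X * Y) := by
  unfold SComm at *
  rw [Matrix.map_mul, Matrix.map_mul, ← mul_assoc, hX, mul_assoc, hY, mul_assoc]

theorem SComm.sub_one {X : Matrix ι ι F₀} (hX : SComm e χ G X) : SComm e χ G (X - 1) := by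
  unfold SComm at *
  rw [Matrix.map_sub _ (map_sub χ), Matrix.map_sub _ (map_sub e), mul_sub, sub_mul, hX,
    Matrix.map_one _ (map_zero χ) (map_one χ), Matrix.map_one _ (map_zero e) (map_one e), mul_one,
    one_mul]

theorem SComm.fix {Y : Matrix ι ι F₀} (h : SComm e χ G Y) {a f : ι → F₀} (hf : f ≠ 0)
    (hY : Y = vecMulVec a f) : ∃ c : F, G *ᵥ (χ ∘ a) = c • (e ∘ a) := by
  obtain ⟨v, hv⟩ := exists_dot_one hf
  have h1 : Y *ᵥ v = a := by rw [hY, vecMulVec_mulVec', hv, one_smul]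
  have h2 : Y.map e = vecMulVec (e ∘ a) (e ∘ f) := by
    rw [hY]; ext i j; simp [vecMulVec_apply]
  refine ⟨(e ∘ f) ⬝ᵥ (G *ᵥ (χ ∘ v)), ?_⟩
  rw [← h1, cmulVec, mulVec_mulVec, h, ← mulVec_mulVec, h2, vecMulVec_mulVec', h1]

theorem SComm.fix_tv {a f : ι → F₀} (h : SComm e χ G (tv a f)) (hf : f ≠ 0) :
    ∃ c : F, G *ᵥ (χ ∘ a) = c • (e ∘ a) :=
  h.sub_one.fix hf (by rw [tv, add_sub_cancel_left])

theorem scalar_of_semi [Nonempty ι] (hG : G.det ≠ 0) {l : F}
    (h : ∀ v : ι → F₀, G *ᵥ (χ ∘ v) = l • (e ∘ v)) : G = l • 1 ∧ ∀ x, χ x = e x := by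
  have h1 : G = l • 1 := ext_single fun j => by
    have e1 : ∀ ψ : F₀ →+* F, ψ ∘ (Pi.single j 1 : ι → F₀) = Pi.single j 1 := fun ψ => by
      funext k; by_cases hk : k = j <;> simp [hk]
    have := h (Pi.single j 1)
    rw [e1, e1] at this
    rw [this, smul_mulVec, one_mulVec]
  have hl : l ≠ 0 := fun h0 => hG (by rw [h1, h0, zero_smul, det_zero])
  refine ⟨h1, fun x => ?_⟩
  obtain ⟨i⟩ := ‹Nonempty ι›
  have := congrFun (h fun _ => x) i
  rw [h1, smul_mulVec, one_mulVec] at this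
  exact mul_left_cancel₀ hl this

theorem semi_all (h2 : 2 ≤ Fintype.card ι) (hG : G.det ≠ 0)
    (h : ∀ a : ι → F₀, a ≠ 0 → ∃ c : F, G *ᵥ (χ ∘ a) = c • (e ∘ a)) :
    (∃ l : F, G = l • 1) ∧ ∀ x, χ x = e x := by
  have : Nontrivial ι := Fintype.one_lt_card_iff_nontrivial.1 h2
  have key : ∀ (x y : ι → F₀) (c d : F), Ind2 F₀ x y → G *ᵥ (χ ∘ x) = c • (e ∘ x) → G *ᵥ (χ ∘ y) = d • (e ∘ y) →
      c = d := fun x y c d i2 hx hy => by
    obtain ⟨k, hk⟩ := h _ i2.add_ne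
    rw [cadd, cadd, mulVec_add, hx, hy] at hk
    have := ind2_map e i2 (c - k) (d - k) (by linear_combination (norm := module) hk)
    linear_combination this.1 - this.2
  obtain ⟨i, j, hij⟩ := exists_pair_ne ι
  have i2 : Ind2 F₀ (Pi.single i 1 : ι → F₀) (Pi.single j 1) := fun s t hst =>
    ⟨by simpa [hij] using congrFun hst i, by simpa [hij.symm] using congrFun hst j⟩
  obtain ⟨c, hc⟩ := h _ i2.ne_left
  obtain ⟨d, hd⟩ := h _ i2.ne_right
  obtain rfl := key _ _ _ _ i2 hc hd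
  have := scalar_of_semi (e := e) (χ := χ) hG (l := c) fun v => by
    by_cases hv : v = 0
    · simp [hv, czero]
    obtain ⟨k, hk⟩ := h v hv
    by_cases hp : Par (Pi.single i 1) v
    · rw [hk, key _ _ _ _ (ind2_of_not_par hv i2.ne_right fun h' => i2.not_par (hp.trans h')) hk hd]
    · rw [hk, key _ _ _ _ (ind2_of_not_par i2.ne_left hv hp) hc hk]
  exact ⟨⟨c, this.1⟩, this.2⟩

theorem semi_assemble (h3 : 3 ≤ Fintype.card ι) (hG : G.det ≠ 0) {a b f g : ι → F₀}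
    (h1 : f ⬝ᵥ a = 1) (h2 : f ⬝ᵥ b = 0) (h4 : g ⬝ᵥ a = 0) (h5 : g ⬝ᵥ b = 1) {l m : F}
    (ha : G *ᵥ (χ ∘ a) = l • (e ∘ a)) (hb : G *ᵥ (χ ∘ b) = m • (e ∘ b))
    (hz : ∀ z, f ⬝ᵥ z = 0 → g ⬝ᵥ z = 0 → Ind3 F (e ∘ a) (e ∘ b) (e ∘ z) →
      (∃ k : F, G *ᵥ (χ ∘ z) = l • (e ∘ z) + k • (e ∘ b)) ∧
      ∃ k : F, G *ᵥ (χ ∘ z) = m • (e ∘ z) + k • (e ∘ a)) :
    (∃ l : F, G = l • 1) ∧ ∀ x, χ x = e x := by
  have : Nonempty ι := Fintype.card_pos_iff.1 (by omega)
  have key : ∀ z, f ⬝ᵥ z = 0 → g ⬝ᵥ z = 0 → z ≠ 0 → l = m ∧ G *ᵥ (χ ∘ z) = l • (e ∘ z) := by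
    intro z hf hg h0
    have i3 : Ind3 F (e ∘ a) (e ∘ b) (e ∘ z) := ind3_map e fun r s t hh => by
      have e1 := congrArg (f ⬝ᵥ ·) hh
      have e2 := congrArg (g ⬝ᵥ ·) hh
      simp only [dotProduct_add, dotProduct_smul, h1, h2, h4, h5, hf, hg] at e1 e2
      have hr : r = 0 := by simpa using e1
      have hs : s = 0 := by simpa using e2
      exact ⟨hr, hs, by simpa [hr, hs, h0] using hh⟩
    obtain ⟨⟨k, hk⟩, k', hk'⟩ := hz z hf hg i3
    have := i3 k' (-k) (m - l) (by linear_combination (norm := module) hk - hk')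
    refine ⟨by linear_combination -this.2.2, ?_⟩
    rw [hk, neg_eq_zero.1 this.2.1, zero_smul, add_zero]
  have key' : ∀ z, f ⬝ᵥ z = 0 → g ⬝ᵥ z = 0 → G *ᵥ (χ ∘ z) = l • (e ∘ z) := fun z hf hg => by
    by_cases h0 : z = 0
    · simp [h0, czero]
    · exact (key z hf hg h0).2
  obtain ⟨z, hz0, hf, hg⟩ := exists_perp2 h3 f g
  obtain ⟨rfl, hz1⟩ := key z hf hg hz0
  have hs : ∀ s, χ s * l = l * e s := fun s => by
    have := key' (s • z) (by simp [hf]) (by simp [hg])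
    rw [csmul, csmul, mulVec_smul, hz1, smul_smul, smul_smul] at this
    exact smul_left_injective F (cne e hz0) this
  have := scalar_of_semi (e := e) (χ := χ) hG (l := l) fun v => by
    have := key' (v - (f ⬝ᵥ v) • a - (g ⬝ᵥ v) • b) (by simp [h1, h2]) (by simp [h4, h5])
    simp only [csub, csmul, mulVec_sub, mulVec_smul, ha, hb, smul_smul, hs] at this
    linear_combination (norm := module) this
  exact ⟨⟨l, this.1⟩, this.2⟩

theorem semi_herm [Finite F₀] {τ : F₀ ≃+* F₀} (hσ : orderOf τ = 2) (h3 : 3 ≤ Fintype.card ι)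
    (hG : G.det ≠ 0)
    (h : ∀ a : ι → F₀, a ≠ 0 → hf τ a a = 0 → ∃ c : F, G *ᵥ (χ ∘ a) = c • (e ∘ a)) :
    (∃ l : F, G = l • 1) ∧ ∀ x, χ x = e x := by
  have h' : ∀ a : ι → F₀, hf τ a a = 0 → ∃ c : F, G *ᵥ (χ ∘ a) = c • (e ∘ a) := fun a ha => by
    by_cases h0 : a = 0
    · exact ⟨0, by simp [h0, czero]⟩
    · exact h a h0 ha
  have key : ∀ (a b z : ι → F₀) (l m : F), hf τ a a = 0 → hf τ b b = 0 → hf τ b a = 1 →
      hf τ z a = 0 → hf τ z b = 0 → G *ᵥ (χ ∘ a) = l • (e ∘ a) → G *ᵥ (χ ∘ b) = m • (e ∘ b) →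
      Ind3 F (e ∘ a) (e ∘ b) (e ∘ z) → ∃ k : F, G *ᵥ (χ ∘ z) = l • (e ∘ z) + k • (e ∘ b) := by
    intro a b z l m ha hb hab hza hzb ea eb i3
    have hba : hf τ a b = 1 := by rw [← hf_conj hσ, hab, map_one]
    obtain ⟨t, ht0, ht⟩ := exists_trace_zero hσ
    obtain ⟨c, hc⟩ := exists_trace_eq hσ (c := - hf τ z z) (by rw [map_neg, hf_conj hσ])
    obtain ⟨n₀, e0⟩ := h' (a + t • b) (by
      simp only [hf_add_left, hf_add_right, hf_smul_left, hf_smul_right, ha, hb, hab, hba]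
      linear_combination ht)
    obtain ⟨n₁, e1⟩ := h' (a + z + c • b) (by
      simp only [hf_add_left, hf_add_right, hf_smul_left, hf_smul_right, ha, hb, hab, hba, hza, hzb,
        hf_comm hσ hza, hf_comm hσ hzb]
      linear_combination hc)
    obtain ⟨n₂, e2⟩ := h' (a + z + c • b + t • b) (by
      simp only [hf_add_left, hf_add_right, hf_smul_left, hf_smul_right, ha, hb, hab, hba, hza, hzb,
        hf_comm hσ hza, hf_comm hσ hzb]
      linear_combination hc + ht)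
    simp only [cadd, csmul, mulVec_add, mulVec_smul, ea, eb] at e0 e1 e2
    have k0 := i3.ind12 (l - n₀) (χ t * m - n₀ * e t) (by linear_combination (norm := module) e0)
    have k1 := i3 (n₁ - n₂) (n₁ * e c + χ t * m - n₂ * (e c + e t)) (n₁ - n₂)
      (by linear_combination (norm := module) e2 - e1)
    have k2 : (l - n₁) * e t = 0 := by
      linear_combination k1.2.1 - k0.2 - (e c + e t) * k1.1 + e t * k0.1
    rw [mul_eq_zero, or_iff_left ((_root_.map_ne_zero e).2 ht0), sub_eq_zero] at k2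
    subst k2
    exact ⟨l * e c - χ c * m, by linear_combination (norm := module) e1⟩
  obtain ⟨a, ha0, ha⟩ := exists_iso hσ (ι := ι) (by omega)
  obtain ⟨v, hv⟩ := exists_hf_one (τ := τ) ha0
  obtain ⟨k, hb⟩ := exists_iso_add hσ ha (v := v) (by rw [hv]; exact one_ne_zero)
  have hab : hf τ (v + k • a) a = 1 := by rw [hf_add_left, hf_smul_left, ha, hv, mul_zero, add_zero]
  generalize v + k • a = b at *
  have hba : hf τ a b = 1 := by rw [← hf_conj hσ, hab, map_one]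
  obtain ⟨l, ea⟩ := h' a ha
  obtain ⟨m, eb⟩ := h' b hb
  refine semi_assemble h3 hG (f := pf τ 1 b) (g := pf τ 1 a) (by rwa [pf_dot_hf])
    (by rwa [pf_dot_hf]) (by rwa [pf_dot_hf]) (by rwa [pf_dot_hf]) ea eb fun z h1 h2 i3 => ?_
  rw [pf_dot_hf] at h1 h2
  exact ⟨key a b z l m ha hb hab h2 h1 ea eb i3, key b a z m l hb ha hba h1 h2 eb ea i3.rot.swap⟩

end semi

section sym

variable {B : Matrix ι ι F}

omit [DecidableEq ι] in
theorem bf_symm (hB : Bᵀ = B) (u v : ι → F) : bf B u v = bf B v u := by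
  rw [bf_eq, bf_eq, dotProduct_mulVec, ← mulVec_transpose, hB, dotProduct_comm]

theorem exists_singular [Finite F] (hB : Bᵀ = B) (two : (2 : F) ≠ 0) (h3 : 3 ≤ Fintype.card ι) :
    ∃ a : ι → F, a ≠ 0 ∧ bf B a a = 0 := by
  by_contra hh
  push Not at hh
  obtain ⟨u, hu, -⟩ := exists_perp1 (F := F) (ι := ι) (by omega) 0
  obtain ⟨v, hv, h1⟩ := exists_perp1 (by omega) (pb B u)
  obtain ⟨w, hw, h2, h4⟩ := exists_perp2 h3 (pb B u) (pb B v)
  rw [pb_dot] at h1 h2 h4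
  have := Fintype.ofFinite F
  have hodd : Fintype.card F % 2 = 1 := FiniteField.odd_card_of_char_ne_two fun h =>
    two (by have := ringChar.Nat.cast_ringChar (R := F); rwa [h] at this)
  obtain ⟨s, t, hst⟩ := FiniteField.exists_root_sum_quadratic
    (f := Polynomial.C (bf B u u) * Polynomial.X ^ 2)
    (g := Polynomial.C (bf B v v) * Polynomial.X ^ 2 + Polynomial.C (bf B w w))
    (Polynomial.degree_C_mul_X_pow 2 (hh u hu))
    (by rw [Polynomial.degree_add_C (by rw [Polynomial.degree_C_mul_X_pow 2 (hh v hv)]; norm_num),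
      Polynomial.degree_C_mul_X_pow 2 (hh v hv)]; rfl) hodd
  simp only [Polynomial.eval_add, Polynomial.eval_mul, Polynomial.eval_C, Polynomial.eval_pow,
    Polynomial.eval_X] at hst
  refine hh (s • u + t • v + w) (fun h0 => hh w hw ?_) ?_
  · have := congrArg (bf B w ·) h0
    simpa [sf_add_right, bf_smul_right, h2, h4, sf_zero_right] using this
  · simp only [sf_add_left, sf_add_right, sf_smul_left, bf_smul_right, h1, h2, h4,
      bf_symm hB u v, bf_symm hB u w, bf_symm hB v w]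
    linear_combination hst

theorem exists_hyp_sym (hB : Bᵀ = B) (two : (2 : F) ≠ 0) (hd : B.det ≠ 0) {a : ι → F} (ha0 : a ≠ 0)
    (ha : bf B a a = 0) : ∃ b, bf B b b = 0 ∧ bf B b a = 1 := by
  obtain ⟨v, hv⟩ := exists_bf_one hd ha0
  refine ⟨v - (2⁻¹ * bf B v v) • a, ?_, by rw [sf_sub_left, sf_smul_left, ha, hv]; simp⟩
  simp only [sf_sub_left, sf_sub_right, sf_smul_left, bf_smul_right, ha, hv, bf_symm hB a v]
  field_simp
  ring

theorem exists_nonsing_perp (hB : Bᵀ = B) (two : (2 : F) ≠ 0) (hd : B.det ≠ 0)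
    (h3 : 3 ≤ Fintype.card ι) {a b : ι → F} (ha : bf B a a = 0) (hb : bf B b b = 0)
    (hab : bf B b a = 1) : ∃ z, bf B z a = 0 ∧ bf B z b = 0 ∧ bf B z z ≠ 0 := by
  obtain ⟨z, hz, h1, h2⟩ := exists_perp2 h3 (pb B a) (pb B b)
  rw [pb_dot] at h1 h2
  obtain ⟨y, hy⟩ := exists_bf_one hd hz
  have h4 : bf B (y - bf B y b • a - bf B y a • b) a = 0 := by
    simp [sf_sub_left, sf_smul_left, ha, hab]
  have h5 : bf B (y - bf B y b • a - bf B y a • b) b = 0 := by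
    simp [sf_sub_left, sf_smul_left, hb, bf_symm hB a b, hab]
  have h6 : bf B (y - bf B y b • a - bf B y a • b) z = 1 := by
    simp [sf_sub_left, sf_smul_left, bf_symm hB a z, bf_symm hB b z, h1, h2, hy]
  generalize y - bf B y b • a - bf B y a • b = w at *
  by_contra hh
  push Not at hh
  have := hh (z + w) (by rw [sf_add_left, h1, h4, add_zero]) (by rw [sf_add_left, h2, h5, add_zero])
  simp only [sf_add_left, sf_add_right, hh z h1 h2, hh w h4 h5, bf_symm hB z w, h6] at this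
  exact two (by linear_combination this)

theorem semi_sym [Finite F₀] {e χ : F₀ →+* F} {G : Matrix ι ι F} {B : Matrix ι ι F₀}
    (hB : Bᵀ = B) (two : (2 : F₀) ≠ 0) (hd : B.det ≠ 0) (h3 : 3 ≤ Fintype.card ι) (hG : G.det ≠ 0)
    (h : ∀ a : ι → F₀, a ≠ 0 → bf B a a = 0 → ∃ c : F, G *ᵥ (χ ∘ a) = c • (e ∘ a)) :
    (∃ l : F, G = l • 1) ∧ ∀ x, χ x = e x := by
  have h' : ∀ a : ι → F₀, bf B a a = 0 → ∃ c : F, G *ᵥ (χ ∘ a) = c • (e ∘ a) := fun a ha => by
    by_cases h0 : a = 0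
    · exact ⟨0, by simp [h0, czero]⟩
    · exact h a h0 ha
  have two' : (2 : F) ≠ 0 := fun h0 => two (e.injective (by rw [map_ofNat, h0, map_zero]))
  have key : ∀ (a b z : ι → F₀) (l m : F), bf B a a = 0 → bf B b b = 0 → bf B b a = 1 →
      bf B z a = 0 → bf B z b = 0 → G *ᵥ (χ ∘ a) = l • (e ∘ a) → G *ᵥ (χ ∘ b) = m • (e ∘ b) →
      Ind3 F (e ∘ a) (e ∘ b) (e ∘ z) → ∃ k : F, G *ᵥ (χ ∘ z) = l • (e ∘ z) + k • (e ∘ b) := by
    intro a b z l m ha hb hab hza hzb ea eb i3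
    obtain ⟨c, hc⟩ : ∃ c, 2 * c = bf B z z := ⟨2⁻¹ * bf B z z, by field_simp⟩
    obtain ⟨n₁, e1⟩ := h' (a + z - c • b) (by
      simp only [sf_add_left, sf_add_right, sf_sub_left, sf_sub_right, sf_smul_left, bf_smul_right,
        ha, hb, hab, hza, hzb, bf_symm hB a b, bf_symm hB a z, bf_symm hB b z]
      linear_combination -hc)
    obtain ⟨n₂, e2⟩ := h' (a - z - c • b) (by
      simp only [sf_add_left, sf_add_right, sf_sub_left, sf_sub_right, sf_smul_left, bf_smul_right,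
        ha, hb, hab, hza, hzb, bf_symm hB a b, bf_symm hB a z, bf_symm hB b z]
      linear_combination -hc)
    simp only [cadd, csub, csmul, mulVec_add, mulVec_sub, mulVec_smul, ea,
      eb] at e1 e2
    have k1 := i3 (2 * l - n₁ - n₂) ((n₁ + n₂) * e c - 2 * χ c * m) (n₂ - n₁)
      (by linear_combination (norm := module) e2 + e1)
    have k2 : 2 * (l - n₁) = 0 := by linear_combination k1.1 + k1.2.2
    rw [mul_eq_zero, or_iff_right two', sub_eq_zero] at k2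
    subst k2
    exact ⟨χ c * m - l * e c, by linear_combination (norm := module) e1⟩
  obtain ⟨a, ha0, ha⟩ := exists_singular hB two h3
  obtain ⟨b, hb, hab⟩ := exists_hyp_sym hB two hd ha0 ha
  have hba : bf B a b = 1 := by rw [bf_symm hB, hab]
  obtain ⟨l, ea⟩ := h' a ha
  obtain ⟨m, eb⟩ := h' b hb
  refine semi_assemble h3 hG (f := pb B b) (g := pb B a) (by rwa [pb_dot])
    (by rwa [pb_dot]) (by rwa [pb_dot]) (by rwa [pb_dot]) ea eb fun z h1 h2 i3 => ?_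
  rw [pb_dot] at h1 h2
  exact ⟨key a b z l m ha hb hab h2 h1 ea eb i3, key b a z m l hb ha hba h1 h2 eb ea i3.rot.swap⟩

end sym

variable {H : Type*} [Group H] {ρ : H →* Matrix ι ι F} {B : Matrix ι ι F}

variable (ρ) in
/-- an element interchanging two points -/
def Swaps (w : H) : Prop :=
  ∃ a b : ι → F, ¬ Par a b ∧ Par (ρ w *ᵥ a) b ∧ Par (ρ w *ᵥ b) a

theorem Swaps.pow {w : H} (h : Swaps ρ w) {k : ℕ} (hk : Odd k) : Swaps ρ (w ^ k) := by
  obtain ⟨a, b, h0, h1, h2⟩ := h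
  obtain ⟨j, rfl⟩ := hk
  refine ⟨a, b, h0, ?_⟩
  induction j with
  | zero => simpa using ⟨h1, h2⟩
  | succ j ih =>
    rw [show 2 * (j + 1) + 1 = 2 * j + 1 + 1 + 1 by ring, pow_succ', pow_succ', map_mul, map_mul]
    simp only [← mulVec_mulVec]
    exact ⟨((((ih.1.mulVec _).trans h2).mulVec _).trans h1),
      ((((ih.2.mulVec _).trans h1).mulVec _).trans h2)⟩

theorem Swaps.ne_smul {w : H} (h : Swaps ρ w) (c : F) : ρ w ≠ c • 1 := by
  obtain ⟨a, b, h0, ⟨d, hd, h1⟩, h2⟩ := h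
  intro e
  rw [e, smul_mulVec, one_mulVec] at h1 h2
  obtain ⟨d', hd', h2⟩ := h2
  by_cases hc : c = 0
  · rw [hc, zero_smul, smul_zero] at h1 h2
    exact h0 (by rw [h1, h2]; exact Par.refl _)
  · exact h0 ⟨d * c, mul_ne_zero hd hc, by rw [h1, smul_smul]⟩

variable (ρ B) in
/-- a group acting faithfully as the special orthogonal group (odd characteristic) -/
structure SOlike : Prop where
  symm : Bᵀ = B
  two : (2 : F) ≠ 0
  det : B.det ≠ 0
  inj : Function.Injective ρ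
  isom : ∀ g u v, bf B (ρ g *ᵥ u) (ρ g *ᵥ v) = bf B u v
  surj : ∀ M : Matrix ι ι F, M.det = 1 → (∀ u v, bf B (M *ᵥ u) (M *ᵥ v) = bf B u v) →
    ∃ g, ρ g = M

namespace SOlike

variable (U : SOlike ρ B)
include U

theorem toIsom : Isom ρ (RingEquiv.refl F) B :=
  ⟨U.det, fun u v h => (bf_symm U.symm v u).trans h, U.isom⟩

theorem exists_rho {a u : ι → F} (ha : bf B a a = 0) (hu : bf B u a = 0) :
    ∃ g ∈ flagQ ρ a (pb B a), ∀ v,
      ρ g *ᵥ v = v + bf B v a • u + (-(2⁻¹ * bf B u u) * bf B v a - bf B v u) • a := by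
  obtain ⟨l, hl, hl'⟩ : ∃ l, l = -(2⁻¹ * bf B u u) ∧ 2 * l = - bf B u u :=
    ⟨_, rfl, by have := U.two; field_simp⟩
  rw [← hl]
  have hu' : bf B a u = 0 := (bf_symm U.symm a u).trans hu
  have e : ∀ v, (tv u (pb B a) * tv a (l • pb B a - pb B u)) *ᵥ v =
      v + bf B v a • u + (l * bf B v a - bf B v u) • a := fun v => by
    simp only [← mulVec_mulVec, tv_mulVec, sub_dotProduct, smul_dotProduct, pb_dot, smul_eq_mul,
      sf_add_left, sf_smul_left, ha, mul_zero, add_zero]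
    abel
  obtain ⟨g, hg⟩ := U.surj (tv u (pb B a) * tv a (l • pb B a - pb B u))
    (by rw [det_mul, det_tv (by rw [pb_dot, hu]), det_tv (by
      rw [sub_dotProduct, smul_dotProduct, pb_dot, pb_dot, ha, hu']; simp), mul_one])
    fun v w => by
      simp only [e, sf_add_left, sf_add_right, sf_smul_left, bf_smul_right, ha, hu, hu',
        bf_symm U.symm a w, bf_symm U.symm u w]
      linear_combination bf B v a * bf B w a * hl'
  refine ⟨g, ⟨?_, fun v => ?_, fun v hv => ⟨- bf B v u, ?_⟩⟩, fun v => by rw [hg, e]⟩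
  · rw [hg, e, ha, hu']; simp
  · rw [hg, e]; simp [pb_dot, sf_add_left, sf_smul_left, ha, hu]
  · rw [pb_dot] at hv
    rw [hg, e, hv]; simp

theorem exists_flag_map {a b c : ι → F} (ha : bf B a a = 0) (hb : bf B b b = 0) (hc : bf B c c = 0)
    (h1 : bf B b a ≠ 0) (h2 : bf B c a ≠ 0) :
    ∃ x ∈ flagQ ρ a (pb B a), Par (ρ x *ᵥ b) c := by
  obtain ⟨g, hg, e⟩ := U.exists_rho ha (u := (bf B c a)⁻¹ • c - (bf B b a)⁻¹ • b)
    (by rw [sf_sub_left, sf_smul_left, sf_smul_left, inv_mul_cancel₀ h1, inv_mul_cancel₀ h2,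
      sub_self])
  refine ⟨g, hg, Par.symm ⟨bf B b a * (bf B c a)⁻¹, mul_ne_zero h1 (inv_ne_zero h2), ?_⟩⟩
  have : -(2⁻¹ * bf B ((bf B c a)⁻¹ • c - (bf B b a)⁻¹ • b) ((bf B c a)⁻¹ • c - (bf B b a)⁻¹ • b)) *
      bf B b a - bf B b ((bf B c a)⁻¹ • c - (bf B b a)⁻¹ • b) = 0 := by
    simp only [sf_sub_left, sf_sub_right, sf_smul_left, bf_smul_right, hb, hc, bf_symm U.symm c b]
    have := U.two
    field_simp
    ring
  rw [e, this, smul_sub, smul_smul, smul_smul, mul_inv_cancel₀ h1]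
  module

theorem exists_sq (h3 : 3 ≤ Fintype.card ι) {a : ι → F} (ha0 : a ≠ 0) (ha : bf B a a = 0)
    (r : ℕ) [Fact r.Prime] [CharP F r] :
    ∃ g f, g ^ r ^ 2 = 1 ∧ f ≠ 0 ∧ (ρ g - 1) * (ρ g - 1) = vecMulVec a f := by
  obtain ⟨b, hb, hab⟩ := exists_hyp_sym U.symm U.two U.det ha0 ha
  obtain ⟨z, h1, -, h2⟩ := exists_nonsing_perp U.symm U.two U.det h3 ha hb hab
  obtain ⟨g, hg, e⟩ := U.exists_rho ha h1
  refine ⟨g, (-bf B z z) • pb B a, flagQ_pow U.inj r hg,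
    smul_ne_zero (neg_ne_zero.2 h2) (pf_ne_zero U.det ha0), ext_mulVec fun v => ?_⟩
  simp only [← mulVec_mulVec, sub_mulVec, one_mulVec, e, vecMulVec_mulVec', smul_dotProduct, pb_dot,
    sf_add_left, sf_sub_left, sf_smul_left, ha, h1, bf_symm U.symm a z, smul_eq_mul]
  module

theorem exists_swaps [Finite F] (h3 : 3 ≤ Fintype.card ι) {M : Subgroup H} [M.Normal] {m : H}
    (hm : m ∈ M) (h : ∀ c : F, ρ m ≠ c • 1) : ∃ w ∈ M, Swaps ρ w := by
  obtain ⟨r, hr⟩ := CharP.exists F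
  have : Fact r.Prime := ⟨CharP.char_is_prime F r⟩
  have hodd : Odd (r ^ 2) := Odd.pow ((Fact.out : r.Prime).odd_of_ne_two fun h2 =>
    U.two (by have := CharP.cast_eq_zero F r; rwa [h2] at this))
  obtain ⟨a, ha0, ha, hp⟩ : ∃ a, a ≠ 0 ∧ bf B a a = 0 ∧ ¬ Par a (ρ m *ᵥ a) := by
    by_contra hh
    push Not at hh
    obtain ⟨⟨c, hc⟩, -⟩ := semi_sym (e := RingHom.id F) (χ := RingHom.id F) (G := ρ m) U.symm U.two
      U.det h3 (fun h0 => by
        have : (ρ m * ρ m⁻¹).det = 1 := by rw [← map_mul, mul_inv_cancel, map_one, det_one]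
        rw [det_mul, h0, zero_mul] at this
        exact zero_ne_one this) fun v h0 hv => by
      obtain ⟨c, -, e⟩ := hh v h0 hv
      exact ⟨c, e⟩
    exact h c hc
  have hb : bf B (ρ m *ᵥ a) (ρ m *ᵥ a) = 0 := by rw [U.isom, ha]
  have hb0 := rho_mulVec_ne_zero (ρ := ρ) m ha0
  have hQ : ∀ t ∈ flagQ ρ (ρ m *ᵥ a) (pb B (ρ m *ᵥ a)), t ∈ M ⊔ flagQ ρ a (pb B a) := fun t ht => by
    have hp : Par (ρ m⁻¹ *ᵥ (ρ m *ᵥ a)) a := by rw [inv_mulVec_mulVec]; exact Par.refl a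
    exact mem_sup_of_conj (M.inv_mem hm) (conj_mem_flagQ hp (U.toIsom.par_vecMul hp) ht)
  generalize ρ m *ᵥ a = b at *
  suffices hw : ∃ w ∈ M ⊔ flagQ ρ a (pb B a), Par (ρ w *ᵥ a) b ∧ Par (ρ w *ᵥ b) a by
    obtain ⟨w, h1, h2⟩ := hw
    exact ⟨_, pow_mem_of_mem_sup (fun d hd => flagQ_pow U.inj r hd) h1,
      Swaps.pow ⟨a, b, hp, h2⟩ hodd⟩
  by_cases hab : bf B b a = 0
  · have i2 := ind2_of_not_par ha0 hb0 hp
    have hba : bf B a b = 0 := (bf_symm U.symm a b).trans hab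
    obtain ⟨u, h1, h2⟩ := exists_bf_of_ind2 U.det i2
    obtain ⟨v, h4, h5⟩ := exists_bf_of_ind2 U.det i2.symm
    obtain ⟨x, hx, ex⟩ := U.exists_rho ha (u := v) ((bf_symm U.symm v a).trans h5)
    obtain ⟨y, hy, ey⟩ := U.exists_rho hb (u := -u)
      (by rw [sf_neg_left, bf_symm U.symm u b, h2, neg_zero])
    have e1 : ρ x *ᵥ b = b - a := by rw [ex, hab, h4]; module
    have e2 : ρ y *ᵥ a = a + b := by rw [ey, hba, sf_neg_right _ _ a u, h1]; module
    refine ⟨x * y * x, mul_mem (mul_mem (Subgroup.mem_sup_right hx) (hQ y hy))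
      (Subgroup.mem_sup_right hx), ?_, -1, by simp, ?_⟩
    · simp only [map_mul, ← mulVec_mulVec, hx.1, e2, mulVec_add, e1, add_sub_cancel]
      exact Par.refl b
    · simp only [map_mul, ← mulVec_mulVec, hx.1, hy.1, e2, mulVec_add, mulVec_sub, e1]
      module
  · obtain ⟨z, h1, h2, h4⟩ := exists_nonsing_perp U.symm U.two U.det h3 ha
      (b := (bf B b a)⁻¹ • b) (by rw [sf_smul_left, bf_smul_right, hb, mul_zero, mul_zero])
      (by rw [sf_smul_left, inv_mul_cancel₀ hab])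
    rw [bf_smul_right, mul_eq_zero, or_iff_right (inv_ne_zero hab)] at h2
    obtain ⟨k, hk0, hk⟩ : ∃ k, k ≠ 0 ∧ 2 * k * bf B b a = bf B z z :=
      ⟨2⁻¹ * bf B z z * (bf B b a)⁻¹, by have := U.two; positivity, by
        have := U.two; field_simp⟩
    have hba : bf B a b ≠ 0 := by rwa [bf_symm U.symm]
    have c0 : bf B (a + z - k • b) (a + z - k • b) = 0 := by
      simp only [sf_add_left, sf_add_right, sf_sub_left, sf_sub_right, sf_smul_left, bf_smul_right,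
        ha, hb, h1, h2, bf_symm U.symm a b, bf_symm U.symm a z, bf_symm U.symm b z]
      linear_combination -hk
    have c1 : bf B (a + z - k • b) a ≠ 0 := by
      simp [sf_add_left, sf_sub_left, sf_smul_left, ha, h1, hk0, hab]
    have c2 : bf B (a + z - k • b) b ≠ 0 := by
      simp [sf_add_left, sf_sub_left, sf_smul_left, hb, h2, hba]
    generalize a + z - k • b = c at *
    obtain ⟨x, hx, ex⟩ := U.exists_flag_map ha hb c0 hab c1
    obtain ⟨y, hy, ey⟩ := U.exists_flag_map hb c0 ha c2 hba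
    have c3 : bf B (ρ y *ᵥ a) a ≠ 0 := by
      obtain ⟨d, hd, ed⟩ := ey
      nth_rw 2 [ed]
      rw [bf_smul_right, U.isom, bf_symm U.symm]
      exact mul_ne_zero hd c1
    obtain ⟨x', hx', ex'⟩ := U.exists_flag_map ha (by rw [U.isom, ha]) hb c3 hab
    refine ⟨x' * y * x, mul_mem (mul_mem (Subgroup.mem_sup_right hx') (hQ y hy))
      (Subgroup.mem_sup_right hx), ?_, ?_⟩
    · simpa only [map_mul, ← mulVec_mulVec, hx.1] using ex'
    · simp only [map_mul, ← mulVec_mulVec]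
      have := (((ex.mulVec (ρ y)).trans ey).mulVec (ρ x'))
      rwa [hx'.1] at this

end SOlike

end Cfsg.Agent.H6
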