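import Mathlib
import Cfsg.Agent.H6.IwaO

/-!
Local balance for classical groups: common steps.
-/

set_option autoImplicit false

namespace Cfsg.Agent.H6

open Matrix FTPG

variable {ι : Type*} [Fintype ι] [DecidableEq ι] {F F₀ : Type*} [Field F] [Field F₀]
  {A N : Type*} [Group A] [Group N]

theorem comm_of_commute [Nonempty ι] (D : N →* A) (ν : N →* GL ι F)
    (hker : ∀ g, D g = 1 → ν g ∈ Subgroup.center (GL ι F)) {x : A} (θ : MulAut N)
    (hx : ∀ g, x * D g * x⁻¹ = D (θ g)) {g y : N} (h : D g * x * D y = D y * (D g * x))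
    (r : ℕ) [Fact r.Prime] [CharP F r] {k : ℕ} (hy : y ^ r ^ k = 1) :
    ν g * ν (θ y) = ν y * ν g := by
  have h1 : D (g * θ y * g⁻¹ * y⁻¹) = 1 := by
    rw [map_mul, map_mul, map_mul, ← hx, map_inv, map_inv]
    calc D g * (x * D y * x⁻¹) * (D g)⁻¹ * (D y)⁻¹
        = (D g * x * D y) * (D g * x)⁻¹ * (D y)⁻¹ := by group
      _ = 1 := by rw [h]; group
  obtain ⟨u, hu⟩ := (mem_center_gl_iff' _).1 (hker _ h1)
  have h2 : ν (g * θ y * g⁻¹) = GeneralLinearGroup.scalar ι u * ν y := by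
    rw [← hu, ← map_mul, inv_mul_cancel_right]
  have h3 : GeneralLinearGroup.scalar ι u ^ r ^ k = 1 := by
    have h4 := congrArg (· ^ r ^ k) h2
    have hc : Commute (GeneralLinearGroup.scalar ι u) (ν y) :=
      (Subgroup.mem_center_iff.1 (scalar_mem_center u) _).symm
    simp only [hc.mul_pow, ← map_pow, conj_pow, hy, map_one, mul_one, mul_inv_cancel] at h4
    rw [← map_pow, h4]
  have h5 : (u : F) = 1 := smul_one_pow_eq_one (ι := ι) (p := r) (k := k) (by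
    rw [← coe_gl_scalar, ← Units.val_pow_eq_pow_val, h3, Units.val_one])
  rw [show u = 1 from Units.ext h5, map_one, one_mul, map_mul, map_mul, map_inv] at h2
  rw [← h2, inv_mul_cancel_right]

theorem orderOf_dvd_of_fix [Finite F] {σ τ : F ≃+* F} (h : ∀ x, σ x = x → τ x = x) :
    orderOf τ ∣ orderOf σ := by
  have hle : fixF σ ≤ fixF τ := fun x hx => mem_fixF.2 (h x (mem_fixF.1 hx))
  letI : Algebra (fixF σ) (fixF τ) := (Subfield.inclusion hle).toAlgebra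
  have h1 := Module.natCard_eq_pow_finrank (K := fixF σ) (V := fixF τ)
  have h2 := card_fixF_pow τ
  rw [h1, ← pow_mul, ← card_fixF_pow σ] at h2
  exact ⟨_, (Nat.pow_right_injective (Finite.one_lt_card (α := fixF σ)) h2).symm.trans
    (mul_comm _ _)⟩

theorem pow_eq_one_of_DΦ {Γ : Type*} [Group Γ] (D : N →* A) (Φ : Γ →* A) (θ : Γ → MulAut N)
    (hθ : ∀ σ g, Φ σ * D g * (Φ σ)⁻¹ = D (θ σ g)) (hinj : ∀ σ, Φ σ ∈ D.range → σ = 1) {g : N}
    {σ : Γ} {k : ℕ} (h : (D g * Φ σ) ^ k = 1) : σ ^ k = 1 := by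
  rw [mul_pow_twisted D _ _ (hθ σ), ← map_pow, mul_eq_one_iff_eq_inv', ← map_inv] at h
  exact hinj _ ⟨_, h.symm⟩

theorem mem_center_of_inj {H G : Type*} [Group H] [Group G] {j : H →* G}
    (inj : Function.Injective j) {s : H} (h : j s ∈ Subgroup.center G) : s ∈ Subgroup.center H :=
  Subgroup.mem_center_iff.2 fun g => inj (by
    rw [map_mul, map_mul, Subgroup.mem_center_iff.1 h])

theorem conj_injective_of {H : Type*} [Group H] {j : H →* GL ι F} (inj : Function.Injective j)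
    (h : ∀ s : H, MulAut.conj (QuotientGroup.mk s : H ⧸ Subgroup.center H) = 1 →
      j s ∈ Subgroup.center (GL ι F)) :
    Function.Injective (MulAut.conj : H ⧸ Subgroup.center H →* _) :=
  (injective_iff_map_eq_one _).2 fun k hk => by
    induction k using QuotientGroup.induction_on with
    | H s => exact (QuotientGroup.eq_one_iff s).2 (mem_center_of_inj inj (h s hk))

theorem map_mem_center_iff' (e : F₀ →+* F) (y : GL ι F₀) :
    GeneralLinearGroup.map e y ∈ Subgroup.center (GL ι F) ↔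
      ∃ c : F₀, (y : Matrix ι ι F₀) = c • 1 := by
  rw [map_mem_center_iff, mem_center_gl_iff]

section field

variable {N₀ H₀ : Type*} [Group N₀] [Group H₀] {I : Subgroup A} {D : N →* A} {ν : N →* GL ι F}
  {Φ : (F ≃+* F) →* A} {θ : (F ≃+* F) → MulAut N} {σ : F ≃+* F} {e : F₀ →+* F}
  {ψ : N₀ →* N} {ν₀ : N₀ →* GL ι F₀} {j : H₀ →* N₀} {p : ℕ}

theorem mem_cent_of_fix {x : A} {θ : MulAut N} (hθ : ∀ g, x * D g * x⁻¹ = D (θ g)) {y : N}
    (h : θ y = y) : D y ∈ Subgroup.centralizer {x} := by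
  rw [commute_twisted_iff D x θ hθ, h, mul_inv_cancel]
  exact one_mem _

theorem field_case [Finite A] [Finite F] [Nonempty ι] [I.Normal] [Fact p.Prime] [j.range.Normal]
    (r : ℕ) [Fact r.Prime] [CharP F r]
    (hθ : ∀ σ g, Φ σ * D g * (Φ σ)⁻¹ = D (θ σ g)) (hν : ∀ σ g, ν (θ σ g) = glField ι F σ (ν g))
    (hker : ∀ g, D g = 1 ↔ ν g ∈ Subgroup.center (GL ι F)) (hI : I ≤ D.range)
    (hσ : orderOf σ = p) (he : ∀ x, σ x = x ↔ ∃ y, e y = x)
    (hψ : ∀ y, ν (ψ y) = GeneralLinearGroup.map e (ν₀ y)) (hfix : ∀ y, θ σ (ψ y) = ψ y)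
    (hsurj : ∀ h, D (h * (θ σ h)⁻¹) = 1 → ∃ y, D h = D (ψ y)) (hjI : ∀ s, D (ψ (j s)) ∈ I)
    (haut : ∀ n : A, (∀ s, n * D (ψ (j s)) = D (ψ (j s)) * n) → ∃ g τ, n = D g * Φ τ)
    (semi : ∀ (G : Matrix ι ι F) (χ : F₀ →+* F), G.det ≠ 0 →
      (∀ s, s ^ r ^ 2 = 1 → SComm e χ G (ν₀ (j s))) → (∃ l : F, G = l • 1) ∧ ∀ x, χ x = e x)
    (U : Subgroup H₀) {k d : ℕ} (hk : k.Coprime p)
    (iwa : ∀ M : Subgroup H₀, M.Normal → ∀ m ∈ M, (∀ c : F₀, (ν₀ (j m) : Matrix ι ι F₀) ≠ c • 1) →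
      ∀ s ∈ U, s ^ k ∈ M)
    (pow : ∀ y, ∃ s ∈ U, j s = y ^ d)
    (elt : p ∣ d → ∃ s ∈ U, s ^ p ^ 2 = 1 ∧ ∀ c : F₀, (ν₀ (j s) : Matrix ι ι F₀) ≠ c • 1)
    (h : Unbal p I (Φ σ)) : (Nat.card ↥(I ⊓ Subgroup.centralizer {Φ σ})).Coprime p := by
  have hne : ∀ s, (D.comp ψ) (j s) ≠ 1 ↔ ∀ c : F₀, (ν₀ (j s) : Matrix ι ι F₀) ≠ c • 1 := fun s => by
    rw [MonoidHom.comp_apply, Ne, hker, hψ, map_mem_center_iff', not_exists]
  refine h.coprime (D.comp ψ) j (fun s => ⟨hjI s, mem_cent_of_fix (hθ σ) (hfix _)⟩)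
    (fun c hc => ?_) (fun n hn hc => ?_) U hk
    (fun M hM ⟨m, hm, h1⟩ => iwa M hM m hm ((hne m).1 h1)) pow fun hd => ?_
  · obtain ⟨g, rfl⟩ := hI hc.1
    exact hsurj g ((commute_twisted_iff D _ _ (hθ σ) g).1 hc.2)
  · obtain ⟨g, τ, rfl⟩ := haut n hc
    obtain ⟨h1, h2⟩ := semi (ν g) ((τ : F →+* F).comp e) (GeneralLinearGroup.det_ne_zero _)
      fun s hs => by
        have := comm_of_commute D ν (fun g => (hker g).1) (θ τ) (hθ τ) (hc s) r (k := 2)
          (by rw [← map_pow, ← map_pow, hs, map_one, map_one])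
        rw [hν, hψ] at this
        exact congrArg Units.val this
    rw [(hker g).2 ((mem_center_gl_iff _).2 h1), one_mul] at hn ⊢
    have h3 : orderOf τ ∣ p := hσ ▸ orderOf_dvd_of_fix fun x hx => by
      obtain ⟨y, rfl⟩ := (he x).1 hx
      exact h2 y
    refine eq_one_of_pow_of_coprime hn (pow_orderOf_eq_one _) ?_
    rw [← map_pow, orderOf_dvd_iff_pow_eq_one.1 h3, map_one]
  · obtain ⟨s, h1, h2, h3⟩ := elt hd
    exact ⟨s, h1, (hne s).2 h3, h2⟩

end field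

section tvpres

variable {H : Type*} [Group H] {ρ : H →* Matrix ι ι F}

local notation "mk" => (QuotientGroup.mk : H → H ⧸ Subgroup.center H)

theorem TvOr1.conj {t : H} (h : TvOr1 ρ t) (x : H) : TvOr1 ρ (x * t * x⁻¹) := by
  obtain ⟨a, f, h1, h2⟩ := h
  obtain ⟨g, h3, h4⟩ := conj_mem_tvAt (ρ := ρ) (x := x) (Par.refl _) ⟨f, h1, h2⟩
  exact ⟨_, g, h3, h4⟩

theorem Splike.tvPres_of_one [Finite F] [CharP F 2] {B : Matrix ι ι F} (U : Splike ρ B)
    {α : MulAut (H ⧸ Subgroup.center H)} {t t' : H} {a f : ι → F} (ht : IsTv ρ t a f)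
    (ht' : TvOr1 ρ t') (h : α (mk t) = mk t') : TvPres ρ α := by
  intro s hs
  rcases hs.cases with h1 | ⟨b, g, hs⟩
  · rw [show s = 1 from U.inj (by rw [h1, map_one])]
    exact ⟨1, ⟨0, 0, by simp, by simp⟩, by simp⟩
  obtain ⟨x, rfl⟩ := U.isConj_tv ht hs
  obtain ⟨x', hx⟩ := exists_corr α x
  exact ⟨_, ht'.conj x', by simp [hx, h]⟩

variable (ρ) in
/-- automorphisms preserving the transvections -/
def tvPresSub [Finite H] (hmk : Function.Injective (QuotientGroup.mk' (Subgroup.center H))) :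
    Subgroup (MulAut (H ⧸ Subgroup.center H)) where
  carrier := {α | TvPres ρ α}
  one_mem' := fun t ht => ⟨t, ht, rfl⟩
  mul_mem' {α β} ha hb := fun t ht => by
    obtain ⟨s, hs, e⟩ := hb t ht
    obtain ⟨u, hu, e'⟩ := ha s hs
    exact ⟨u, hu, by rw [MulAut.mul_apply, e, e']⟩
  inv_mem' := tvPres_inv hmk

end tvpres

section sp

variable {m : ℕ}

theorem tvPres_spDΦ (g : GSp m F) (σ : F ≃+* F) :
    TvPres (jRho (spJ F m)) (spD F m g * spΦ F m σ) := fun t ht => by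
  rcases ht.cases with h | ⟨a, f, h⟩
  · rw [show t = 1 from spLike.inj (by rw [h, map_one])]
    exact ⟨1, ⟨0, 0, by simp, by simp⟩, map_one _⟩
  · obtain ⟨t', f', h2, h3⟩ := gDΦ_tv (spJ F m) spJ_inj field_mem_stab_sp gsp_normalizes g σ h
    exact ⟨t', h2.tvOr1, h3⟩

theorem psp_aut_odd [Finite F] (hm : 2 ≤ m) (α : MulAut (PSp m F))
    (h : (2 : F) = 0 → Odd (orderOf α)) : ∃ g σ, α = spD F m g * spΦ F m σ := by
  by_cases h2 : (2 : F) ≠ 0 ∨ 3 ≤ m
  · exact psp_aut hm h2 α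
  push Not at h2
  obtain rfl : m = 2 := by omega
  have : CharP F 2 := (CharP.charP_iff_prime_eq_zero Nat.prime_two).2 h2.1
  have U := spLike (F := F) (m := 2)
  have h3 : α ∈ tvPresSub (jRho (spJ F 2)) U.mk_bijective.1 :=
    mem_of_odd_order _ (gamAut F) (fun β => by
      obtain ⟨g, σ, h | h⟩ := psp4_aut β
      · exact Or.inl (h ▸ tvPres_spDΦ g σ)
      · exact Or.inr (h ▸ tvPres_spDΦ g σ)) (h h2.1)
  exact psp_aut_of_tvPres le_rfl h3 (inv_mem h3)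

theorem psp_conj_inj :
    Function.Injective (MulAut.conj : PSp m F →* _) :=
  conj_injective_of spJ_inj fun s hs => (spD_eq_one_iff ⟨_, spJ_mem_GSp s⟩).1
    ((diagAut_j spJ_inj gsp_normalizes rfl).trans hs)

theorem psp_aut_of_fix [Finite F] (hm : 2 ≤ m) (α : MulAut (PSp m F))
    {t : Matrix.symplecticGroup (Fin m) F} {a f : Fin m ⊕ Fin m → F}
    (ht : IsTv (jRho (spJ F m)) t a f) {g : GSp m F} (hg : g.1 = spJ F m t)
    (h : α * spD F m g = spD F m g * α) : ∃ g σ, α = spD F m g * spΦ F m σ := by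
  by_cases h2 : (2 : F) = 0
  swap
  · exact psp_aut hm (Or.inl h2) α
  have : CharP F 2 := (CharP.charP_iff_prime_eq_zero Nat.prime_two).2 h2
  have U := spLike (F := F) (m := m)
  have h3 : TvPres (jRho (spJ F m)) α := U.tvPres_of_one ht ht.tvOr1 (psp_conj_inj (by
    rw [spD, diagAut_j spJ_inj gsp_normalizes hg, ← mul_inv_eq_iff_eq_mul] at h
    rw [← h]
    ext x
    simp))
  exact psp_aut_of_tvPres hm h3 (tvPres_inv U.mk_bijective.1 h3)

end sp

end Cfsg.Agent.H6
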