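import Mathlib
import Cfsg.Agent.H6.BalLib

/-!
Local balance for classical groups: graph automorphisms and unitary groups.
-/

set_option autoImplicit false

namespace Cfsg.Agent.H6

open Matrix FTPG

variable {ι : Type*} [Fintype ι] [DecidableEq ι] {F F₀ : Type*} [Field F] [Field F₀]
  {A N : Type*} [Group A] [Group N]

section general

variable {N₀ H₀ : Type*} [Group N₀] [Group H₀] {I : Subgroup A} {D : N →* A} {ν : N →* GL ι F}
  {Φ : (F ≃+* F) →* A} {θ : (F ≃+* F) → MulAut N} {e : F₀ →+* F}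
  {ψ : N₀ →* N} {ν₀ : N₀ →* GL ι F₀} {j : H₀ →* N₀} {p : ℕ} {β : A} {θ₀ : MulAut N}

theorem general_case [Finite A] [Finite F] [Nonempty ι] [I.Normal] [Fact p.Prime] [j.range.Normal]
    (r : ℕ) [Fact r.Prime] [CharP F r]
    (hθ : ∀ σ g, Φ σ * D g * (Φ σ)⁻¹ = D (θ σ g)) (hν : ∀ σ g, ν (θ σ g) = glField ι F σ (ν g))
    (hker : ∀ g, D g = 1 ↔ ν g ∈ Subgroup.center (GL ι F)) (hI : I ≤ D.range)
    (hβ : ∀ g, β * D g * β⁻¹ = D (θ₀ g)) (he : ∀ τ : F ≃+* F, (∀ x, τ (e x) = e x) → τ ^ p = 1)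
    (hψ : ∀ y, ν (ψ y) = GeneralLinearGroup.map e (ν₀ y)) (hfix : ∀ y, θ₀ (ψ y) = ψ y)
    (hsurj : ∀ h, D (h * (θ₀ h)⁻¹) = 1 → ∃ y, D h = D (ψ y)) (hjI : ∀ s, D (ψ (j s)) ∈ I)
    (haut : ∀ n : A, (orderOf n).Coprime p → ∃ g τ, n = D g * Φ τ)
    (semi : ∀ (G : Matrix ι ι F) (χ : F₀ →+* F), G.det ≠ 0 →
      (∀ s, s ^ r ^ 2 = 1 → SComm e χ G (ν₀ (j s))) → (∃ l : F, G = l • 1) ∧ ∀ x, χ x = e x)
    (U : Subgroup H₀) {k d : ℕ} (hk : k.Coprime p)
    (iwa : ∀ M : Subgroup H₀, M.Normal → ∀ m ∈ M, (∀ c : F₀, (ν₀ (j m) : Matrix ι ι F₀) ≠ c • 1) →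
      ∀ s ∈ U, s ^ k ∈ M)
    (pow : ∀ y, ∃ s ∈ U, j s = y ^ d)
    (elt : p ∣ d → ∃ s ∈ U, s ^ p ^ 2 = 1 ∧ ∀ c : F₀, (ν₀ (j s) : Matrix ι ι F₀) ≠ c • 1)
    (h : Unbal p I β) : (Nat.card ↥(I ⊓ Subgroup.centralizer {β})).Coprime p := by
  have hne : ∀ s, (D.comp ψ) (j s) ≠ 1 ↔ ∀ c : F₀, (ν₀ (j s) : Matrix ι ι F₀) ≠ c • 1 := fun s => by
    rw [MonoidHom.comp_apply, Ne, hker, hψ, map_mem_center_iff', not_exists]
  refine h.coprime (D.comp ψ) j (fun s => ⟨hjI s, mem_cent_of_fix hβ (hfix _)⟩)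
    (fun c hc => ?_) (fun n hn hc => ?_) U hk
    (fun M hM ⟨m, hm, h1⟩ => iwa M hM m hm ((hne m).1 h1)) pow fun hd => ?_
  · obtain ⟨g, rfl⟩ := hI hc.1
    exact hsurj g ((commute_twisted_iff D _ _ hβ g).1 hc.2)
  · obtain ⟨g, τ, rfl⟩ := haut n hn
    obtain ⟨h1, h2⟩ := semi (ν g) ((τ : F →+* F).comp e) (GeneralLinearGroup.det_ne_zero _)
      fun s hs => by
        have := comm_of_commute D ν (fun g => (hker g).1) (θ τ) (hθ τ) (hc s) r (k := 2)
          (by rw [← map_pow, ← map_pow, hs, map_one, map_one])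
        rw [hν, hψ] at this
        exact congrArg Units.val this
    rw [(hker g).2 ((mem_center_gl_iff _).2 h1), one_mul] at hn ⊢
    refine eq_one_of_pow_of_coprime hn (pow_orderOf_eq_one _) ?_
    rw [← map_pow, he τ h2, map_one]
  · obtain ⟨s, h1, h2, h3⟩ := elt hd
    exact ⟨s, h1, (hne s).2 h3, h2⟩

end general

section iso

/-- the isometry group of a bilinear form -/
def isoGrp (B : Matrix ι ι F) : Subgroup (GL ι F) where
  carrier := {g | (g : Matrix ι ι F)ᵀ * B * (g : Matrix ι ι F) = B}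
  one_mem' := by simp
  mul_mem' {a b} ha hb := by
    change (a * b : GL ι F).1ᵀ * B * (a * b : GL ι F).1 = B
    rw [Units.val_mul, transpose_mul]
    calc b.1ᵀ * a.1ᵀ * B * (a.1 * b.1) = b.1ᵀ * (a.1ᵀ * B * a.1) * b.1 := by
          simp only [Matrix.mul_assoc]
      _ = B := by rw [ha, hb]
  inv_mem' {a} ha := by
    change (a⁻¹ : GL ι F).1ᵀ * B * (a⁻¹ : GL ι F).1 = B
    nth_rw 1 [← show a.1ᵀ * B * a.1 = B from ha]
    calc (a⁻¹ : GL ι F).1ᵀ * (a.1ᵀ * B * a.1) * (a⁻¹ : GL ι F).1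
        = (a.1 * (a⁻¹ : GL ι F).1)ᵀ * B * (a.1 * (a⁻¹ : GL ι F).1) := by
          simp only [transpose_mul, Matrix.mul_assoc]
      _ = B := by rw [Units.mul_inv]; simp

theorem mem_isoGrp {B : Matrix ι ι F} {g : GL ι F} :
    g ∈ isoGrp B ↔ (g : Matrix ι ι F)ᵀ * B * (g : Matrix ι ι F) = B := Iff.rfl

/-- the determinant one isometries of a bilinear form -/
def soGrp (B : Matrix ι ι F) : Subgroup (GL ι F) :=
  isoGrp B ⊓ (GeneralLinearGroup.det : GL ι F →* Fˣ).ker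

theorem mem_soGrp {B : Matrix ι ι F} {g : GL ι F} :
    g ∈ soGrp B ↔ (g : Matrix ι ι F)ᵀ * B * (g : Matrix ι ι F) = B ∧ (g : Matrix ι ι F).det = 1 :=
  and_congr Iff.rfl (MonoidHom.mem_ker.trans Units.ext_iff)

variable {B : Matrix ι ι F}

theorem gram_of_isom {M : Matrix ι ι F} (h : ∀ u v, bf B (M *ᵥ u) (M *ᵥ v) = bf B u v) :
    Mᵀ * B * M = B := sf_ext (σ := RingHom.id F) fun u v => by rw [← bf_mulVec, h]

theorem det_ne_zero_of_gram (hd : B.det ≠ 0) {M : Matrix ι ι F} (h : Mᵀ * B * M = B) :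
    M.det ≠ 0 := fun h0 => hd (by rw [← h, det_mul, h0, mul_zero])

theorem isoGrp_spLike (hB : IsAlt B) (hd : B.det ≠ 0) : Splike (jRho (isoGrp B).subtype) B where
  alt := hB
  det := hd
  inj := fun _ _ h => Subtype.ext (Units.ext h)
  isom := fun g u v => (bf_mulVec _ _ _ _).trans (congrArg (bf · u v) g.2)
  surj := fun M h => ⟨⟨GeneralLinearGroup.mkOfDetNeZero M
    (det_ne_zero_of_gram hd (gram_of_isom h)), gram_of_isom h⟩, rfl⟩

theorem Splike.det_eq_one {H : Type*} [Group H] {ρ : H →* Matrix ι ι F} (U : Splike ρ B) (g : H) :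
    (ρ g).det = 1 := by
  have hg : g ∈ tvSub ρ := U.tvSub_eq_top ▸ Subgroup.mem_top g
  induction hg using Subgroup.closure_induction with
  | mem x hx => obtain ⟨a, f, h1, h2⟩ := hx; rw [h2, det_tv h1]
  | one => simp
  | mul x y _ _ hx hy => rw [map_mul, det_mul, hx, hy, one_mul]
  | inv x _ hx =>
    have : (ρ x * ρ x⁻¹).det = 1 := by rw [← map_mul, mul_inv_cancel, map_one, det_one]
    rwa [det_mul, hx, one_mul] at this

theorem soGrp_spLike (hB : IsAlt B) (hd : B.det ≠ 0) : Splike (jRho (soGrp B).subtype) B where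
  alt := hB
  det := hd
  inj := fun _ _ h => Subtype.ext (Units.ext h)
  isom := fun g u v => (bf_mulVec _ _ _ _).trans (congrArg (bf · u v) g.2.1)
  surj := fun M h => by
    obtain ⟨g, rfl⟩ := (isoGrp_spLike hB hd).surj M h
    exact ⟨⟨g, mem_soGrp.2 ⟨g.2, (isoGrp_spLike hB hd).det_eq_one g⟩⟩, rfl⟩

theorem soGrp_soLike (hB : Bᵀ = B) (two : (2 : F) ≠ 0) (hd : B.det ≠ 0) :
    SOlike (jRho (soGrp B).subtype) B where
  symm := hB
  two := two
  det := hd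
  inj := fun _ _ h => Subtype.ext (Units.ext h)
  isom := fun g u v => (bf_mulVec _ _ _ _).trans (congrArg (bf · u v) g.2.1)
  surj := fun M h1 h => ⟨⟨GeneralLinearGroup.mkOfDetNeZero M (h1 ▸ one_ne_zero),
    mem_soGrp.2 ⟨gram_of_isom h, h1⟩⟩, rfl⟩

theorem conj_mem_soGrp {y s : GL ι F} {c : F}
    (hy : (y : Matrix ι ι F)ᵀ * B * (y : Matrix ι ι F) = c • B) (hs : s ∈ soGrp B) :
    y * s * y⁻¹ ∈ soGrp B := by
  rw [mem_soGrp] at hs ⊢
  refine ⟨?_, by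
    rw [Units.val_mul, Units.val_mul, det_mul, det_mul, hs.2, mul_one, ← det_mul, Units.mul_inv,
      det_one]⟩
  calc _ = (y⁻¹ : GL ι F).1ᵀ * (s.1ᵀ * (y.1ᵀ * B * y.1) * s.1) * (y⁻¹ : GL ι F).1 := by
        simp only [Units.val_mul, transpose_mul, Matrix.mul_assoc]
    _ = (y⁻¹ : GL ι F).1ᵀ * (y.1ᵀ * B * y.1) * (y⁻¹ : GL ι F).1 := by
        rw [hy, Matrix.mul_smul, Matrix.smul_mul, hs.1]
    _ = (y.1 * (y⁻¹ : GL ι F).1)ᵀ * B * (y.1 * (y⁻¹ : GL ι F).1) := by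
        simp only [transpose_mul, Matrix.mul_assoc]
    _ = B := by rw [Units.mul_inv]; simp

theorem isAlt_of_skew (two : (2 : F) ≠ 0) (h : Bᵀ = -B) : IsAlt B :=
  isAlt_iff.2 ⟨h, fun i => by
    have := congrFun (congrFun h i) i
    rw [transpose_apply, Matrix.neg_apply] at this
    exact (mul_eq_zero.1 (show 2 * B i i = 0 by linear_combination this)).resolve_left two⟩

theorem so_facts [Finite F] (two : (2 : F) ≠ 0) (hd : B.det ≠ 0) (hB : Bᵀ = B ∨ Bᵀ = -B)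
    (h3 : 3 ≤ Fintype.card ι) (r : ℕ) [Fact r.Prime] [CharP F r] :
    (∀ a, a ≠ 0 → bf B a a = 0 → ∃ (g : soGrp B) (f : ι → F), g ^ r ^ 2 = 1 ∧ f ≠ 0 ∧
      (g.1.1 - 1 = vecMulVec a f ∨ (g.1.1 - 1) * (g.1.1 - 1) = vecMulVec a f)) ∧
    ∀ {A : Type*} [Group A] (Ψ : soGrp B →* A) (M : Subgroup (soGrp B)), M.Normal →
      (∀ s, Ψ s = 1 ↔ ∃ c : F, s.1.1 = c • 1) → (∃ m ∈ M, Ψ m ≠ 1) →
      ¬ ∀ m ∈ M, (orderOf (Ψ m)).Coprime 2 := by
  have hr : r ≠ 2 := fun h2 => two (by have := CharP.cast_eq_zero F r; rwa [h2] at this)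
  rcases hB with hB | hB
  · have U := soGrp_soLike hB two hd
    refine ⟨fun a ha0 ha => ?_, fun Ψ M hM h1 ⟨m, hm, h2⟩ h4 => ?_⟩
    · obtain ⟨g, f, h1, h2, h4⟩ := U.exists_sq h3 ha0 ha r
      exact ⟨g, f, h1, h2, Or.inr h4⟩
    · obtain ⟨w, hw, h5⟩ := U.exists_swaps h3 hm fun c hc => h2 ((h1 m).2 ⟨c, hc⟩)
      obtain ⟨c, hc⟩ := (h1 (w ^ orderOf (Ψ w))).1 (by rw [map_pow, pow_orderOf_eq_one])
      exact (h5.pow (Nat.coprime_two_right.1 (h4 w hw))).ne_smul c hc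
  · have U := soGrp_spLike (isAlt_of_skew two hB) hd
    refine ⟨fun a ha0 ha => ?_, fun Ψ M hM h1 ⟨m, hm, h2⟩ h4 => ?_⟩
    · obtain ⟨s, f, h⟩ := U.exists_isTv ha0
      exact ⟨s, f, by rw [pow_two, pow_mul, tvAt_pow U.inj r ⟨f, h.2.2.1, h.2.2.2⟩, one_pow],
        h.2.1, Or.inl (by rw [show s.1.1 = _ from h.2.2.2, tv, add_sub_cancel_left])⟩
    · have := Fintype.ofFinite F
      have : Nonempty ι := Fintype.card_pos_iff.1 (by omega)
      have hodd : Fintype.card F % 2 = 1 := FiniteField.odd_card_of_char_ne_two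
        (by rwa [ringChar.eq F r])
      obtain ⟨s, h5, h6⟩ := U.exists_elt Nat.prime_two (by omega)
      obtain ⟨c, hc⟩ := (h1 s).1 (eq_one_of_pow_mem (l := 2) h4
        ((Nat.coprime_primes Fact.out Nat.prime_two).2 hr)
        (U.iwasawa r hm (fun c hc => h2 ((h1 m).2 ⟨c, hc⟩)) s) (by rw [← map_pow, h5, map_one]))
      exact h6 c hc

end iso

theorem graph_case [Finite A] [Finite F] [Finite F₀] {I : Subgroup A} [I.Normal] {D : N →* A}
    {ν : N →* GL ι F} {Φ : (F ≃+* F) →* A} {θ : (F ≃+* F) → MulAut N} {e : F₀ →+* F} {β : A}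
    {B : Matrix ι ι F₀} (two : (2 : F₀) ≠ 0) (hd : B.det ≠ 0) (hB : Bᵀ = B ∨ Bᵀ = -B)
    (h3 : 3 ≤ Fintype.card ι) (inj : Function.Injective ν)
    (hθ : ∀ σ g, Φ σ * D g * (Φ σ)⁻¹ = D (θ σ g)) (hν : ∀ σ g, ν (θ σ g) = glField ι F σ (ν g))
    (hker : ∀ g, D g = 1 ↔ ν g ∈ Subgroup.center (GL ι F))
    (hinj : ∀ σ, Φ σ ∈ D.range → σ = 1) (he : ∀ τ : F ≃+* F, (∀ x, τ (e x) = e x) → τ ^ 2 = 1)
    (haut : ∀ n : A, Odd (orderOf n) → ∃ g τ, n = D g * Φ τ)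
    (J : soGrp B →* N) (h : GL ι F) (hJ : ∀ s, ν (J s) = h * GeneralLinearGroup.map e s.1 * h⁻¹)
    (hJI : ∀ s, D (J s) ∈ I ⊓ Subgroup.centralizer {β})
    (hnorm : ∀ c ∈ I ⊓ Subgroup.centralizer {β}, ∃ (g : N) (u : Fˣ) (y : GL ι F₀) (c₀ : F₀),
      c = D g ∧ ν g = GeneralLinearGroup.scalar ι u * (h * GeneralLinearGroup.map e y * h⁻¹) ∧
      (y : Matrix ι ι F₀)ᵀ * B * (y : Matrix ι ι F₀) = c₀ • B) :
    I ⊓ Subgroup.centralizer {β} ≠ ⊥ ∧ ¬ Unbal 2 I β := by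
  obtain ⟨r, hr⟩ := CharP.exists F₀
  have : Fact r.Prime := ⟨CharP.char_is_prime F₀ r⟩
  have : CharP F r := charP_of_injective_ringHom e.injective r
  have : Nonempty ι := Fintype.card_pos_iff.1 (by omega)
  obtain ⟨h1, h2⟩ := so_facts two hd hB h3 r
  have hc : ∀ g : GL ι F, h * g * h⁻¹ ∈ Subgroup.center (GL ι F) ↔ g ∈ Subgroup.center (GL ι F) :=
    fun g => ⟨fun hg => by simpa [mul_assoc] using Subgroup.Normal.conj_mem' inferInstance _ hg h,
      fun hg => Subgroup.Normal.conj_mem inferInstance _ hg h⟩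
  have hne : ∀ s, (D.comp J) s = 1 ↔ ∃ c : F₀, s.1.1 = c • 1 := fun s => by
    rw [MonoidHom.comp_apply, hker, hJ, hc, map_mem_center_iff']
  have semi : ∀ (G : Matrix ι ι F) (χ : F₀ →+* F), G.det ≠ 0 →
      (∀ s : soGrp B, s ^ r ^ 2 = 1 → SComm e χ G s.1.1) → (∃ l : F, G = l • 1) ∧ ∀ x, χ x = e x := by
    intro G χ hG hs
    have h4 : ∀ a : ι → F₀, a ≠ 0 → bf B a a = 0 → ∃ c : F, G *ᵥ (χ ∘ a) = c • (e ∘ a) := by
      intro a ha0 ha
      obtain ⟨g, f, h4, h5, h6 | h6⟩ := h1 a ha0 ha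
      · exact (hs g h4).sub_one.fix h5 h6
      · exact ((hs g h4).sub_one.mul (hs g h4).sub_one).fix h5 h6
    rcases hB with hB | hB
    · exact semi_sym hB two hd h3 hG h4
    · exact semi_all (by omega) hG fun a ha => h4 a ha (isAlt_of_skew two hB a)
  refine ⟨fun h0 => ?_, fun hU => ?_⟩
  · obtain ⟨a, ha0, ha⟩ : ∃ a, a ≠ 0 ∧ bf B a a = 0 := by
      rcases hB with hB | hB
      · exact exists_singular hB two h3
      · obtain ⟨i⟩ := ‹Nonempty ι›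
        exact ⟨Pi.single i 1, by simp, isAlt_of_skew two hB _⟩
    obtain ⟨g, f, h4, h5, h6⟩ := h1 a ha0 ha
    obtain ⟨c, hc⟩ := (hne g).1 ((Subgroup.eq_bot_iff_forall _).1 h0 _ (hJI g))
    have h7 : c = 1 := smul_one_pow_eq_one (ι := ι) (p := r) (k := 2) (by
      rw [← hc, ← Units.val_pow_eq_pow_val, ← Subgroup.coe_pow, h4]; rfl)
    rw [hc, h7, one_smul, sub_self, mul_zero, or_self, eq_comm, vecMulVec_eq_zero] at h6
    exact h6.elim ha0 h5
  obtain ⟨M, hM, h4, h5⟩ := hU.exists_normal (D.comp J) hJI (fun c hc s => by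
    obtain ⟨g, u, y, c₀, rfl, e1, e2⟩ := hnorm c hc
    refine ⟨⟨_, conj_mem_soGrp e2 s.2⟩, ?_⟩
    rw [MonoidHom.comp_apply, MonoidHom.comp_apply, ← map_inv, ← map_mul, ← map_mul]
    refine congrArg D (inj ?_)
    rw [map_mul, map_mul, map_inv, hJ, hJ, e1, map_mul, map_mul, map_inv,
      ← Subgroup.mem_center_iff.1 (scalar_mem_center u), _root_.mul_inv_rev, mul_assoc _ (GeneralLinearGroup.scalar ι u),
      ← Subgroup.mem_center_iff.1 (scalar_mem_center u)]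
    group) (fun n hn hc' => by
    obtain ⟨g, τ, rfl⟩ := haut n (Nat.coprime_two_right.1 hn)
    obtain ⟨h6, h7⟩ := semi (h⁻¹ * ν g * glField ι F τ h : GL ι F) ((τ : F →+* F).comp e)
      (GeneralLinearGroup.det_ne_zero _) fun s hs => by
        have := comm_of_commute D ν (fun g => (hker g).1) (θ τ) (hθ τ) (hc' s) r (k := 2)
          (by rw [← map_pow, hs, map_one])
        rw [hν, hJ, map_mul, map_mul, map_inv] at this
        have h8 : h⁻¹ * ν g * glField ι F τ h * glField ι F τ (GeneralLinearGroup.map e s.1) =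
            GeneralLinearGroup.map e s.1 * (h⁻¹ * ν g * glField ι F τ h) := by
          calc _ = h⁻¹ * (ν g * (glField ι F τ h * glField ι F τ (GeneralLinearGroup.map e s.1) *
                (glField ι F τ h)⁻¹)) * glField ι F τ h := by group
            _ = _ := by rw [this]; group
        exact congrArg Units.val h8
    obtain rfl : τ = 1 := eq_one_of_pow_of_coprime hn
      (pow_eq_one_of_DΦ D Φ θ hθ hinj (pow_orderOf_eq_one _)) (he τ h7)
    rw [map_one, mul_one, hker, ← inv_inv h] at *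
    rw [← mem_center_gl_iff] at h6
    simpa [mul_assoc] using Subgroup.Normal.conj_mem inferInstance _ h6 h)
  exact h2 _ M hM hne h4 h5

section unitary

variable {n q : ℕ} {τ : F ≃+* F}

theorem guLike (hσ : orderOf τ = 2) (hτ : ∀ x, τ x = x ^ q) :
    GUlike τ (jRho (GU n F q).subtype) where
  ord := hσ
  inj := fun _ _ h => Subtype.ext (Units.ext h)
  isom := fun g => hf_of_mem_GU hτ g.2
  surj := fun M h => by
    have h1 : Mᵀ * M.map τ = 1 := sf_ext (σ := (τ : F →+* F)) fun u v => by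
      have := h u v
      rwa [hf_def, sf_mulVec, Matrix.mul_one] at this
    have h2 : M.det ≠ 0 := fun h0 => by
      have := congrArg det h1
      rw [det_mul, det_transpose, h0, zero_mul, det_one] at this
      exact zero_ne_one this
    exact ⟨⟨GeneralLinearGroup.mkOfDetNeZero M h2, (mem_GU_iff hτ _).2 h1⟩, rfl⟩

variable (F n q) in
/-- the inclusion of the special unitary group in the general unitary group -/
def suG : SU n F q →* GU n F q := (suJ F n q).codRestrict _ suJ_mem_GU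

theorem suG_normal (hτ : ∀ x, τ x = x ^ q) : (suG F n q).range.Normal := ⟨by
  rintro _ ⟨s, rfl⟩ g
  obtain ⟨t, ht⟩ := gu_normalizes g g.2 s
  exact ⟨t, Subtype.ext ht⟩⟩

variable [Finite F]

theorem su_pow (hσ : orderOf τ = 2) (hτ : ∀ x, τ x = x ^ q) (hn : 3 ≤ n) (y : GU n F q) :
    ∃ s ∈ uSub τ (jRho (suJ F n q)), suG F n q s = y ^ (q + 1) :=
  uSub_le_map (suLike hσ hτ) (guLike hσ hτ) (suG F n q) (fun _ => rfl)
    ((guLike hσ hτ).pow_mem (by simpa using hn) (fun c hc => by rwa [pow_succ', ← hτ]) y)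

omit [Finite F] in
theorem su_elt [Fintype F] (hF : Fintype.card F = q ^ 2) (hσ : orderOf τ = 2)
    (hτ : ∀ x, τ x = x ^ q) (hn : 3 ≤ n) {p : ℕ} [Fact p.Prime] (hd : p ∣ q + 1) :
    ∃ s ∈ uSub τ (jRho (suJ F n q)), s ^ p ^ 2 = 1 ∧ ∀ c : F, jRho (suJ F n q) s ≠ c • 1 := by
  obtain ⟨c, hc⟩ := exists_prime_orderOf_dvd_card' (G := normOne F q) p (by rwa [card_normOne hF])
  obtain ⟨s, hs, h1, h2⟩ := (guLike (n := n) hσ hτ).exists_elt (by simpa using hn) (c := c.1.1)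
    (k := p ^ 2)
    (by rw [hτ, ← pow_succ']; exact congrArg Units.val c.2)
    (fun h => (Fact.out : p.Prime).one_lt.ne' (by
      rw [← hc, show c = 1 from Subtype.ext (Units.ext h), orderOf_one]))
    (by
      have : c ^ p ^ 2 = 1 := by rw [pow_two, pow_mul, ← hc, pow_orderOf_eq_one, one_pow]
      exact congrArg (fun x : normOne F q => x.1.1) this)
  obtain ⟨t, ht, rfl⟩ := uSub_le_map (suLike hσ hτ) (guLike hσ hτ) (suG F n q) (fun _ => rfl) hs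
  refine ⟨t, ht, suJ_inj ?_, h2⟩
  rw [← map_pow] at h1
  rw [map_one]
  exact congrArg Subtype.val h1

theorem su_semi (hσ : orderOf τ = 2) (hτ : ∀ x, τ x = x ^ q) (hn : 3 ≤ n) (r : ℕ) [CharP F r]
    {K : Type*} [Field K] {e χ : F →+* K} (G : Matrix (Fin n) (Fin n) K) (hG : G.det ≠ 0)
    (hs : ∀ s : SU n F q, s ^ r ^ 2 = 1 → SComm e χ G (jRho (suJ F n q) s)) :
    (∃ l : K, G = l • 1) ∧ ∀ x, χ x = e x := by
  have U := suLike (n := n) hσ hτ
  refine semi_herm hσ (by simpa using hn) hG fun a ha0 ha => ?_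
  obtain ⟨s, f, h⟩ := U.exists_isTv' ha0 ha
  have := hs s (by rw [pow_two, pow_mul, tvAt_pow U.inj r ⟨f, h.2.2.1, h.2.2.2⟩, one_pow])
  exact SComm.fix_tv (h.2.2.2 ▸ this) h.2.1

end unitary

end Cfsg.Agent.H6
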