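import Cfsg.Agent.H9.ChevChk

/-!
Rational elements of order 5 and 7 of the torus of E7: kernel computations.
-/

set_option autoImplicit false
set_option maxRecDepth 100000

namespace Cfsg.Agent.H6A

open Cfsg.Agent.H9.Chev Cfsg.Agent.H4

structure S7 where
  (a b c d e f g : ℕ)
deriving DecidableEq

def SM5 : List S7 :=
  [⟨0, 1, 0, 0, 4, 3, 4⟩, ⟨0, 1, 0, 0, 4, 0, 4⟩, ⟨0, 1, 0, 0, 4, 0, 1⟩, ⟨0, 1, 0, 0, 1, 0, 4⟩,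
  ⟨0, 1, 0, 0, 1, 0, 1⟩, ⟨0, 1, 0, 0, 1, 2, 1⟩, ⟨0, 1, 0, 2, 1, 0, 4⟩, ⟨0, 1, 0, 2, 1, 0, 1⟩,
  ⟨0, 1, 0, 2, 1, 2, 1⟩, ⟨0, 1, 0, 2, 3, 2, 1⟩, ⟨0, 1, 2, 2, 1, 0, 4⟩, ⟨0, 1, 2, 2, 1, 0, 1⟩,
  ⟨0, 1, 2, 2, 1, 2, 1⟩, ⟨0, 1, 2, 2, 3, 2, 1⟩, ⟨0, 1, 2, 4, 3, 2, 1⟩, ⟨0, 3, 2, 4, 3, 2, 1⟩,
  ⟨2, 1, 2, 2, 1, 0, 4⟩, ⟨2, 1, 2, 2, 1, 0, 1⟩, ⟨2, 1, 2, 2, 1, 2, 1⟩, ⟨2, 1, 2, 2, 3, 2, 1⟩,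
  ⟨2, 1, 2, 4, 3, 2, 1⟩, ⟨2, 1, 4, 4, 3, 2, 1⟩, ⟨2, 3, 2, 4, 3, 2, 1⟩, ⟨2, 3, 4, 4, 3, 2, 1⟩,
  ⟨2, 3, 4, 1, 3, 2, 1⟩, ⟨2, 3, 4, 1, 0, 2, 1⟩, ⟨2, 3, 4, 1, 0, 4, 1⟩, ⟨2, 3, 4, 1, 0, 4, 3⟩]

def SM7 : List S7 :=
  [⟨0, 1, 0, 0, 6, 5, 6⟩, ⟨0, 1, 0, 0, 6, 0, 6⟩, ⟨0, 1, 0, 0, 6, 0, 1⟩, ⟨0, 1, 0, 0, 1, 0, 6⟩,
  ⟨0, 1, 0, 0, 1, 0, 1⟩, ⟨0, 1, 0, 0, 1, 2, 1⟩, ⟨0, 1, 0, 2, 1, 0, 6⟩, ⟨0, 1, 0, 2, 1, 0, 1⟩,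
  ⟨0, 1, 0, 2, 1, 2, 1⟩, ⟨0, 1, 0, 2, 3, 2, 1⟩, ⟨0, 1, 2, 2, 1, 0, 6⟩, ⟨0, 1, 2, 2, 1, 0, 1⟩,
  ⟨0, 1, 2, 2, 1, 2, 1⟩, ⟨0, 1, 2, 2, 3, 2, 1⟩, ⟨0, 1, 2, 4, 3, 2, 1⟩, ⟨0, 3, 2, 4, 3, 2, 1⟩,
  ⟨2, 1, 2, 2, 1, 0, 6⟩, ⟨2, 1, 2, 2, 1, 0, 1⟩, ⟨2, 1, 2, 2, 1, 2, 1⟩, ⟨2, 1, 2, 2, 3, 2, 1⟩,
  ⟨2, 1, 2, 4, 3, 2, 1⟩, ⟨2, 1, 4, 4, 3, 2, 1⟩, ⟨2, 3, 2, 4, 3, 2, 1⟩, ⟨2, 3, 4, 4, 3, 2, 1⟩,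
  ⟨2, 3, 4, 6, 3, 2, 1⟩, ⟨2, 3, 4, 6, 5, 2, 1⟩, ⟨2, 3, 4, 6, 5, 4, 1⟩, ⟨2, 3, 4, 6, 5, 4, 3⟩]

noncomputable def gN (l a b c d e f g : ℕ) (L : List S7) : ℕ :=
  List.rec 0 (fun s _ ih => S7.rec (fun a' b' c' d' e' f' g' => Nat.add (Nat.pow 32 (Nat.mod (Nat.pow
    (Nat.add (Nat.add (Nat.add (Nat.mul a' a) (Nat.mul b' b)) (Nat.add (Nat.mul c' c) (Nat.mul d' d)))
      (Nat.add (Nat.add (Nat.mul e' e) (Nat.mul f' f)) (Nat.mul g' g))) 2) l)) ih) s) L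

noncomputable def ck7 (l K : ℕ) (L : List S7) (ok : List ℕ) (a b c d e f : ℕ) : Bool :=
  frc (4 * a * a + 8 * a * b + 12 * a * c + 16 * a * d + 12 * a * e + 8 * a * f + 7 * b * b + 16 * b * c
    + 24 * b * d + 18 * b * e + 12 * b * f + 12 * c * c + 32 * c * d + 24 * c * e + 16 * c * f + 24 *
    d * d + 36 * d * e + 24 * d * f + 15 * e * e + 20 * e * f + 8 * f * f) fun x =>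
  frc (4 * a + 6 * b + 8 * c + 12 * d + 10 * e + 8 * f) fun y => allLt l fun g => frc g fun g =>
    bimp (Nat.beq (Nat.mod (Nat.add x (Nat.mul g (Nat.add y (Nat.mul 3 g)))) l) 0)
      (frc (gN l a b c d e f g L) fun G => bimp (Nat.beq (Nat.mod G K) 28)
        (bor (memL ok G) (Nat.beq (a + b + c + d + e + f + g) 0)))

noncomputable def ckA (l K : ℕ) (L : List S7) (ok : List ℕ) (a : ℕ) : Bool :=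
  allLt l fun b => frc b fun b => allLt l fun c => frc c fun c => allLt l fun d => frc d fun d =>
    allLt l fun e => frc e fun e => allLt l fun f => frc f fun f => ck7 l K L ok a b c d e f

theorem ckA50 : ckA 5 1048606 SM5 [10486088] 0 = true := by decide +kernel
theorem ckA51 : ckA 5 1048606 SM5 [10486088] 1 = true := by decide +kernel
theorem ckA70 : ckA 7 1049629 SM7 [6297802, 8397060, 9446689] 0 = true := by decide +kernel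
theorem ckA71 : ckA 7 1049629 SM7 [6297802, 8397060, 9446689] 1 = true := by decide +kernel

end Cfsg.Agent.H6A
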