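import Cfsg.Agent.H6.HeLL
import Cfsg.Agent.H6.HeLT
import Cfsg.Agent.H6.HeTL
import Cfsg.Agent.H6.HeTT
import Cfsg.Agent.H6.Iwa
import Cfsg.Agent.H4.HeS
import Cfsg.Agent.H4.M24
import Cfsg.Agent.H4.Hom

/-! The completions of the four Held amalgams. -/

set_option autoImplicit false
set_option maxRecDepth 100000

namespace Cfsg.Agent.H6.He

open Cfsg.Agent.H5 Cfsg.Agent.H8.TC Cfsg.Agent.H6.TT Cfsg.Agent.H4 Matrix

universe u

section mdl

variable {G M : Type*} [Group G] [Monoid M] {m : Mdl G M} {gl : ℕ → ℕ}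

theorem mdl_val (h : m.El ⊤ gl) (h0 : gl 0 = m.one) {w : ℕ} (hw : w < 16 ^ 32) :
    m.φ (val (fun c => m.elt (gl c)) w) = m.ev (evw m.mul m.one gl 32 w) :=
  rep_val (Rep := fun g a => m.φ g = m.ev a) (by rw [map_one, m.ev_one])
    (fun h1 h2 => by rw [map_mul, h1, h2, m.ev_mul]) (by rw [h0, Mdl.elt_one])
    (fun c => (h c).elt) 32 w hw

theorem mdl_rel (h : m.El ⊤ gl) (h0 : gl 0 = m.one) {RL : List ℕ}
    (hc : ∀ w ∈ RL, w < 16 ^ 32 ∧ evw m.mul m.one gl 32 w = m.one) :
    ∀ w ∈ RL, val (fun c => m.elt (gl c)) w = 1 := fun w hw =>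
  m.inj (by rw [mdl_val h h0 (hc w hw).1, (hc w hw).2, m.ev_one, map_one])

theorem mdl_in {g : ℕ → ℕ} (h : m.El ⊤ (pad m.one 9 g)) (h0 : pad m.one 9 g 0 = m.one) {w a : ℕ}
    (hc : w < 16 ^ 32 ∧ evw m.mul m.one (pad m.one 9 g) 32 w = a) :
    m.In (gen (fun c => m.elt (pad m.one 9 g c)) 8) a := by
  refine ⟨val (fun c => m.elt (pad m.one 9 g c)) w,
    val_mem (by rw [h0, Mdl.elt_one]) (fun c _ => ?_) w, by rw [mdl_val h h0 hc.1, hc.2]⟩
  by_cases h1 : c < 9
  · rcases Nat.eq_zero_or_pos c with rfl | h2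
    · rw [h0, Mdl.elt_one]; exact one_mem _
    · exact lt_mem_gen (lt := fun c => m.elt (pad m.one 9 g c)) h2 (by omega)
  · rw [pad_eq, if_neg h1, Mdl.elt_one]; exact one_mem _

end mdl

/-! ### `SL(5, 2)` -/

abbrev SL5 : Type := SpecialLinearGroup (Fin 5) (ZMod 2)
noncomputable abbrev mL := md2 (ZMod 2) 5 (slRho (Fin 5) (ZMod 2)) Subtype.val_injective
noncomputable def lG : ℕ → ℕ := pad (one2 5) 9 (fld 0x10c1041c20820c0881060c2083040881820c20c10410e0820c3041041 25 (msk 25))
def lW : ℕ → ℕ := fld 0x67864126414621468760007864126414621468700000786412414214687000000078641212146870006841276414672148600000000000000000000000000064126414621460000000006412414214600000000000641212146000008412764146721480000000004126414621400000000000000000000000000000004124142140000000000000412121400000008127641467218000000000001264146210000000000000124142100000000000000000000000000000000000121210000000000087641467800000000000000064146000000000000000004140000000000000000000100000000000000000000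 80 (msk 80)
def lQ : ℕ → ℕ := fld 0x6786412631621468760000684127631672148600000056412631621465000000000041263162140000000000341231214300000000000000123121000000000000124314210000000000000000431400000000000000000000 80 (msk 80)

theorem lG_el : mL.El ⊤ lG := Mdl.el_of_pad fun s hs => by
  have h : ∀ s < 9, mul2 5 (lG s) (lG s) = one2 5 := by decide +kernel
  have h1 := congrArg (fun a => (ev2 (ZMod 2) 5 a).det) (h s hs)
  simp only [ev2_mul, ev2_one, det_mul, det_one] at h1
  have h2 : ∀ a : ZMod 2, a * a = 1 → a = 1 := by decide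
  exact ⟨⟨_, h2 _ h1⟩, trivial, rfl⟩

theorem lG0 : lG 0 = mL.one := by decide +kernel

noncomputable abbrev lK : ℕ → SL5 := fun c => mL.elt (lG c)

theorem lK_gen : gen lK 8 = ⊤ := by
  refine (Subgroup.eq_top_iff' _).2 fun x => ?_
  refine SpecialLinearGroup.diagonal_transvection_induction' (· ∈ gen lK 8) x ?_ ?_
    fun _ _ => mul_mem
  · intro i j hij c hc
    have : SpecialLinearGroup.diag2n hij c hc = 1 := by
      obtain rfl : c = 1 := by revert hc c; decide
      ext k l
      simp [SpecialLinearGroup.diag2n_coe, diagonal_apply, one_apply]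
    rw [this]; exact one_mem _
  · intro i j hij a
    have ha : a = 0 ∨ a = 1 := by revert a; decide
    rcases ha with rfl | rfl
    · rw [SpecialLinearGroup.transvection_coeff_zero]; exact one_mem _
    · have h : ∀ i j : Fin 5, i ≠ j → lW (5 * i + j) < 16 ^ 32 ∧
          evw (mul2 5) (one2 5) lG 32 (lW (5 * i + j)) = one2 5 + 2 ^ (5 * j.1 + i.1) := by
        decide +kernel
      refine (mdl_in (m := mL) lG_el lG0 (h i j hij)).mem ?_
      have h2 : ∀ i j : Fin 5, i ≠ j → ∀ k l : Fin 5,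
          ((if k = l then 1 else 0) + if i = k ∧ j = l then 1 else 0 : ZMod 2) =
            if (one2 5 + 2 ^ (5 * j.1 + i.1)).testBit (5 * l + k) then 1 else 0 := by
        decide +kernel
      ext k l
      exact h2 i j hij k l

theorem simple_SL5 : IsSimpleGroup SL5 := by
  have : Nontrivial SL5 := Finite.one_lt_card_iff_nontrivial.1 (by
    rw [card_SL_of 5 (ZMod 2) (q := 2) (N := 9999360) (ZMod.card 2) (by decide)]; decide)
  refine ⟨fun N hN => ?_⟩
  rcases N.bot_or_exists_ne_one with h | ⟨x, hx, h⟩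
  · exact Or.inl h
  right
  have h1 := sl_iwasawa 2 hx fun c e => h (by
    have ha : c = 0 ∨ c = 1 := by clear e; revert c; decide
    rcases ha with rfl | rfl
    · have h2 : (slRho _ _ x).det = 1 := x.2
      rw [e, zero_smul, det_zero] at h2
      exact absurd h2 zero_ne_one
    · exact Subtype.ext (by rw [one_smul] at e; exact e))
  rw [eq_top_iff, ← lK_gen, gen, Subgroup.closure_le]
  rintro _ ⟨c, a, b, rfl⟩
  have h2 : ∀ c < 9, lQ c < 16 ^ 32 ∧ mul2 5 (evw (mul2 5) (one2 5) lG 32 (lQ c))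
    (evw (mul2 5) (one2 5) lG 32 (lQ c)) = lG c := by decide +kernel
  have h3 : lK c = val lK (lQ c) ^ 2 := mL.inj (by
    rw [sq, map_mul, mdl_val lG_el lG0 (h2 c (by omega)).1, ← mL.ev_mul, (lG_el c).elt]
    exact congrArg _ (h2 c (by omega)).2.symm)
  rw [h3]
  exact h1 _

theorem iso_LL {G : Type u} [Group G] [Nontrivial G] (lt : ℕ → G) (h0 : lt 0 = 1)
    (hrel : ∀ w ∈ RL_LL, val lt w = 1) (hgen : gen lt 8 = ⊤) :
    Nonempty (G ≃* SpecialLinearGroup (Fin 5) (ZMod 2)) := by
  have := simple_SL5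
  obtain ⟨e⟩ := iso_of (K := ⊤) Subgroup.topEquiv.isSimpleGroup ub_LL
    (by rw [Subgroup.card_top, card_SL_of 5 (ZMod 2) (q := 2) (N := 9999360) (ZMod.card 2) (by decide)])
    (k := lK) (by rw [lK, lG0, Mdl.elt_one]) (mdl_rel lG_el lG0 (by decide +kernel)) lK_gen
    lt h0 hrel hgen
  exact ⟨e.trans Subgroup.topEquiv⟩

/-! ### `M24` -/

section m24

variable {g : ℕ → ℕ}

noncomputable abbrev pK (g : ℕ → ℕ) : ℕ → Equiv.Perm GolayPt :=
  fun c => gE.mkPerm (pad (idc 24 5) 9 g c)

theorem pK_rep (h : ∀ c < 9, isM24 (pad (idc 24 5) 9 g c) = true) (c : ℕ) :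
    gE.Rep (pK g c) (pad (idc 24 5) 9 g c) ∧ pK g c ∈ M24 := by
  have h1 : isM24 (pad (idc 24 5) 9 g c) = true := by
    by_cases h1 : c < 9
    · exact h c h1
    · rw [pad_eq, if_neg h1]; decide +kernel
  exact ⟨rep_mkM24 _ h1, (mkM24 _ h1).2⟩

theorem pK_val (h : ∀ c < 9, isM24 (pad (idc 24 5) 9 g c) = true)
    (h0 : pad (idc 24 5) 9 g 0 = idc 24 5) {w : ℕ} (hw : w < 16 ^ 32) :
    gE.Rep (val (pK g) w) (evw (comp 24 5) (idc 24 5) (pad (idc 24 5) 9 g) 32 w) :=
  rep_val gE.rep_one Enc.Rep.mul ((pK_rep h 0).1.eq_one h0) (fun c => (pK_rep h c).1) 32 w hw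

def sgL : List ℕ := sg1 ++ sg2 ++ sg3 ++ sg4 ++ sg5 ++ sg6 ++ sg7

theorem pK_main {RL ws : List ℕ} (h : ∀ c < 9, isM24 (pad (idc 24 5) 9 g c) = true)
    (h0 : pad (idc 24 5) 9 g 0 = idc 24 5)
    (h1 : ∀ w ∈ RL, w < 16 ^ 32 ∧
      evw (comp 24 5) (idc 24 5) (pad (idc 24 5) 9 g) 32 w = idc 24 5)
    (h2 : (∀ w ∈ ws, w < 16 ^ 32) ∧
      ws.map (evw (comp 24 5) (idc 24 5) (pad (idc 24 5) 9 g) 32) = sgL) :
    pK g 0 = 1 ∧ (∀ w ∈ RL, val (pK g) w = 1) ∧ gen (pK g) 8 = M24 := by
  have k0 := (pK_rep h 0).1.eq_one h0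
  refine ⟨k0, fun w hw => (pK_val h h0 (h1 w hw).1).eq_one (h1 w hw).2, ?_⟩
  refine Subgroup.eq_of_le_of_card_ge ((Subgroup.closure_le _).2 ?_) ?_
  · rintro _ ⟨c, -, -, rfl⟩; exact (pK_rep h c).2
  have hs : gE.Sound (gen (pK g) 8) fun p => decide (p ∈ sgL) := fun p hp => by
    rw [decide_eq_true_eq, ← h2.2, List.mem_map] at hp
    obtain ⟨w, hw, rfl⟩ := hp
    refine ⟨_, val_mem k0 (fun c _ => ?_) w, pK_val h h0 (h2.1 w hw)⟩
    by_cases h1 : c < 9
    · rcases Nat.eq_zero_or_pos c with rfl | h2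
      · rw [k0]; exact one_mem _
      · exact lt_mem_gen h2 (by omega)
    · rw [(pK_rep h c).1.eq_one (by rw [pad_eq, if_neg h1])]; exact one_mem _
  rw [card_M24]
  exact le_trans (by decide +kernel) (gE.chainLB_le 6
    [(23, sg1), (0, sg2), (1, sg3), (2, sg4), (3, sg5), (4, sg6), (5, sg7)] _ _ hs)

end m24

def gTL : ℕ → ℕ := fld 0x6d9f462a30aa2f35c86e298e44844032613a49d57c5ac282c83dd621902ab96b403222418f25a92f6bac40c07375854532300dd125ccad199243d5e028270a8c94608ef325416aef1939164994b2bc8090867a56e165a716b910710a0530cb3dd1284c4d7c6b60a47412dc05321145432b4caf191263ddb4bdab49ca307b9ac5a928398a418820 120 (msk 120)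
def gLT : ℕ → ℕ := fld 0x62dd0221b455637b3c32288f30192388e4d256ec516900bc07409d3b1969998b1baa843a18d0486e7dab04844b208b163e8d91e133206a72eb74d8018dab0226f430d8d3aa485bcb370820a26b7249ac7ba300aac8388b301963b5ea9348617b80b62a883cca28920dbc8749da30101ac418ab0a924abceebdab49ca307b9ac5a928398a418820 120 (msk 120)
def u1 : ℕ → ℕ := fld 0x561142386000004528653000056283431000000614283000001786486000000861247000034836247000000876864000000000000 48 (msk 48)
def u2 : ℕ → ℕ := fld 0x8683241165000073568254000613438265000005382416000046846871000003742168000274263843000001468678000000000000 48 (msk 48)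

theorem mTL : pK gTL 0 = 1 ∧ (∀ w ∈ RL_TL, val (pK gTL) w = 1) ∧ gen (pK gTL) 8 = M24 :=
  pK_main (ws := [0x6386863167426486543187, 0x1586384216864268, 0x6357864686142386, 0x153638675342642868642, 0x3616386758742642864386, 0x356328674236428658, 0x35687631534686486862, 0x3261538742648641386, 0x16865314216864265386, 0x137631686242368614, 0x1316367534268646358, 0x16378638654686246867, 0x531613586842164865348, 0x678653246876])
    (by decide +kernel) (by decide +kernel) (by decide +kernel) (by decide +kernel)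

theorem mLT : pK gLT 0 = 1 ∧ (∀ w ∈ RL_LT, val (pK gLT) w = 1) ∧ gen (pK gLT) 8 = M24 :=
  pK_main (ws := [0x43214245642421686, 0x843245324576424686438, 0x12135452846424265, 0x537542416428468427, 0x357524218464238642148, 0x245324524546421876468, 0x317421875464218468421, 0x3545842426424686428, 0x35754532164286431, 0x37537542164238654, 0x541214524364286487, 0x5724531486428657, 0x1754584242, 0x415324753264286421])
    (by decide +kernel) (by decide +kernel) (by decide +kernel) (by decide +kernel)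

noncomputable def pw (p : ℕ) (n : ℕ) : ℕ :=
  Nat.rec (idc 24 5) (fun _ ih => force ih fun a => comp 24 5 a p) n

theorem rep_pw {x : Equiv.Perm GolayPt} {p : ℕ} (h : gE.Rep x p) (n : ℕ) :
    gE.Rep (x ^ n) (pw p n) := by
  induction n with
  | zero => exact gE.rep_one
  | succ n ih =>
    change gE.Rep _ (force (pw p n) fun a => comp 24 5 a p)
    rw [force_eq', pow_succ]; exact ih.mul h

theorem dvd_of_orbit {X : Type*} {H : Type*} [Group H] [MulAction H X] (K : Subgroup H) (a : X)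
    {n : ℕ} (h : (MulAction.orbit K a).ncard = n) : n ∣ Nat.card K := by
  rw [← h, ← MulAction.index_stabilizer]
  exact Subgroup.index_dvd_card _

theorem dvd_23 (N : Subgroup M24) [hN : N.Normal] (h : N ≠ ⊥) : 23 ∣ Nat.card N := by
  have t2 : ∀ {a b c : GolayPt}, a ≠ b → a ≠ c → ∃ g : M24, g • a = a ∧ g • b = c := by
    intro a b c h1 h2
    obtain ⟨g, hg, e1, e2⟩ := trans2 h1
    obtain ⟨k, hk, e3, e4⟩ := trans2 h2
    refine ⟨⟨k⁻¹ * g, mul_mem (inv_mem hk) hg⟩, ?_, ?_⟩
    · change k⁻¹ (g a) = a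
      rw [e1, ← e3]; simp
    · change k⁻¹ (g b) = c
      rw [e2, ← e4]; simp
  have t3 : ∀ {a b c d : GolayPt}, a ≠ b → a ≠ c → b ≠ c → a ≠ d → b ≠ d →
      ∃ g : M24, g • a = a ∧ g • b = b ∧ g • c = d := by
    intro a b c d h1 h2 h3 h4 h5
    obtain ⟨g, hg, e1, e2, e5⟩ := trans3 h1 h2 h3
    obtain ⟨k, hk, e3, e4, e6⟩ := trans3 h1 h4 h5
    refine ⟨⟨k⁻¹ * g, mul_mem (inv_mem hk) hg⟩, ?_, ?_, ?_⟩
    · change k⁻¹ (g a) = a
      rw [e1, ← e3]; simp
    · change k⁻¹ (g b) = b
      rw [e2, ← e4]; simp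
    · change k⁻¹ (g c) = d
      rw [e5, ← e6]; simp
  have mv : ∀ x : M24, x ≠ 1 → ∃ a : GolayPt, x • a ≠ a := fun x hx => by
    by_contra hc
    push Not at hc
    exact hx (Subtype.ext (Equiv.ext hc))
  by_cases hs : ∃ x ∈ N, x ≠ 1 ∧ ∃ a : GolayPt, x • a = a
  · obtain ⟨x, hx, h1, a, ha⟩ := hs
    obtain ⟨b, hb⟩ := mv x h1
    have hab : a ≠ b := fun e => hb (e ▸ ha)
    refine (dvd_of_orbit (N ⊓ MulAction.stabilizer M24 a) b ?_).trans
      (Subgroup.card_dvd_of_le inf_le_left)
    have : MulAction.orbit ↥(N ⊓ MulAction.stabilizer M24 a) b = {a}ᶜ := by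
      ext d
      constructor
      · rintro ⟨y, rfl⟩ (e : y • b = a)
        have e1 : y.1 • b = a := e
        have e2 : y.1 • a = a := y.2.2
        exact hab (smul_left_cancel y.1 (e2.trans e1.symm))
      · intro hd
        by_cases e : d = b
        · rw [e]; exact MulAction.mem_orbit_self _
        obtain ⟨g, e1, e2, e3⟩ := t3 (c := x • b) hab
          (fun e => hab (smul_left_cancel x (ha.trans e))) hb.symm (Ne.symm hd) (Ne.symm e)
        refine ⟨⟨g * x * g⁻¹, hN.conj_mem x hx g, ?_⟩, ?_⟩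
        · change (g * x * g⁻¹) • a = a
          rw [mul_smul, mul_smul, inv_smul_eq_iff.2 e1.symm, ha, e1]
        · change (g * x * g⁻¹) • b = d
          rw [mul_smul, mul_smul, inv_smul_eq_iff.2 e2.symm, e3]
    rw [this, Set.ncard_compl, Set.ncard_singleton, Nat.card_eq_fintype_card, card_golayPt]
  exfalso
  push Not at hs
  obtain ⟨x, hx, h1⟩ := (N.bot_or_exists_ne_one).resolve_left h
  obtain ⟨a, -⟩ := mv x h1
  have cj : ∀ y ∈ N, y ≠ 1 → ∀ d, d ≠ a → ∃ g : M24, (g * y * g⁻¹) • a = d := fun y hy h2 d hd => by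
    obtain ⟨g, e1, e2⟩ := t2 (hs y hy h2 a).symm hd.symm
    exact ⟨g, by rw [mul_smul, mul_smul, inv_smul_eq_iff.2 e1.symm, e2]⟩
  have h24 : 24 ∣ Nat.card N := by
    refine dvd_of_orbit N a ?_
    have : MulAction.orbit N a = Set.univ := Set.eq_univ_of_forall fun d => by
      by_cases e : d = a
      · rw [e]; exact MulAction.mem_orbit_self _
      obtain ⟨g, hg⟩ := cj x hx h1 d e
      exact ⟨⟨_, hN.conj_mem x hx g⟩, hg⟩
    rw [this, Set.ncard_univ, Nat.card_eq_fintype_card, card_golayPt]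
  have : Fact (Nat.Prime 3) := ⟨Nat.prime_three⟩
  obtain ⟨y, hy⟩ := exists_prime_orderOf_dvd_card' 2 ((show 2 ∣ 24 by decide).trans h24)
  obtain ⟨z, hz⟩ := exists_prime_orderOf_dvd_card' 3 ((show 3 ∣ 24 by decide).trans h24)
  rw [← Subgroup.orderOf_coe] at hy hz
  have y1 : (y : M24) ≠ 1 := fun e => by rw [e, orderOf_one] at hy; omega
  have z1 : (z : M24) ≠ 1 := fun e => by rw [e, orderOf_one] at hz; omega
  obtain ⟨g, hg⟩ := cj y y.2 y1 _ (hs z z.2 z1 a)
  have e : (z : M24)⁻¹ * (g * y * g⁻¹) = 1 := by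
    by_contra hc
    exact hs _ (mul_mem (inv_mem z.2) (hN.conj_mem _ y.2 g)) hc a (by rw [mul_smul, hg, inv_smul_smul])
  rw [inv_mul_eq_one] at e
  have := (MulAut.conj g).orderOf_eq (y : M24)
  rw [MulAut.conj_apply, ← e] at this
  omega

theorem simple_M24 : IsSimpleGroup M24 := by
  have : Nontrivial M24 := Finite.one_lt_card_iff_nontrivial.1 (by rw [card_M24]; decide)
  refine ⟨fun N hN => or_iff_not_imp_left.2 fun h => ?_⟩
  obtain ⟨k, hk⟩ := dvd_23 N h
  have h1 : Nat.Coprime 23 N.index := by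
    have := N.card_mul_index
    rw [hk, card_M24, mul_assoc] at this
    exact (show Nat.Coprime 23 10644480 by decide).coprime_dvd_right ⟨k, by
      rw [mul_comm]; omega⟩
  have hg : ∀ c < 9, isM24 (pad (idc 24 5) 9 gTL c) = true := by decide +kernel
  have h0 : pad (idc 24 5) 9 gTL 0 = idc 24 5 := by decide +kernel
  have h2 : ∀ w < 16 ^ 32,
      pw (evw (comp 24 5) (idc 24 5) (pad (idc 24 5) 9 gTL) 32 w) 23 = idc 24 5 →
      val (pK gTL) w ∈ N.map M24.subtype := fun w hw e => by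
    have h3 : val (pK gTL) w ∈ M24 := val_mem mTL.1 (fun c _ => (pK_rep hg c).2) w
    exact ⟨⟨_, h3⟩, mem_of_coprime_index N
      (Subtype.ext ((rep_pw (pK_val hg h0 hw) 23).eq_one e)) h1, rfl⟩
  have h3 : ∀ c < 9, (u1 c < 16 ^ 32 ∧ u2 c < 16 ^ 32) ∧
      (pw (evw (comp 24 5) (idc 24 5) (pad (idc 24 5) 9 gTL) 32 (u1 c)) 23 = idc 24 5 ∧
      pw (evw (comp 24 5) (idc 24 5) (pad (idc 24 5) 9 gTL) 32 (u2 c)) 23 = idc 24 5) ∧
      comp 24 5 (evw (comp 24 5) (idc 24 5) (pad (idc 24 5) 9 gTL) 32 (u1 c))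
        (evw (comp 24 5) (idc 24 5) (pad (idc 24 5) 9 gTL) 32 (u2 c)) =
        pad (idc 24 5) 9 gTL c := by decide +kernel
  have h4 : M24 ≤ N.map M24.subtype := by
    refine mTL.2.2.ge.trans ((Subgroup.closure_le _).2 ?_)
    rintro _ ⟨c, -, hc, rfl⟩
    obtain ⟨⟨a1, a2⟩, ⟨a3, a4⟩, a5⟩ := h3 c (by omega)
    have := (pK_val hg h0 a1).mul (pK_val hg h0 a2)
    rw [a5] at this
    rw [(pK_rep hg c).1.unique this]
    exact mul_mem (h2 _ a1 a3) (h2 _ a2 a4)
  refine (Subgroup.eq_top_iff' _).2 fun x => ?_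
  obtain ⟨y, hy, e⟩ := h4 x.2
  rwa [← Subtype.ext e]

theorem isM24_M24 : IsM24 M24 := ⟨simple_M24, card_M24⟩

theorem iso_TL {G : Type u} [Group G] [Nontrivial G] (lt : ℕ → G) (h0 : lt 0 = 1)
    (hrel : ∀ w ∈ RL_TL, val lt w = 1) (hgen : gen lt 8 = ⊤) : Nonempty (G ≃* M24) :=
  iso_of simple_M24 ub_TL card_M24 mTL.1 mTL.2.1 mTL.2.2 lt h0 hrel hgen

theorem iso_LT {G : Type u} [Group G] [Nontrivial G] (lt : ℕ → G) (h0 : lt 0 = 1)
    (hrel : ∀ w ∈ RL_LT, val lt w = 1) (hgen : gen lt 8 = ⊤) : Nonempty (G ≃* M24) :=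
  iso_of simple_M24 ub_LT card_M24 mLT.1 mLT.2.1 mLT.2.2 lt h0 hrel hgen

/-! ### `He` -/

noncomputable def hG : ℕ → ℕ := pad (one2 51) 9 (fld (nat_lit 0x10f6d8557779b221222dc422eb50b2f1b60c603100000000000185fe9f1d3c070b19b0f9622edcaa0ca4c66aeedd7aee5ac21fa00004040108f401000000000000051472e4c4b38cea29a4c1a3aafc56768400b960675905415baed0258f52052ff1710d22b62000004000000146fe24a6bb4c00001000000000da7bbc159a2cb65281560496c70d208b79e2700004000000002bf15b2a33e53df24c9a2ce6d81080489666d71abf0959b5c68db6621918748aebbc00e6dab18009cea3d5dc1234b2c08e8fb605a6472d7a25a000000010000146fe303ac32a83c8dbea5123c000000001000000030281811000000000010003a397093829e001a6740acbd5ca33f6c196048d7e8f4ae4aea0aa8adbf6c0ea0000000041612e00000000001000204875a9c442f81477c71a8000203d0118e121421e3b26429c7aa298c5bc4e9ff7815e770cf05a6482c5034e139ff4d48c3f8800000000000566fd2c6de097000000004401c000000900018b6f43daefc0e053790dcb74e5a74af5685765bb0f3fe0b9a6406834ec18fa0545eef192d2fb0c7a44fdc14c758b652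81560496c1cdc8d64a8bd56cc056b3def4d8e79741017b82896a4d8681836548b32a4409b483cde533b516614846eee61551df2d566bdd40a86ebc56cbf5876f69aa41fee337f8dd1e45f76d1d728ad6b7063dc4ea8595731412757e5996d27a3eac67060b4c9058e006950642cef85d6023018a68d1878a0ab5624a830e64022234ba300000000080000ab372c5d8d66afa8ec670c5ae000000000800369c889f7a9c5fc5fb538f8586393f3df945183f60cae2143f1eaea7b9f31d647cf35583b38310000000000081068c4cc75de85b51fe1fa49c457e4d8648551885e0cfc5954b6a212dc3a7c73c599f91b88cc980069aed76c9c00103000903624000000000000400126599c2702f86567060fd1566d0a22a388205451cbbb12e07e5e3a7d108ad94a0558125b7b8d8c3b7b59e0040164b134ca5b3d55545a493c76f9f9b05067ff6a0907de4d471fe45e4697e8ef38c68772a129729d7b999f00004000000014a47cccf16700271e3c1ed74041c3647d298ae0fa6819c49cd18d7037663ea06199ddeefea0414e24ed30f4aba18f2098226ab1b32048b4d1680000004000000000101c06b5ffa16517213cb4cf5942616dec590b05632b26ee77f75b4f309e27db6cd1674d8fd0f2608a2f11d0d31b140e8548b1cb9ffcbfe00000018036f9cf8cc45da29c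fde28d271ea7cbb2d481cf68d3e6743559e7543ec70c7d69fcada3198d46030a7c9e9295ee42af88f5274e1b76000000000004298020bd203e153d96ac1dbe1c00000000000054d2086afc6b499499a88313b70008f5f81e5f5d57d18576a0c62000000000000000080e035afbe1fe04b2d86d57f0bdb27a216a85035d3ab209926b0a9b6de4b533fbf6078e2bc5c749717d41cb111aa8f80fe86a03ee3a1aa936d40e1392fb1ab19e97eb2613b64c4673c269d1711af8cade8000204bbb8400000200000001cb197548a91a000002000000013349ddf298cc7f61377bba9d179bfc919d02236f43daefc0e000000420408085a158ab56aabfb6cc43230e914e9553ac3be4680069aa64580bfa03df357b765b11e427d2a2d00000000200007c26775a4f595fab5081a5b0efb0532a68b5a017e8b6bc7aaa57c752d5f0af3600081058a902e00000000020036481042ca8cd8000000000200146b60cbdc751b30deb2d25fe0001496191e458ab3785a164e251bf9c1633a28000000000002146de313a628ba880adfaffa0351094b3b33d81f95b073da768995afd9a1fe35ee430d02f84b73b7b40978f3f8005425858515c85837a468de3bcda5aaee950a5b199c8522054421a23bdc90980a824a0bcbabbaed0258f52050010000000000f24dedaac4b92b9cb695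343466bb50b43fb4ce519fb32fbc2f35731fc52a4eb6922733b19ff284f4fde23498d002000001043a00000a401305000001000000000000100000000bff1c4326a94000001000000150a4ecedce00819049507d4de8bf6b6e01c292a3c497ec4cba61f38422ff363c024c1b4252e8020009b0395d410e3b810aa82800400c02c1823ae10fc059b5687b6cbaba34dcf91970f047bb621a2415fd0564404a1d11c502000808308929e005265ada1291d5017a258b0cc31805b0f8f8b859ff0cd4b34a046260af221161024cc1fe7723b7421fa8b578f24a032dce89e0534871161fabc3010a94b905808a4161a18af002c12e2d8da828c6d138c0df0800000000000338738ee7ab28575609bfc2edc080000000000000000880010e80800000000004c80b3254a7a0e369008ca9ca144a5d0e8ddc6fb25a62bc66fc1954c3c9b1603f5430e7b563081c1c4be905ec906b564ffc70b8e6dc4ab540cb3316c60bcf265b49e8fab19c1ecb19a8e9818d3b6ea3fa26795c944cbc4d836099882dee029b28cd4b56fddf16522af29f089ea212a6684907dd5998996df02bbec6b7252471d9522cca91026001451cb9f92400000008000003c0ca7307fcd000000008000157719a56c49025f8410f5a1be800690128c7b720690a2ef39b80800000c11d16937ebd5004c6ad8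c2cba5b2477396863fd1ab0f30d0f84d50b197f54f1b26eba8822da8db9c757c99d2c502bed2595f7d4bbf806c6e70a4a4e9aba5d606aceb0a2009b039df56d7c9a4880f3c599f91b88cc9d7cc47f99fa3583fe2aa07b67c400000000000040000000000013349ddf298cc00000048000c4e8afbd0cb77a29bc86e5ba72d466b5eea566a6f99af0c69cb4a34326097ab8f9d91397ea6774b07ede21df51fdb738719b263b80532644c48cb413dd73e2096bcba4d62dbfb519bbd1345f1a6cf3129c42fec464d40fb3b735c8b1cb9ffcbfe000020380d6be0000020070ce1d5e3d1f686518da21db482a1f68e6715628dcceac3dd167126f1f181114b90d728526dd926356d57fa5db1eea0bd1734cf0656095d36d1d444000000004000051bf8c0eb0cab2fc2087ad0df40034809463db92c324046dcfad87293ffb99580044741e22a7a6adbfc0c8f771ca3efd084fd7fb065710a1f8ec86603b975867493555de01be2be4ce962815fa8cde2344a9e800404600206c7c32836552c0407f728c6a0c6e76e843f516af02ccfc8dc4664e7a2d464cb70d9d69178e13e3a0586420ed3ec8205055d3ab10e90690a51043bfb1c31f5a7f2b84093307f9dc9453825c9e114d07578e3816ff8000143445835d986f59692ff0002000000000155388304dc8d80020000000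0074584278b6a44548618ba0779ce9553ac3be468a25a9361a0600005258245939e494065b9d13c00002000000061ff83aba4e9244b6bd0e0ae3c08006a03630078cdfe374791782000013045790000890001893ae9c0313977ddd1711af8cade80139d47abb827bf7929735edaa33f6c196048d7af889f9d30d28dfc607586556fe64589eaef33a35a6bc9a9b512feb21017e15eef1dad27f0f000002200043a034ce81597ab816991cb5e896afd1e95c95d410451e0d72e48778b8e92e2fa800000000000203855fdadf3ce6825ef2207519000000e4c03e2a8c795086e0c88d9bee5c19c883a554790ee18b00000000000010000000000001000000000000100000000000010000000000001000000000000100000000000010000000000001000000000000100000000000010000000000001000000000000100000000000010000000000001000000000000100000000000010000000000001000000000000100000000000010000000000001000000000000100000000000010000000000001000000000000100000000000010000000000001000000000000100000000000010000000000001000000000000100000000000010000000000001000000000000100000000000010000000000001000000000000100000000000010000000000001000000000000100000000000010000000000001000000000000100000000000010000000000001000000000000100000000000010000000000001000000000000100000000000010000000000001)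 2601 (msk 2601))
def hW : ℕ → ℕ := fld 0x32638653134236846248620000000000013787638426423642868700000000000072631363426468642643 128 (msk 128)

theorem hG_el : He.mA.El ⊤ hG := Mdl.el_of_pad (Mdl.in_of_chkI He.mA (fun _ => rfl) (gi := hG)
  (show ∀ s < 9, chkI (mul2 51) (one2 51) hG hG s = 0 by decide +kernel))

theorem hG0 : hG 0 = He.mA.one := show hG 0 = one2 51 by decide +kernel

theorem hG_rel : ∀ w ∈ RL_TT, val (fun c => He.mA.elt (hG c)) w = 1 := mdl_rel hG_el hG0
  (show ∀ w ∈ RL_TT, w < 16 ^ 32 ∧ evw (mul2 51) (one2 51) hG 32 w = one2 51 by decide +kernel)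

theorem hG_gen : He.qG ≤ gen (fun c => He.mA.elt (hG c)) 8 := by
  have h : ∀ s < 3, hW s < 16 ^ 32 ∧ evw (mul2 51) (one2 51) hG 32 (hW s) = He.Hg s := by
    decide +kernel
  refine sup_le ((Subgroup.map_id _).le.trans
    (Mdl.gn_le fun s hs => mdl_in (m := He.mA) hG_el hG0 (h s hs))) ?_
  rw [Subgroup.zpowers_le]
  exact (mdl_in (m := He.mA) (w := 0x7876313532426846424316) hG_el hG0
    (show _ ∧ evw (mul2 51) (one2 51) hG 32 _ = He.qD 1 by decide +kernel)).elt_mem

theorem isHe_qG : IsHe He.qG := ⟨He.simpleG, He.cardG⟩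

theorem iso_TT {G : Type u} [Group G] [Nontrivial G] (lt : ℕ → G) (h0 : lt 0 = 1)
    (hrel : ∀ w ∈ RL_TT, val lt w = 1) (hgen : gen lt 8 = ⊤) : Nonempty (G ≃* He.qG) :=
  have k0 : He.mA.elt (hG 0) = 1 := by rw [hG0, Mdl.elt_one]
  iso_of He.simpleG ub_TT He.cardG k0 hG_rel (gen_eq ub_TT He.cardG k0 hG_rel hG_gen) lt h0 hrel hgen

end Cfsg.Agent.H6.He
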