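import Cfsg.Agent.H6.J3K0
import Cfsg.Agent.H6.J3K1
import Cfsg.Agent.H6.J3K2
import Cfsg.Agent.H6.J3K3
import Cfsg.Agent.H6.J3K4
import Cfsg.Agent.H6.J3K5

set_option autoImplicit false
set_option maxRecDepth 100000

namespace Cfsg.Agent.H6.J3

open Cfsg.Agent.H5 Cfsg.Agent.H8.TC Cfsg.Agent.H6.TT

theorem jg_0 : blk jg (nat_lit 52326) (nat_lit 0) (nat_lit 64) = 0 := by decide +kernel
theorem jg_64 : blk jg (nat_lit 52326) (nat_lit 64) (nat_lit 64) = 0 := by decide +kernel
theorem jg_128 : blk jg (nat_lit 52326) (nat_lit 128) (nat_lit 64) = 0 := by decide +kernel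
theorem jg_192 : blk jg (nat_lit 52326) (nat_lit 192) (nat_lit 64) = 0 := by decide +kernel
theorem jg_256 : blk jg (nat_lit 52326) (nat_lit 256) (nat_lit 64) = 0 := by decide +kernel
theorem jg_320 : blk jg (nat_lit 52326) (nat_lit 320) (nat_lit 64) = 0 := by decide +kernel
theorem jg_384 : blk jg (nat_lit 52326) (nat_lit 384) (nat_lit 64) = 0 := by decide +kernel
theorem jg_448 : blk jg (nat_lit 52326) (nat_lit 448) (nat_lit 64) = 0 := by decide +kernel
theorem jg_512 : blk jg (nat_lit 52326) (nat_lit 512) (nat_lit 64) = 0 := by decide +kernel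
theorem jg_576 : blk jg (nat_lit 52326) (nat_lit 576) (nat_lit 64) = 0 := by decide +kernel
theorem jg_640 : blk jg (nat_lit 52326) (nat_lit 640) (nat_lit 64) = 0 := by decide +kernel
theorem jg_704 : blk jg (nat_lit 52326) (nat_lit 704) (nat_lit 64) = 0 := by decide +kernel
theorem jg_768 : blk jg (nat_lit 52326) (nat_lit 768) (nat_lit 50) = 0 := by decide +kernel
theorem jf_all : ∀ i < 52326, jf i = 0 :=
  blk_end (blk_step (blk_step (blk_step (blk_step (blk_step (blk_step (blk_step (blk_step (blk_step (blk_step (blk_step (blk_step (blk_step (blk_step (blk_step (blk_step (blk_step (blk_step (blk_step (blk_step (blk_step (blk_step (blk_step (blk_step (blk_step (blk_step (blk_step (blk_step (blk_step (blk_step (blk_step (blk_step (blk_step (blk_step (blk_step (blk_step (blk_step (blk_step (blk_step (blk_step (blk_step (blk_step (blk_step (blk_step (blk_step (blk_step (blk_step (blk_step (blk_step (blk_step (blk_step (blk_step (blk_step (blk_step (blk_init _ _)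
    jf_0)
    jf_16)
    jf_32)
    jf_48)
    jf_64)
    jf_80)
    jf_96)
    jf_112)
    jf_128)
    jf_137)
    jf_153)
    jf_169)
    jf_185)
    jf_201)
    jf_217)
    jf_233)
    jf_249)
    jf_265)
    jf_274)
    jf_290)
    jf_306)
    jf_322)
    jf_338)
    jf_354)
    jf_370)
    jf_386)
    jf_402)
    jf_411)
    jf_427)
    jf_443)
    jf_459)
    jf_475)
    jf_491)
    jf_507)
    jf_523)
    jf_539)
    jf_548)
    jf_564)
    jf_580)
    jf_596)
    jf_612)
    jf_628)
    jf_644)
    jf_660)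
    jf_676)
    jf_685)
    jf_701)
    jf_717)
    jf_733)
    jf_749)
    jf_765)
    jf_781)
    jf_797)
    jf_813) (by decide)

theorem jg_all : ∀ i < 52326, jg i = 0 :=
  blk_end (blk_step (blk_step (blk_step (blk_step (blk_step (blk_step (blk_step (blk_step (blk_step (blk_step (blk_step (blk_step (blk_step (blk_init _ _)
    jg_0)
    jg_64)
    jg_128)
    jg_192)
    jg_256)
    jg_320)
    jg_384)
    jg_448)
    jg_512)
    jg_576)
    jg_640)
    jg_704)
    jg_768) (by decide)

theorem jR_ok : chkRoots jT 6 5 (nat_lit 1) jR = 0 := by decide +kernel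
theorem jR_fst : jR.map Prod.fst = jRT := by decide +kernel
theorem j_fin : nx jT 0 6 = 1 := by decide +kernel
theorem j_fix : ∀ a ∈ jBT, a < 52326 ∧ ∀ c : Fin 6, 1 ≤ c.1 → nx jT a c.1 = a := by decide +kernel

end Cfsg.Agent.H6.J3
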